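import Cfsg.Agent.ClassicalMax.Unitary

/-!
Three-dimensional special unitary groups: all isotropic centres give the whole group, and three independent
centres give all centres.
-/

set_option autoImplicit false

namespace Cfsg.Agent.ClassicalMax.SU3

open Cfsg.Agent.Classical Cfsg.Agent.ClassicalMax Cfsg.Agent.ClassicalMax.Unitary Module

/-- the fixed field has an element other than zero and one -/
theorem exists_fixed {F : Type*} [Field F] [Fintype F] {σ : F →+* F} {q : ℕ} (hF : Fintype.card F = q ^ 2)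
    (hσq : ∀ x, σ x = x ^ q) (hq : 3 ≤ q) : ∃ r : F, σ r = r ∧ r ≠ 0 ∧ r ≠ 1 := by
  by_contra! hc
  obtain ⟨z, hz⟩ : ∃ z : Fˣ, orderOf z = q ^ 2 - 1 := by
    obtain ⟨g, hg⟩ := IsCyclic.exists_generator (α := Fˣ)
    exact ⟨g, by rw [orderOf_eq_card_of_forall_mem_zpowers hg, Nat.card_units, Nat.card_eq_fintype_card, hF]⟩
  have hfac : q ^ 2 - 1 = (q + 1) * (q - 1) := by simpa using Nat.sq_sub_sq q 1
  have hfix : σ ((z : F) ^ (q + 1)) = (z : F) ^ (q + 1) := by
    rw [hσq, ← pow_mul, show (q + 1) * q = (q + 1) * (q - 1) + (q + 1) by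
      rw [← Nat.mul_succ]; congr 1; omega, pow_add, ← hfac, ← Units.val_pow_eq_pow_val, ← hz, pow_orderOf_eq_one,
      Units.val_one, one_mul]
  have h1 := hc _ hfix (pow_ne_zero _ z.ne_zero)
  rw [← Units.val_pow_eq_pow_val, Units.val_eq_one] at h1
  have := orderOf_le_of_pow_eq_one (by omega) h1
  rw [hz, hfac] at this
  have h2 : (q + 1) * 2 ≤ (q + 1) * (q - 1) := Nat.mul_le_mul_left _ (by omega)
  omega

section

variable {F V : Type*} [Field F] [AddCommGroup V] [Module F V] {σ : F →+* F} {B : V →ₛₗ[σ] V →ₗ[F] F}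
  [Finite F] [FiniteDimensional F V] (hB : Herm.IsHerm B) {M : Subgroup (V ≃ₗ[F] V)}
include hB

/-- all centres give the special unitary group -/
theorem suG_le (hn : 2 ≤ finrank F V) (hr : ∃ r : F, σ r = r ∧ r ≠ 0 ∧ r ≠ 1)
    (h : ∀ v, B v v = 0 → v ∈ centres B M) : Herm.suG B ≤ M := by
  rw [← Herm.suG_eq_TUon hB hn (Or.inl hr), Herm.TUon, Subgroup.closure_le]
  rintro t ⟨v, -, c, hv, hc, ht⟩
  have : t = Herm.tvU hv c := LinearEquiv.ext fun x => ht x
  rw [this]; exact (h v hv).2 hv c hc

/-- two orthogonal isotropic vectors are dependent -/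
theorem orth_dep (h3 : finrank F V ≤ 3) {e f : V} (he0 : e ≠ 0) (hee : B e e = 0) (hff : B f f = 0) (hef : B e f = 0) :
    ∃ a : F, a • e = f := by
  by_contra! hne
  have hli : LinearIndependent F ![e, f] := LinearIndependent.pair_iff' he0 |>.2 hne
  have hfe := (Herm.eq_zero_comm hB).1 hef
  let W : Submodule F V := Submodule.span F (Set.range ![e, f])
  have hW : finrank F W = 2 := by rw [finrank_span_eq_card hli, Fintype.card_fin]
  have hT : ∀ x ∈ W, ∀ y ∈ W, B x y = 0 := by
    intro x hx y hy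
    obtain ⟨a, rfl⟩ := (Submodule.mem_span_range_iff_exists_fun F).1 hx
    obtain ⟨b, rfl⟩ := (Submodule.mem_span_range_iff_exists_fun F).1 hy
    simp [Fin.sum_univ_two, hee, hff, hef, hfe]
  obtain ⟨w, hw, hw0⟩ := exists_aniso hB W (by omega)
  exact hw0 (hT w hw w hw)

/-- on a hyperbolic line with all centres, equal non-zero norms are connected -/
theorem plane_move {e f m : V} (hee : B e e = 0) (hff : B f f = 0) (hef : B e f = 1) (hem : B e m = 0)
    (hfm : B f m = 0) (he : e ∈ centres B M) (hf : f ∈ centres B M) (hiso : ∀ g ∈ M, ∀ x y, B (g x) (g y) = B x y)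
    {a b a' b' : F} (hab : σ a * b + σ b * a = -1) (hab' : σ a' * b' + σ b' * a' = -1)
    (h : a • e + b • f + m ∈ centres B M) : a' • e + b' • f + m ∈ centres B M := by
  have hfe : B f e = 1 := by rw [← hB.symm, hef, map_one]
  -- the two moves
  have me : ∀ {a b a' : F}, σ a * b + σ b * a = -1 → σ a' * b + σ b * a' = -1 → a • e + b • f + m ∈ centres B M →
      a' • e + b • f + m ∈ centres B M := by
    intro a b a' h1 h2 hm
    have hb : b ≠ 0 := fun e => by simp [e] at h1
    have hsb : σ b ≠ 0 := (map_ne_zero σ).2 hb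
    have hc : (a' - a) / b + σ ((a' - a) / b) = 0 := by
      rw [map_div₀, map_sub]; field_simp; linear_combination h2 - h1
    have := move_mem_centres hB hm he hc
    have e1 : B e (a • e + b • f + m) = b := by simp [hee, hef, hem]
    rw [e1, div_mul_cancel₀ _ hb] at this
    convert this using 1
    module
  have mf : ∀ {a b b' : F}, σ a * b + σ b * a = -1 → σ a * b' + σ b' * a = -1 → a • e + b • f + m ∈ centres B M →
      a • e + b' • f + m ∈ centres B M := by
    intro a b b' h1 h2 hm
    have ha : a ≠ 0 := fun e => by simp [e] at h1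
    have hsa : σ a ≠ 0 := (map_ne_zero σ).2 ha
    have hc : (b' - b) / a + σ ((b' - b) / a) = 0 := by
      rw [map_div₀, map_sub]; field_simp; linear_combination h2 - h1
    have := move_mem_centres hB hm hf hc
    have e1 : B f (a • e + b • f + m) = a := by simp [hff, hfe, hfm]
    rw [e1, div_mul_cancel₀ _ ha] at this
    convert this using 1
    module
  -- to and from the second coordinate one
  have key : ∀ {a b : F}, σ a * b + σ b * a = -1 → ∃ a1, σ a1 + a1 = -1 ∧
      (a • e + b • f + m ∈ centres B M ↔ a1 • e + (1 : F) • f + m ∈ centres B M) := by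
    intro a b h1
    obtain ⟨b2, hb2, hne⟩ : ∃ b2, σ a * b2 + σ b2 * a = -1 ∧ σ b2 ≠ b2 := by
      by_cases hb : σ b ≠ b
      · exact ⟨b, h1, hb⟩
      rw [not_not] at hb
      obtain ⟨k, hk0, hk⟩ := Herm.exists_skew hB.toIsInvol
      have ha : a ≠ 0 := fun e => by simp [e] at h1
      have hb0 : b ≠ 0 := fun e => by simp [e] at h1
      refine ⟨b + k * a, by rw [map_add, map_mul, hk]; linear_combination h1, fun hfix => ?_⟩
      rw [map_add, map_mul, hk, hb] at hfix
      have h2 : σ a + a = 0 := by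
        have : k * (σ a + a) = 0 := by linear_combination -hfix
        exact (mul_eq_zero.1 this).resolve_left hk0
      exact absurd (show (-1 : F) = 0 by rw [← h1, hb]; linear_combination b * h2) (by simp)
    have hd : b2 - σ b2 ≠ 0 := sub_ne_zero.2 (Ne.symm hne)
    have hd' : σ b2 - b2 ≠ 0 := sub_ne_zero.2 hne
    set a1 := (b2 - 1) / (σ b2 - b2) with ha1
    have hs : σ a1 = (σ b2 - 1) / (b2 - σ b2) := by rw [ha1, map_div₀, map_sub, map_sub, map_one, hB.invol]
    have r1 : σ a1 + a1 = -1 := by rw [hs, ha1]; field_simp; ring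
    have r2 : σ a1 * b2 + σ b2 * a1 = -1 := by rw [hs, ha1]; field_simp; ring
    have r1' : σ a1 * 1 + σ (1 : F) * a1 = -1 := by rw [map_one, mul_one, one_mul]; exact r1
    exact ⟨a1, r1, fun hm => mf r2 r1' (me hb2 r2 (mf h1 hb2 hm)), fun hm => mf hb2 h1 (me r2 hb2 (mf r1' r2 hm))⟩
  obtain ⟨a1, h1, e1⟩ := key hab
  obtain ⟨a2, h2, e2⟩ := key hab'
  exact e2.2 (me (by rw [map_one, mul_one, one_mul]; exact h1) (by rw [map_one, mul_one, one_mul]; exact h2) (e1.1 h))

/-- three independent centres give all -/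
theorem centres_of_three (h3 : finrank F V = 3) (hiso : ∀ g ∈ M, ∀ x y, B (g x) (g y) = B x y) {e f x : V}
    (he : e ∈ centres B M) (hf : f ∈ centres B M) (hx : x ∈ centres B M) (he0 : e ≠ 0)
    (hfe : f ∉ F ∙ e) (hxef : x ∉ Submodule.span F {e, f}) : ∀ v, B v v = 0 → v ∈ centres B M := by
  have hef0 : B e f ≠ 0 := fun h => hfe (Submodule.mem_span_singleton.2 (orth_dep hB (by omega) he0 he.1 hf.1 h))
  set f' := (B e f)⁻¹ • f with hf'
  have hf'C : f' ∈ centres B M := smul_mem_centres hB hf _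
  have hef : B e f' = 1 := by rw [hf', map_smul, smul_eq_mul, inv_mul_cancel₀ hef0]
  have hfe' : B f' e = 1 := by rw [← hB.symm, hef, map_one]
  have hff : B f' f' = 0 := hf'C.1
  have hspan : Submodule.span F {e, f'} ≤ Submodule.span F ({e, f} : Set V) := by
    rw [Submodule.span_le]
    rintro z (rfl | rfl)
    · exact Submodule.subset_span (by simp)
    · exact Submodule.smul_mem _ _ (Submodule.subset_span (by simp))
  clear_value f'
  set r := x - B f' x • e - B e x • f' with hr
  have hr0 : r ≠ 0 := fun h => hxef (hspan (by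
    rw [show x = B f' x • e + B e x • f' by rw [← sub_eq_zero, ← h, hr]; module]
    exact Submodule.add_mem _ (Submodule.smul_mem _ _ (Submodule.subset_span (by simp)))
      (Submodule.smul_mem _ _ (Submodule.subset_span (by simp)))))
  have her : B e r = 0 := by simp [hr, he.1, hef]
  have hfr : B f' r = 0 := by simp [hr, hff, hfe']
  have hperp : ∀ v, B e v = 0 → B f' v = 0 → ∃ t : F, t • r = v := by
    intro v hev hfv
    by_contra! hne
    have hli : LinearIndependent F ![r, v] := LinearIndependent.pair_iff' hr0 |>.2 hne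
    have hle : Submodule.span F (Set.range ![r, v]) ≤ perp B [e, f'] := by
      rw [Submodule.span_le]
      rintro _ ⟨i, rfl⟩
      fin_cases i <;> simp [mem_perp, her, hfr, hev, hfv]
    have h1 := Submodule.finrank_mono hle
    rw [finrank_span_eq_card hli, Fintype.card_fin] at h1
    have hli2 : LinearIndependent F ![e, f'] := LinearIndependent.pair_iff' he0 |>.2 fun a ha => by
      have := hef
      rw [← ha, map_smul, he.1, smul_zero] at this
      exact zero_ne_one this
    have h2 : perp B [e, f'] ⊓ Submodule.span F (Set.range ![e, f']) = ⊥ := by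
      rw [Submodule.eq_bot_iff]
      rintro z ⟨hz, hz'⟩
      obtain ⟨c, rfl⟩ := (Submodule.mem_span_range_iff_exists_fun F).1 hz'
      have h3 := mem_perp.1 hz e (by simp)
      have h4 := mem_perp.1 hz f' (by simp)
      simp [Fin.sum_univ_two, he.1, hef] at h3
      simp [Fin.sum_univ_two, hff, hfe', h3] at h4
      simp [Fin.sum_univ_two, h3, h4]
    have h5 := Submodule.finrank_sup_add_finrank_inf_eq (perp B [e, f']) (Submodule.span F (Set.range ![e, f']))
    rw [h2, finrank_bot, finrank_span_eq_card hli2, Fintype.card_fin] at h5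
    have := Submodule.finrank_le (perp B [e, f'] ⊔ Submodule.span F (Set.range ![e, f']))
    omega
  have hrr : B r r ≠ 0 := fun h0 => hr0 (hB.nondeg r fun y => by
    obtain ⟨t, ht⟩ := hperp (y - B f' y • e - B e y • f') (by simp [he.1, hef]) (by simp [hff, hfe'])
    have hy : y = B f' y • e + B e y • f' + t • r := by rw [ht]; module
    rw [hy]; simp [(Herm.eq_zero_comm hB).1 her, (Herm.eq_zero_comm hB).1 hfr, h0])
  obtain ⟨s, hs⟩ := Herm.exists_norm hB.toIsInvol (a := (B r r)⁻¹) (by rw [map_inv₀, Herm.fix_self hB])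
  have hs0 : s ≠ 0 := fun h => inv_ne_zero hrr (by rw [← hs, h, zero_mul])
  set m := s • r with hm
  have hem : B e m = 0 := by rw [hm, map_smul, her, smul_zero]
  have hfm : B f' m = 0 := by rw [hm, map_smul, hfr, smul_zero]
  have hmm : B m m = 1 := by rw [hm, Herm.smul_self hB, hs, inv_mul_cancel₀ hrr]
  have hme : B m e = 0 := (Herm.eq_zero_comm hB).1 hem
  have hmf : B m f' = 0 := (Herm.eq_zero_comm hB).1 hfm
  have expand : ∀ v, v = B f' v • e + B e v • f' + B m v • m := fun v => by
    obtain ⟨t, ht⟩ := hperp (v - B f' v • e - B e v • f') (by simp [he.1, hef]) (by simp [hff, hfe'])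
    have hv : v = B f' v • e + B e v • f' + (t / s) • m := by
      rw [hm, smul_smul, div_mul_cancel₀ _ hs0, ht]; module
    have h1 : B m v = t / s := by
      conv_lhs => rw [hv]
      simp [hme, hmf, hmm]
    rw [h1]; exact hv
  have hnorm : ∀ v, B v v = 0 → σ (B f' v) * B e v + σ (B e v) * B f' v + σ (B m v) * B m v = 0 := fun v hv => by
    have := hv
    conv_lhs at this => rw [expand v]
    simp [he.1, hff, hef, hfe', hem, hfm, hme, hmf, hmm] at this
    linear_combination this
  have hxm : B m x ≠ 0 := fun h => hxef (hspan (by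
    rw [expand x, h, zero_smul, add_zero]
    exact Submodule.add_mem _ (Submodule.smul_mem _ _ (Submodule.subset_span (by simp)))
      (Submodule.smul_mem _ _ (Submodule.subset_span (by simp)))))
  have hscale : ∀ v, B m v ≠ 0 → (B m v)⁻¹ • v = ((B m v)⁻¹ * B f' v) • e + ((B m v)⁻¹ * B e v) • f' + m := fun v hv => by
    conv_lhs => rw [show (B m v)⁻¹ • v = (B m v)⁻¹ • (B f' v • e + B e v • f' + B m v • m) from congrArg _ (expand v)]
    rw [smul_add, smul_add, smul_smul, smul_smul, smul_smul, inv_mul_cancel₀ hv, one_smul]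
  have hcond : ∀ v, B v v = 0 → B m v ≠ 0 → σ ((B m v)⁻¹ * B f' v) * ((B m v)⁻¹ * B e v) +
      σ ((B m v)⁻¹ * B e v) * ((B m v)⁻¹ * B f' v) = -1 := fun v hv hv0 => by
    have hv1 : σ (B m v) ≠ 0 := (map_ne_zero σ).2 hv0
    rw [map_mul, map_mul, map_inv₀]
    field_simp
    linear_combination hnorm v hv
  intro v hv
  by_cases hvm : B m v = 0
  · -- on the line
    by_cases hev : B e v = 0
    · rw [expand v, hev, hvm, zero_smul, zero_smul, add_zero, add_zero]
      exact smul_mem_centres hB he _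
    have hsev : σ (B e v) ≠ 0 := (map_ne_zero σ).2 hev
    have h0 := hnorm v hv
    rw [hvm] at h0
    simp at h0
    have hc : B f' v / B e v + σ (B f' v / B e v) = 0 := by
      rw [map_div₀]; field_simp; linear_combination h0
    have h1 := move_mem_centres hB hf'C he hc
    rw [hef, mul_one] at h1
    have h2 := smul_mem_centres hB h1 (B e v)
    have e2 : B e v • (f' + (B f' v / B e v) • e) = v := by
      rw [smul_add, smul_smul, mul_div_cancel₀ _ hev, add_comm]
      conv_rhs => rw [expand v, hvm, zero_smul, add_zero]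
    rwa [e2] at h2
  · have h1 := smul_mem_centres hB hx (B m x)⁻¹
    rw [hscale x hxm] at h1
    have h2 := plane_move hB he.1 hff hef hem hfm he hf'C hiso (hcond x hx.1 hxm) (hcond v hv hvm) h1
    rw [← hscale v hvm] at h2
    have h3 := smul_mem_centres hB h2 (B m v)
    rwa [smul_smul, mul_inv_cancel₀ hvm, one_smul] at h3

/-- an irreducible group with one centre has all -/
theorem centres_of_irreducible (h3 : finrank F V = 3) (hiso : ∀ g ∈ M, ∀ x y, B (g x) (g y) = B x y)
    (hirr : ∀ U : Submodule F V, (∀ g ∈ M, ∀ u ∈ U, g u ∈ U) → U = ⊥ ∨ U = ⊤) {e : V} (he : e ∈ centres B M)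
    (he0 : e ≠ 0) : ∀ v, B v v = 0 → v ∈ centres B M := by
  have hspan : Submodule.span F (centres B M) = ⊤ := by
    refine (hirr _ fun g hg u hu => ?_).resolve_left fun h => he0 ?_
    · have hle : Submodule.span F (centres B M) ≤ (Submodule.span F (centres B M)).comap g.toLinearMap :=
        Submodule.span_le.2 fun v hv => Submodule.subset_span (map_mem_centres hB hv hg (hiso g hg))
      exact hle hu
    · exact (Submodule.mem_bot F).1 (h ▸ Submodule.subset_span he)
  have hdim : ∀ S : Set V, S.Finite → Nat.card S ≤ 2 → Submodule.span F S ≠ ⊤ := fun S hS hc h => by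
    haveI := hS.fintype
    have h1 := finrank_span_le_card (R := F) S
    rw [h, finrank_top, h3, Set.toFinset_card] at h1
    rw [Nat.card_eq_fintype_card] at hc
    omega
  obtain ⟨f, hf, hfe⟩ : ∃ f ∈ centres B M, f ∉ F ∙ e := by
    by_contra! hc
    refine hdim {e} (Set.finite_singleton e) (by simp) (top_le_iff.1 ?_)
    rw [← hspan]; exact Submodule.span_le.2 hc
  obtain ⟨x, hx, hxef⟩ : ∃ x ∈ centres B M, x ∉ Submodule.span F {e, f} := by
    by_contra! hc
    refine hdim {e, f} (Set.toFinite _) ?_ (top_le_iff.1 ?_)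
    · rw [Nat.card_coe_set_eq]; exact (Set.ncard_insert_le _ _).trans (by simp)
    · rw [← hspan]; exact Submodule.span_le.2 hc
  exact centres_of_three hB h3 hiso he hf hx he0 hfe hxef

end

section Matrices

variable {F : Type*} [Field F] [Fintype F] {q : ℕ} {σ : F →+* F}

/-- maximality in the three-dimensional special unitary group from all centres -/
theorem isMaximalIn_su3 (hσ : Herm.IsInvol σ) (hσq : ∀ x, σ x = x ^ q) (hr : ∃ r : F, σ r = r ∧ r ≠ 0 ∧ r ≠ 1)
    (K : Subgroup (Matrix.GeneralLinearGroup (Fin 3) F))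
    (hproper : ∃ (v : Fin 3 → F) (hv : hermB 3 σ v v = 0) (c : F), c + σ c = 0 ∧
      (glEquiv (Fin 3) F).symm (Herm.tvU hv c) ∉ K)
    (h : ∀ M : Subgroup ((Fin 3 → F) ≃ₗ[F] (Fin 3 → F)), M ≤ Herm.suG (hermB 3 σ) →
      (∀ g : (Fin 3 → F) ≃ₗ[F] (Fin 3 → F), (∀ x y, hermB 3 σ (g x) (g y) = hermB 3 σ x y) →
        LinearMap.det g.toLinearMap = 1 → (glEquiv (Fin 3) F).symm g ∈ K → g ∈ M) →
      (∃ g : (Fin 3 → F) ≃ₗ[F] (Fin 3 → F), g ∈ M ∧ (glEquiv (Fin 3) F).symm g ∉ K) →
      ∀ v, hermB 3 σ v v = 0 → v ∈ centres (hermB 3 σ) M) :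
    Cfsg.Geo.IsMaximalIn (Cfsg.GU 3 F q ⊓ Cfsg.Geo.specialLinear (Fin 3) F)
      (K ⊓ (Cfsg.GU 3 F q ⊓ Cfsg.Geo.specialLinear (Fin 3) F)) := by
  have hB := hermB_isHerm (n := 3) hσ
  constructor
  · refine lt_of_le_of_ne inf_le_right fun heq => ?_
    obtain ⟨v, hv, c, hc, hvc⟩ := hproper
    refine hvc (heq.ge ((glEquiv_mem_iff hσq _).2 ?_)).1
    rw [MulEquiv.apply_symm_apply]
    have := Herm.tvU_mem hB hv hc
    exact ⟨this.1, by simpa [Units.ext_iff] using this.2⟩
  · intro M hM1 hM2
    by_cases hle : M ≤ K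
    · exact Or.inl (le_antisymm (le_inf hle hM2) hM1)
    refine Or.inr (le_antisymm hM2 fun k hk => ?_)
    obtain ⟨g, hg, hgK⟩ := SetLike.not_le_iff_exists.1 hle
    have hsub : M.map (glEquiv (Fin 3) F).toMonoidHom ≤ Herm.suG (hermB 3 σ) := by
      rintro _ ⟨x, hx, rfl⟩
      exact mem_suG hB ((glEquiv_mem_iff hσq x).1 (hM2 hx)).1 ((glEquiv_mem_iff hσq x).1 (hM2 hx)).2
    have hall := h (M.map (glEquiv (Fin 3) F).toMonoidHom) hsub
      (fun g hgi hgd hgK => ⟨_, hM1 ⟨hgK, (glEquiv_mem_iff hσq _).2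
        (by rw [MulEquiv.apply_symm_apply]; exact ⟨hgi, hgd⟩)⟩, MulEquiv.apply_symm_apply _ g⟩)
      ⟨_, Subgroup.mem_map_of_mem _ hg, by rw [MulEquiv.coe_toMonoidHom, MulEquiv.symm_apply_apply]; exact hgK⟩
    obtain ⟨k', hk', e⟩ := suG_le hB (by rw [Module.finrank_fin_fun]; norm_num) hr hall
      (mem_suG hB ((glEquiv_mem_iff hσq k).1 hk).1 ((glEquiv_mem_iff hσq k).1 hk).2)
    exact (glEquiv (Fin 3) F).injective e ▸ hk'

end Matrices

end Cfsg.Agent.ClassicalMax.SU3
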