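import Cfsg.Agent.ClassicalMax.SU3.MonoPlane
import Cfsg.Agent.ClassicalMax.SU3.Base

/-!
Monomial groups in dimension three: a larger group has all centres.
-/

set_option autoImplicit false

namespace Cfsg.Agent.ClassicalMax.SU3.Mono

open Cfsg.Agent.Classical Cfsg.Agent.ClassicalMax.Unitary Cfsg.Agent.UnitDec Module

variable {F V ι : Type*} [Field F] [Fintype F] [DecidableEq F] [AddCommGroup V] [Module F V] [FiniteDimensional F V]
  {σ : F →+* F} [Fintype ι] [DecidableEq ι] {B : V →ₛₗ[σ] V →ₗ[F] F} {e : Basis ι F V} {M : Subgroup (V ≃ₗ[F] V)}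

omit [DecidableEq F] in
theorem sum_prod_aux (h3 : Fintype.card ι = 3) (m : ι) {p r : F} : ∏ i, (if i = m then p else r) = p * (r * r) := by
  rw [Finset.prod_eq_mul_prod_diff_singleton_of_mem (Finset.mem_univ m),
    Finset.prod_congr rfl (fun i hi => show (if i = m then p else r) = r by
      simp only [Finset.mem_sdiff, Finset.mem_singleton] at hi; simp [hi.2]),
    Finset.prod_const, Finset.card_sdiff_of_subset (Finset.subset_univ _), Finset.card_univ, h3, Finset.card_singleton,
    if_pos rfl]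
  ring

section

variable (H : MonBase B e M) (h3 : Fintype.card ι = 3)
include H h3

/-- an entry of norm other than one: the two others in its column have one norm -/
theorem balanced (hq : 3 ≤ qq σ) (hq5 : qq σ ≠ 5) (NF : NoFix B e M) (FL : Full B e M) {g : V ≃ₗ[F] V} (hgM : g ∈ M)
    (hg : Iso B g) (hgm : ¬ Mono B e g) (j l : ι) (hn : B (e l) (g (e j)) * σ (B (e l) (g (e j))) ≠ 1) :
    (2 : F) ≠ 0 ∧ ∀ i k, i ≠ l → k ≠ l → i ≠ k →
      B (e i) (g (e j)) * σ (B (e i) (g (e j))) = B (e k) (g (e j)) * σ (B (e k) (g (e j))) := by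
  classical
  have hB := H.herm
  have hon := H.onb
  set y := g (e j) with hy
  have hfull : ∀ i, B (e i) y ≠ 0 := fun i => FL g hgM hg hgm i j
  set f := y - B (e l) y • e l with hf
  set m := B f f with hm
  have hyy : B y y = 1 := by rw [hy, hg, hon, if_pos rfl]
  have hm0 : m ≠ 0 := fun h0 => hn (by
    have : m = 1 - B (e l) y * σ (B (e l) y) := by
      simp only [hm, hf, map_sub, map_smul, map_smulₛₗ, LinearMap.sub_apply, LinearMap.smul_apply, smul_eq_mul, hyy,
        hon l l, ← hB.symm (e l) y, if_true]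
      ring
    linear_combination this - h0)
  by_contra hc
  have hnoJ : ¬ ∃ J ∈ planeOne B M (e l) y, IsNeg (e l) f J := by
    rintro ⟨J, hJ, hJn⟩
    rcases fix_one H h3 hf hm hm0 hfull hyy NF hJ (a := -1) (by rw [hJn.1, neg_one_smul]) with h | h
    · rw [h] at hJn
      have := congrArg (B (e l)) hJn.1
      simp [hon l l] at this
      exact hJn.2.2 (by linear_combination this)
    · exact hc ⟨h.1.2.2, h.2⟩
  obtain ⟨a, ha, b, hb, ha1, hb1, hab⟩ := two_cubes hB.toIsInvol hq hq5
  obtain ⟨ζ, hζ, rfl⟩ := Finset.mem_image.1 ha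
  obtain ⟨ξ, hξ, rfl⟩ := Finset.mem_image.1 hb
  refine closing H h3 hf hm hm0 hfull hyy NF hgM hg hy.symm (mem_U.1 hζ) ha1 (fun h => absurd h hnoJ) fun z hz => ⟨B (e l) (z (e l)), ?_⟩
  have k1 := (key H h3 hf hm hm0 hfull hyy NF (mem_U.1 hζ) ha1 (fun h => absurd h hnoJ) hz).resolve_right fun h => hnoJ h.1
  have k2 := (key H h3 hf hm hm0 hfull hyy NF (mem_U.1 hξ) hb1 (fun h => absurd h hnoJ) hz).resolve_right fun h => hnoJ h.1
  exact line_of_two H hf hm hm0 hz.1 (fun h => hab (inv_inj.1 h)) (s := 1) (one_mul 1) k1 k2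

/-- outside three exceptional fields all entries have norm one -/
theorem norm_one (h8 : 3 < qq σ) (hq5 : qq σ ≠ 5) (hq8 : qq σ ≠ 8) (hq11 : qq σ ≠ 11) (NF : NoFix B e M)
    (FL : Full B e M) {g : V ≃ₗ[F] V} (hgM : g ∈ M) (hg : Iso B g) (hgm : ¬ Mono B e g) (j l : ι) :
    B (e l) (g (e j)) * σ (B (e l) (g (e j))) = 1 := by
  classical
  have hB := H.herm
  have hon := H.onb
  by_contra hn
  set y := g (e j) with hy
  have hfull : ∀ i, B (e i) y ≠ 0 := fun i => FL g hgM hg hgm i j
  set f := y - B (e l) y • e l with hf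
  set m := B f f with hm
  have hyy : B y y = 1 := by rw [hy, hg, hon, if_pos rfl]
  have hm0 : m ≠ 0 := fun h0 => hn (by
    have : m = 1 - B (e l) y * σ (B (e l) y) := by
      simp only [hm, hf, map_sub, map_smul, map_smulₛₗ, LinearMap.sub_apply, LinearMap.smul_apply, smul_eq_mul, hyy,
        hon l l, ← hB.symm (e l) y, if_true]
      ring
    linear_combination this - h0)
  obtain ⟨a, ha, b, hb, c, hc, hab, hac, hbc⟩ :=
    Finset.two_lt_card.1 (three_cubes hB.toIsInvol h8 hq5 hq8 hq11)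
  simp only [Finset.mem_erase, cubes, Finset.mem_image] at ha hb hc
  obtain ⟨ha', ha1, ζ, hζ, rfl⟩ := ha
  obtain ⟨hb', hb1, ξ, hξ, rfl⟩ := hb
  obtain ⟨hc', hc1, η, hη, rfl⟩ := hc
  have neg : ∀ {a : F}, a ≠ -1 → a⁻¹ ≠ -1 := fun {a} h h' => h (by rw [← inv_inv a, h', inv_neg_one])
  refine closing H h3 hf hm hm0 hfull hyy NF hgM hg hy.symm (mem_U.1 hζ) ha1 (fun _ => neg ha') fun z hz => ⟨B (e l) (z (e l)), ?_⟩
  have k := fun (ζ : F) (hζ : ζ ∈ U σ) (h1 : ζ ^ 3 ≠ 1) (h2 : ζ ^ 3 ≠ -1) =>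
    (key H h3 hf hm hm0 hfull hyy NF (mem_U.1 hζ) h1 (fun _ => neg h2) hz).imp id And.right
  have plus := fun {p p' : F} (hne : p ≠ p') => line_of_two H hf hm hm0 hz.1 (δ := p⁻¹) (δ' := p'⁻¹)
    (fun h => hne (inv_inj.1 h)) (s := 1) (one_mul 1)
  have minus := fun {p p' : F} (hne : p ≠ p') => line_of_two H hf hm hm0 hz.1 (δ := p⁻¹) (δ' := p'⁻¹)
    (fun h => hne (inv_inj.1 h)) (s := -1) (by ring)
  simp only [sub_neg_eq_add] at minus
  rcases k ζ hζ ha1 ha' with p | p <;> rcases k ξ hξ hb1 hb' with p' | p' <;> rcases k η hη hc1 hc' with p'' | p'' <;>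
    first
    | exact plus hab p p'
    | exact plus hac p p''
    | exact plus hbc p' p''
    | exact minus hab p p'
    | exact minus hac p p''
    | exact minus hbc p' p''

/-- in characteristic two not every entry has norm one -/
theorem even_false (h2 : (2 : F) = 0) (hq : 4 ≤ qq σ) (hq5 : qq σ ≠ 5) (NF : NoFix B e M) (FL : Full B e M)
    {g : V ≃ₗ[F] V} (hgM : g ∈ M) (hg : Iso B g) (hgm : ¬ Mono B e g) : False := by
  classical
  have hB := H.herm
  have hon := H.onb
  have hall : ∀ x ∈ M, Iso B x → ¬ Mono B e x → ∀ l j, B (e l) (x (e j)) * σ (B (e l) (x (e j))) = 1 :=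
    fun x hxM hxi hxm l j => by_contra fun h => (balanced H h3 (by omega) hq5 NF FL hxM hxi hxm j l h).1 h2
  obtain ⟨ζ, hζ, hζ'⟩ := Finset.exists_mem_notMem_of_card_lt_card
    (s := insert 1 ((U σ).filter fun z => z * σ z = 1 ∧ z + σ z + 1 = 0)) (t := U σ) (by
      refine lt_of_le_of_lt (Finset.card_insert_le _ _) ?_
      rw [card_U hB.toIsInvol]
      have := trace_le_two (σ := σ) (k := 1) (r := -1) one_ne_zero
        (s := (U σ).filter fun z => z * σ z = 1 ∧ z + σ z + 1 = 0) fun z hz => by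
          simp only [Finset.mem_filter] at hz
          exact ⟨hz.2.1, by rw [one_mul]; linear_combination hz.2.2⟩
      omega)
  have hζn := mem_U.1 hζ
  simp only [Finset.mem_insert, Finset.mem_filter, not_or, not_and] at hζ'
  obtain ⟨hζ1, hζT⟩ := hζ'
  have hT := hζT hζ hζn
  obtain ⟨a, -⟩ := Finset.card_pos.1 (show 0 < (Finset.univ : Finset ι).card by rw [Finset.card_univ]; omega)
  obtain ⟨b, hba, -⟩ := exists_third h3 a a
  obtain ⟨c, hca, hcb⟩ := exists_third h3 a b
  obtain ⟨t, htM, hti, ht⟩ := H.diag_mem (pairW a b ζ) (fun i => pairW_nrm hζn i) (pairW_prod hba.symm (nrm_ne_zero hζn))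
  set x := g * t * g⁻¹
  have hxM : x ∈ M := mul_mem (mul_mem hgM htM) (inv_mem hgM)
  have hxi : Iso B x := (hg.mul hti).mul hg.inv
  set T := ζ + σ ζ + 1
  have hdiag : B (e a) (x (e a)) = T := by
    rw [show x (e a) = (g * t * g⁻¹) (e a) from rfl, conj_diag hon hg ht, map_sum, sum_three h3 hba.symm hca.symm hcb.symm]
    simp only [map_smul, smul_eq_mul, ← hB.symm (e a) (g (e _))]
    simp only [pairW, pairW.σ', eq_sigma_inv hζn, T, if_true, hba, hca, hcb, if_false]
    linear_combination ζ * hall g hgM hg hgm a a + ζ⁻¹ * hall g hgM hg hgm a b + hall g hgM hg hgm a c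
  by_cases hxm : Mono B e x
  · obtain ⟨π, hπ⟩ := hxm
    have hπa : a = π a := by
      by_contra h
      exact hT (hdiag ▸ hπ a a h)
    have h1 : x (e a) = T • e a := hdiag ▸ eq_single hon fun i hi => hπ a i fun h => hi (h.trans hπa.symm)
    have h2' : t (g⁻¹ (e a)) = T • g⁻¹ (e a) := by
      have := congrArg (g⁻¹ : V ≃ₗ[F] V) h1
      rwa [map_smul, show x (e a) = g (t (g⁻¹ (e a))) from rfl, inv_apply] at this
    have h4 : ∀ i, pairW a b ζ i = T := fun i => by
      have h := congrArg (B (e i)) h2'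
      rw [co_diag hon ht, map_smul, smul_eq_mul] at h
      refine mul_right_cancel₀ (fun h0 => ?_) h
      rw [← hg, apply_inv, Herm.eq_zero_comm hB] at h0
      exact FL g hgM hg hgm a i h0
    have h5 := (h4 a).trans (h4 c).symm
    simp [pairW, hca, hcb] at h5
    exact hζ1 h5
  · have h := hall x hxM hxi hxm a a
    rw [hdiag] at h
    simp only [T, map_add, map_one, hB.invol] at h
    have hT1 : T = 1 := sub_eq_zero.1 (mul_self_eq_zero.1 (show (T - 1) * (T - 1) = 0 by
      linear_combination h + (1 - T) * h2))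
    exact hζ1 (sub_eq_zero.1 (mul_self_eq_zero.1 (show (ζ - 1) * (ζ - 1) = 0 by
      linear_combination ζ * hT1 - hζn + (-ζ) * h2)))

/-- the norms in a column when every exceptional entry is balanced -/
theorem pattern (hq : 3 ≤ qq σ) (hq5 : qq σ ≠ 5) (NF : NoFix B e M) (FL : Full B e M) {g : V ≃ₗ[F] V} (hgM : g ∈ M)
    (hg : Iso B g) (hgm : ¬ Mono B e g) (j : ι) :
    (∀ l, 3 * (B (e l) (g (e j)) * σ (B (e l) (g (e j)))) = 1) ∨ ∃ a b c, a ≠ b ∧ a ≠ c ∧ b ≠ c ∧
      B (e a) (g (e j)) * σ (B (e a) (g (e j))) = 1 ∧ B (e b) (g (e j)) * σ (B (e b) (g (e j))) = 1 ∧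
      B (e c) (g (e j)) * σ (B (e c) (g (e j))) = -1 := by
  by_cases hone : ∃ a, B (e a) (g (e j)) * σ (B (e a) (g (e j))) = 1
  · obtain ⟨a, ha⟩ := hone
    obtain ⟨b, hba, -⟩ := exists_third h3 a a
    obtain ⟨c, hca, hcb⟩ := exists_third h3 a b
    have hs := col_sum H h3 hg j hba.symm hca.symm hcb.symm
    right
    by_cases hb : B (e b) (g (e j)) * σ (B (e b) (g (e j))) = 1
    · exact ⟨a, b, c, hba.symm, hca.symm, hcb.symm, ha, hb, by linear_combination hs - ha - hb⟩
    · have := (balanced H h3 hq hq5 NF FL hgM hg hgm j b hb).2 a c hba.symm hcb hca.symm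
      exact ⟨a, c, b, hca.symm, hba.symm, hcb, ha, this.symm.trans ha, by linear_combination hs - 2 * ha + this⟩
  · push Not at hone
    left
    intro l
    obtain ⟨b, hbl, -⟩ := exists_third h3 l l
    obtain ⟨c, hcl, hcb⟩ := exists_third h3 l b
    have h1 := (balanced H h3 hq hq5 NF FL hgM hg hgm j b (hone b)).2 l c hbl.symm hcb hcl.symm
    have h2 := (balanced H h3 hq hq5 NF FL hgM hg hgm j c (hone c)).2 l b hcl.symm hcb.symm hbl.symm
    linear_combination col_sum H h3 hg j hbl.symm hcl.symm hcb.symm + h1 + h2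

/-- eleven elements in the fixed field -/
theorem eleven_false (hq : qq σ = 11) (NF : NoFix B e M) (FL : Full B e M) {g : V ≃ₗ[F] V} (hgM : g ∈ M)
    (hg : Iso B g) (hgm : ¬ Mono B e g) : False := by
  classical
  have hB := H.herm
  have hσ := hB.toIsInvol
  have hon := H.onb
  have h11 : (11 : F) = 0 := by
    have := FiniteField.cast_card_eq_zero F
    rw [card_F hσ, hq] at this
    push_cast at this
    exact mul_self_eq_zero.1 (by linear_combination this)
  obtain ⟨ζ, hζ, hζ6⟩ := exists_six hσ (by omega) (by omega)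
  set δ := (ζ ^ 3)⁻¹ with hδ
  have hδn : δ * σ δ = 1 := nrm_inv (nrm_pow hζ 3)
  have hsq : δ * δ = -1 := by
    have h12 : ζ ^ 6 * ζ ^ 6 = 1 := by
      have := pow_U hσ hζ
      rw [hq] at this
      rw [← pow_add]; exact this
    rw [hδ, ← mul_inv, ← pow_add, (mul_self_eq_one_iff.1 h12).resolve_left hζ6, inv_neg_one]
  have hσδ : σ δ = -δ := mul_left_cancel₀ (nrm_ne_zero hδn) (by linear_combination hδn + hsq)
  have hδ1 : δ - 1 ≠ 0 := fun h => by
    rw [sub_eq_zero.1 h] at hsq
    exact one_ne_zero (show (1 : F) = 0 by linear_combination 6 * hsq - h11)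
  obtain ⟨j, -⟩ := Finset.card_pos.1 (show 0 < (Finset.univ : Finset ι).card by rw [Finset.card_univ]; omega)
  obtain ⟨l, hl⟩ : ∃ l, B (e l) (g (e j)) * σ (B (e l) (g (e j))) = 4 ∨ B (e l) (g (e j)) * σ (B (e l) (g (e j))) = -1 := by
    rcases pattern H h3 (by omega) (by omega) NF FL hgM hg hgm j with h | ⟨a, b, c, -, -, -, -, -, h⟩
    · exact ⟨j, Or.inl (by linear_combination 4 * h j - (B (e j) (g (e j)) * σ (B (e j) (g (e j)))) * h11)⟩
    · exact ⟨c, Or.inr h⟩
  obtain ⟨x, hxM, hxi, hx⟩ := col_conj H h3 hgM hg j hζ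
  set y := g (e j)
  have hfull : ∀ i, B (e i) y ≠ 0 := fun i => FL g hgM hg hgm i j
  have hco : ∀ i k, B (e i) (x (e k)) = ζ * ((if i = k then 1 else 0) + (δ - 1) * σ (B (e k) y) * B (e i) y) :=
    fun i k => by simp [hx, hon i k, ← hB.symm (e k) y, mul_add, hδ]
  have hxm : ¬ Mono B e x := fun ⟨π, hπ⟩ => by
    obtain ⟨b, hbl, -⟩ := exists_third h3 l l
    obtain ⟨c, hcl, hcb⟩ := exists_third h3 l b
    have hne : ∀ i, i ≠ l → i = π l := fun i hi => by
      by_contra h
      have h1 := hπ l i h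
      rw [hco, if_neg hi, zero_add] at h1
      exact mul_ne_zero (nrm_ne_zero hζ) (mul_ne_zero (mul_ne_zero hδ1 ((map_ne_zero σ).2 (hfull l))) (hfull i)) h1
    exact hcb ((hne c hcl).trans (hne b hbl).symm)
  set n := B (e l) y * σ (B (e l) y) with hn
  have hN : B (e l) (x (e l)) * σ (B (e l) (x (e l))) = 1 - 2 * n + 2 * n * n := by
    rw [hco, if_pos rfl]
    simp only [map_mul, map_add, map_sub, map_one, hB.invol, hσδ]
    linear_combination (1 + (δ - 1) * σ (B (e l) y) * B (e l) y) * (1 + (-δ - 1) * B (e l) y * σ (B (e l) y)) * hζ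
      - n * n * hsq
  have h2 : (2 : F) ≠ 0 := fun h => one_ne_zero (show (1 : F) = 0 by linear_combination h11 - 5 * h)
  rcases pattern H h3 (by omega) (by omega) NF FL hxM hxi hxm l with h | ⟨a, b, c, hab, hac, hbc, ha, hb, hc⟩
  · have := h l
    rw [hN] at this
    rcases hl with hl | hl <;> rw [hl] at this
    · exact one_ne_zero (show (1 : F) = 0 by linear_combination 7 * this - 47 * h11)
    · exact one_ne_zero (show (1 : F) = 0 by linear_combination 4 * this - 5 * h11)
  · have : B (e l) (x (e l)) * σ (B (e l) (x (e l))) = 1 ∨ B (e l) (x (e l)) * σ (B (e l) (x (e l))) = -1 := by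
      rcases eq_three h3 hab hac hbc l with rfl | rfl | rfl
      exacts [Or.inl ha, Or.inl hb, Or.inr hc]
    rw [hN] at this
    rcases hl with hl | hl <;> rw [hl] at this <;> rcases this with this | this
    · exact h2 (by linear_combination this - 2 * h11)
    · exact mul_ne_zero h2 h2 (by linear_combination this - 2 * h11)
    · exact mul_ne_zero h2 h2 (by linear_combination this)
    · exact one_ne_zero (show (1 : F) = 0 by linear_combination 2 * this - h11)

/-- three elements in the fixed field -/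
theorem three_false (hq : qq σ = 3) (NF : NoFix B e M) (FL : Full B e M) {g : V ≃ₗ[F] V} (hgM : g ∈ M)
    (hg : Iso B g) (hgm : ¬ Mono B e g) : False := by
  classical
  have hB := H.herm
  have hσ := hB.toIsInvol
  have hon := H.onb
  have h30 : (3 : F) = 0 := by
    have := FiniteField.cast_card_eq_zero F
    rw [card_F hσ, hq] at this
    push_cast at this
    exact mul_self_eq_zero.1 (by linear_combination this)
  obtain ⟨u, hu, hu1, hu2⟩ := exists_zeta (σ := σ) hσ
  have hu4 : ∀ z : F, z * σ z = 1 → z ^ 4 = 1 := fun z hz => by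
    have := pow_U hσ hz
    rwa [hq] at this
  have husq : u * u = -1 := (mul_self_eq_one_iff.1 (show u * u * (u * u) = 1 by
    linear_combination hu4 u hu)).resolve_left hu2
  have hσu : σ u = -u := mul_left_cancel₀ (nrm_ne_zero hu) (by linear_combination hu + husq)
  obtain ⟨m, -⟩ := Finset.card_pos.1 (show 0 < (Finset.univ : Finset ι).card by rw [Finset.card_univ]; omega)
  have hpat : ∀ g ∈ M, Iso B g → ¬ Mono B e g → ∀ j, ∃ a b c, a ≠ b ∧ a ≠ c ∧ b ≠ c ∧
      B (e a) (g (e j)) * σ (B (e a) (g (e j))) = 1 ∧ B (e b) (g (e j)) * σ (B (e b) (g (e j))) = 1 ∧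
      B (e c) (g (e j)) * σ (B (e c) (g (e j))) = -1 := fun g hgM hg hgm j =>
    (pattern H h3 (by omega) (by omega) NF FL hgM hg hgm j).resolve_left fun h => by
      have := h j
      rw [h30, zero_mul] at this
      exact zero_ne_one this
  -- the column and the row
  obtain ⟨a', b', c', hab', hac', hbc', hya, hyb, hyc⟩ := hpat g hgM hg hgm m
  set y := g (e m) with hy
  obtain ⟨a, b, c, hab, hac, hbc, hra, hrb, hrc⟩ :=
    hpat g⁻¹ (inv_mem hgM) hg.inv (fun h => hgm (by simpa using Mono.inv' hon h)) m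
  set r : ι → F := fun i => B (e m) (g (e i)) with hr
  have hrow : ∀ i, B (e i) (g⁻¹ (e m)) = σ (r i) := fun i => by rw [← hg, apply_inv, hr, hB.symm]
  rw [hrow, hB.invol, mul_comm] at hra hrb hrc
  have hwit : ∀ ε : F, (ε = 0 ∨ ε = u ∨ ε = -u) → ∃ k, k ≠ m ∧ ∃ t : F,
      σ (r a) • e a + (((1 + ε) * σ (r b)) • e b + ((-1 + ε) * σ (r c)) • e c) = t • g⁻¹ (e k) := by
    intro ε hε
    have hεσ : σ ε = -ε := by rcases hε with rfl | rfl | rfl <;> simp [hσu]
    have hεN : 1 - ε * ε = 1 ∨ 1 - ε * ε = -1 := by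
      rcases hε with rfl | rfl | rfl
      · simp
      · right; linear_combination h30 - husq
      · right; linear_combination h30 - husq
    set w : ι → F := fun i => if i = a then σ (r a) else if i = b then (1 + ε) * σ (r b) else (-1 + ε) * σ (r c)
    have hwa : w a = σ (r a) := by simp [w]
    have hwb : w b = (1 + ε) * σ (r b) := by simp [w, hab.symm]
    have hwc : w c = (-1 + ε) * σ (r c) := by simp [w, hac.symm, hbc.symm]
    have hna : w a * σ (w a) = 1 := by rw [hwa, hB.invol]; linear_combination hra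
    have hnb : w b * σ (w b) = 1 - ε * ε := by
      rw [hwb]; simp only [map_mul, map_add, map_one, hεσ, hB.invol]; linear_combination (1 - ε * ε) * hrb
    have hnc : w c * σ (w c) = -(1 - ε * ε) := by
      rw [hwc]; simp only [map_mul, map_add, map_neg, map_one, hεσ, hB.invol]; linear_combination (1 - ε * ε) * hrc
    obtain ⟨p, hp, hpo⟩ : ∃ p, w p * σ (w p) = -1 ∧ ∀ i, i ≠ p → w i * σ (w i) = 1 := by
      rcases hεN with h | h
      · refine ⟨c, by rw [hnc, h], fun i hi => ?_⟩
        rcases eq_three h3 hab hac hbc i with rfl | rfl | rfl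
        exacts [hna, hnb.trans h, absurd rfl hi]
      · refine ⟨b, hnb.trans h, fun i hi => ?_⟩
        rcases eq_three h3 hab hac hbc i with rfl | rfl | rfl
        exacts [hna, absurd rfl hi, by rw [hnc, h, neg_neg]]
    set π : Equiv.Perm ι := Equiv.swap c' p
    set φ : ι → F := fun i => w (π i) / B (e i) y
    have hfull : ∀ i, B (e i) y ≠ 0 := fun i => FL g hgM hg hgm i m
    have hmatch : ∀ i, w (π i) * σ (w (π i)) = B (e i) y * σ (B (e i) y) := fun i => by
      by_cases hi : i = c'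
      · subst hi; rw [show π i = p from Equiv.swap_apply_left _ _, hp, hyc]
      · rw [hpo _ fun h => hi (π.injective (h.trans (Equiv.swap_apply_left c' p).symm))]
        rcases eq_three h3 hab' hac' hbc' i with rfl | rfl | rfl
        exacts [hya.symm, hyb.symm, absurd rfl hi]
    have hφ : ∀ i, φ i * σ (φ i) = 1 := fun i => by
      simp only [φ, map_div₀, div_mul_div_comm, hmatch i]
      exact div_self (mul_ne_zero (hfull i) ((map_ne_zero σ).2 (hfull i)))
    obtain ⟨g0, δ, hδ, hg0, hg0d, hg0a⟩ := exists_mon hon hB π φ hφ m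
    have hδ4 := hu4 δ hδ
    obtain ⟨t, htM, hti, ht⟩ := H.diag_mem (fun i => if i = m then δ ^ 2 else δ ^ 3)
      (fun i => by split_ifs <;> exact nrm_pow hδ _) (by
        rw [sum_prod_aux h3 m]
        linear_combination (δ ^ 4 + 1) * hδ4)
    set pm := g0 * t
    have hpm : ∀ i, pm (e i) = (δ ^ 3 * φ i) • e (π i) := fun i => by
      rw [LinearEquiv.mul_apply, ht, map_smul, hg0a, smul_smul]
      split_ifs with hi
      · ring_nf
      · rfl
    have hpmM : pm ∈ M := mul_mem (H.mono_mem g0 hg0 hg0d (mono_of_apply hon hg0a)) htM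
    set W := σ (r a) • e a + (((1 + ε) * σ (r b)) • e b + ((-1 + ε) * σ (r c)) • e c)
    have hW : W = ∑ i, w i • e i := by rw [sum_three h3 hab hac hbc, hwa, hwb, hwc]
    have hpy : pm y = δ ^ 3 • W := by
      rw [← expand hon y, map_sum, hW, Finset.smul_sum, ← Equiv.sum_comp π (fun i => δ ^ 3 • w i • e i)]
      refine Finset.sum_congr rfl fun i _ => ?_
      rw [map_smul, hpm, smul_smul, smul_smul]
      congr 1
      simp only [φ]
      field_simp [hfull i]
    set x := g * pm * g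
    have hxM : x ∈ M := mul_mem (mul_mem hgM hpmM) hgM
    have hxi : Iso B x := (hg.mul (hg0.mul hti)).mul hg
    have hxm' : x (e m) = δ ^ 3 • g W := by
      rw [show x (e m) = g (pm y) from rfl, hpy, map_smul]
    have hzero : B (e m) (g W) = 0 := by
      have e0 : B (e m) (g W) = σ (r a) * r a + ((1 + ε) * σ (r b) * r b + (-1 + ε) * σ (r c) * r c) := by
        simp only [W, map_add, map_smul, smul_eq_mul, hr]
      rw [e0]
      linear_combination hra + (1 + ε) * hrb + (-1 + ε) * hrc + h30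
    have hδ0 : δ ^ 3 ≠ 0 := pow_ne_zero _ (nrm_ne_zero hδ)
    have hxmono : Mono B e x := by
      by_contra h
      exact FL x hxM hxi h m m (by rw [hxm', map_smul, hzero, smul_zero])
    obtain ⟨ρ, hρ⟩ := hxmono
    have hsingle : g W = B (e (ρ m)) (g W) • e (ρ m) := eq_single hon fun k hk => by
      have := hρ m k hk
      rw [hxm', map_smul, smul_eq_mul, mul_eq_zero] at this
      exact this.resolve_left hδ0
    refine ⟨ρ m, fun hk => ?_, _, by rw [← map_smul, ← hsingle, inv_apply]⟩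
    rw [hk, hzero, zero_smul, LinearEquiv.map_eq_zero_iff] at hsingle
    have := congrArg (B (e a)) hsingle
    simp [W, hon a a, hon a b, hon a c, hab, hac] at this
    rw [this] at hra
    simp at hra
  have hsep : ∀ ε ε' : F, ∀ k, ∀ t t' : F,
      σ (r a) • e a + (((1 + ε) * σ (r b)) • e b + ((-1 + ε) * σ (r c)) • e c) = t • g⁻¹ (e k) →
      σ (r a) • e a + (((1 + ε') * σ (r b)) • e b + ((-1 + ε') * σ (r c)) • e c) = t' • g⁻¹ (e k) → ε = ε' := by
    intro ε ε' k t t' h h'
    have hra0 : σ (r a) ≠ 0 := fun h0 => by rw [h0, mul_zero] at hra; exact zero_ne_one hra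
    have hrb0 : σ (r b) ≠ 0 := fun h0 => by rw [h0, mul_zero] at hrb; exact zero_ne_one hrb
    have q1 := congrArg (B (e a)) h
    have q1' := congrArg (B (e a)) h'
    have q2 := congrArg (B (e b)) h
    have q2' := congrArg (B (e b)) h'
    simp [hon a a, hon a b, hon a c, hon b a, hon b b, hon b c, hab, hab.symm, hac, hbc] at q1 q1' q2 q2'
    have ht : t = t' := mul_right_cancel₀ (fun h0 => hra0 (by rw [q1, h0, mul_zero])) (q1.symm.trans q1')
    subst ht
    exact add_left_cancel (mul_right_cancel₀ hrb0 (q2.trans q2'.symm))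
  obtain ⟨k, hk, t, ht⟩ := hwit 0 (Or.inl rfl)
  obtain ⟨k', hk', t', ht'⟩ := hwit u (Or.inr (Or.inl rfl))
  obtain ⟨k'', hk'', t'', ht''⟩ := hwit (-u) (Or.inr (Or.inr rfl))
  have hu0 : u ≠ 0 := nrm_ne_zero hu
  have d1 : k ≠ k' := fun h => hu0 (hsep 0 u k t t' ht (h ▸ ht')).symm
  have d2 : k ≠ k'' := fun h => hu0 (neg_eq_zero.1 (hsep 0 (-u) k t t'' ht (h ▸ ht'')).symm)
  have d3 : k' ≠ k'' := fun h => hu0 (by
    have := hsep u (-u) k' t' t'' ht' (h ▸ ht'')
    linear_combination -this + u * h30)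
  rcases eq_three h3 d1 d2 d3 m with h | h | h
  exacts [hk h.symm, hk' h.symm, hk'' h.symm]

/-- some element outside the monomial group fixes a coordinate line -/
theorem exists_fix (hq : 3 ≤ qq σ) (hq5 : qq σ ≠ 5) {g : V ≃ₗ[F] V} (hgM : g ∈ M) (hg : Iso B g)
    (hgm : ¬ Mono B e g) : ∃ x ∈ M, Iso B x ∧ ¬ Mono B e x ∧ ∃ (a : ι) (c : F), x (e a) = c • e a := by
  classical
  by_contra! hc
  have NF : NoFix B e M := noFix H h3 fun x hx hxi a c hxa => by_contra fun h => hc x hx hxi h a c hxa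
  have FL := full H h3 hq hq5 NF
  have hσ := H.herm.toIsInvol
  have hcast := FiniteField.cast_card_eq_zero F
  rw [card_F hσ] at hcast
  push_cast at hcast
  by_cases h2 : (2 : F) = 0
  · refine even_false H h3 h2 ?_ hq5 NF FL hgM hg hgm
    by_contra h
    rw [show qq σ = 3 by omega] at hcast
    exact one_ne_zero (show (1 : F) = 0 by linear_combination hcast - 4 * h2)
  · by_cases h3' : qq σ = 3
    · exact three_false H h3 h3' NF FL hgM hg hgm
    by_cases h11 : qq σ = 11
    · exact eleven_false H h3 h11 NF FL hgM hg hgm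
    have h8 : qq σ ≠ 8 := fun h => h2 (eq_zero_of_pow_eq_zero (n := 6) (by rw [h] at hcast; linear_combination hcast))
    obtain ⟨j, -⟩ := Finset.card_pos.1 (show 0 < (Finset.univ : Finset ι).card by rw [Finset.card_univ]; omega)
    obtain ⟨b, hbj, -⟩ := exists_third h3 j j
    obtain ⟨c, hcj, hcb⟩ := exists_third h3 j b
    have hone := fun l => norm_one H h3 (by omega) hq5 h8 h11 NF FL hgM hg hgm j l
    have hs := col_sum H h3 hg j hbj.symm hcj.symm hcb.symm
    exact h2 (by linear_combination hs - hone j - hone b - hone c)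

/-- the monomial group is irreducible -/
theorem irreducible (hirr : ∀ i j, ∃ m ∈ M, ∃ c : F, c ≠ 0 ∧ m (e i) = c • e j) (U : Submodule F V)
    (hU : ∀ g ∈ M, ∀ u ∈ U, g u ∈ U) : U = ⊥ ∨ U = ⊤ := by
  classical
  have hB := H.herm
  have hon := H.onb
  rcases eq_or_ne U ⊥ with h | h
  · exact Or.inl h
  obtain ⟨u, hu, hu0⟩ := U.exists_mem_ne_zero_of_ne_bot h
  obtain ⟨i, hi⟩ : ∃ i, B (e i) u ≠ 0 := by
    by_contra! h
    exact hu0 (ext_co hon fun i => by rw [map_zero]; exact h i)
  obtain ⟨k, hki, -⟩ := exists_third h3 i i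
  obtain ⟨l, hli, hlk⟩ := exists_third h3 i k
  obtain ⟨ζ, hζ, hζ1, -⟩ := exists_zeta (σ := σ) hB.toIsInvol
  have hζ0 := nrm_ne_zero hζ
  obtain ⟨t, htM, -, ht⟩ := H.diag_mem (pairW i k ζ) (fun x => pairW_nrm hζ x) (pairW_prod hki.symm hζ0)
  obtain ⟨t', htM', -, ht'⟩ := H.diag_mem (pairW i l ζ) (fun x => pairW_nrm hζ x) (pairW_prod hli.symm hζ0)
  set d := t u - u
  have hd : d ∈ U := U.sub_mem (hU t htM u hu) hu
  have hd' : t' d - d = ((ζ - 1) * (ζ - 1) * B (e i) u) • e i := by
    refine ext_co hon fun x => ?_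
    simp only [map_sub, co_diag hon ht', co_diag hon ht, d, map_smul, hon x i, smul_eq_mul]
    rcases eq_three h3 hki.symm hli.symm hlk.symm x with rfl | rfl | rfl
    · simp [pairW]; ring
    · simp [pairW, hki, hlk.symm]
    · simp [pairW, hli, hlk]
  have hei : e i ∈ U := (U.smul_mem_iff (mul_ne_zero (mul_ne_zero (sub_ne_zero.2 hζ1) (sub_ne_zero.2 hζ1)) hi)).1
    (hd' ▸ U.sub_mem (hU t' htM' d hd) hd)
  refine Or.inr (top_le_iff.1 fun v _ => ?_)
  rw [← expand hon v]
  refine U.sum_mem fun x _ => U.smul_mem _ ?_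
  obtain ⟨p, hp, c, hc, hpe⟩ := hirr i x
  exact (U.smul_mem_iff hc).1 (hpe ▸ hU p hp _ hei)

/-- the monomial case in dimension three -/
theorem mono_centres (hiso : ∀ g ∈ M, Iso B g) (hq : 3 ≤ qq σ) (hq5 : qq σ ≠ 5) {g : V ≃ₗ[F] V} (hgM : g ∈ M)
    (hgm : ¬ Mono B e g) : ∀ v, B v v = 0 → v ∈ centres B M := by
  classical
  obtain ⟨x, hx, hxi, hxm, a, c, hxa⟩ := exists_fix H h3 hq hq5 hgM (hiso g hgM) hgm
  obtain ⟨v, hv, hv0, -⟩ := centre_of_fix H hx hxi hxm hxa
  refine SU3.centres_of_irreducible H.herm (by rw [finrank_eq_card_basis e, h3]) hiso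
    (irreducible H h3 fun i j => ?_) hv hv0
  obtain ⟨l, hl, -⟩ := exists_third h3 i i
  obtain ⟨p, δ, hδ, hpi, hpd, hp⟩ := exists_mon H.onb H.herm (Equiv.swap i j) (fun _ => (1 : F)) (fun _ => by simp) l
  exact ⟨p, H.mono_mem p hpi hpd (mono_of_apply H.onb hp), 1, one_ne_zero,
    by rw [hp, if_neg hl.symm, Equiv.swap_apply_left]⟩

end

end Cfsg.Agent.ClassicalMax.SU3.Mono
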