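import Cfsg.Agent.ClassicalMax.SU3.Mono
import Cfsg.Agent.Classical.HermForm
import Cfsg.Prelude.Def_GeometricClasses

/-!
Stabilisers of decompositions into three orthogonal points in three-dimensional special unitary groups.
-/

set_option autoImplicit false
open Cfsg

namespace Cfsg.Agent.ClassicalMax.SU3

open Cfsg.Agent.Classical Cfsg.Agent.ClassicalMax Cfsg.Agent.ClassicalMax.Unitary Cfsg.Agent.UnitDec Module

/-- the stabiliser of three orthogonal points -/
theorem monomial_maximal {F : Type*} [Field F] [Fintype F] {q : ℕ} (hF : Fintype.card F = q ^ 2) (hq3 : 3 ≤ q)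
    (hq5 : q ≠ 5) (D : Fin 3 → Submodule F (Fin 3 → F))
    (hD : Cfsg.Geo.IsNondegenerateMDecomposition (Cfsg.hermForm 3 F q) 1 D) :
    Cfsg.Geo.IsMaximalIn (Cfsg.GU 3 F q ⊓ Cfsg.Geo.specialLinear (Fin 3) F)
      (Cfsg.Geo.decompositionStabilizer D ⊓ (Cfsg.GU 3 F q ⊓ Cfsg.Geo.specialLinear (Fin 3) F)) := by
  classical
  obtain ⟨σ, hσq, hσ, hqq, hq1⟩ := exists_powHom hF
  set B := hermB 3 σ
  have hB : Herm.IsHerm B := hermB_isHerm hσ 3
  have hBf : ∀ x y, B x y = Cfsg.hermForm 3 F q y x := fun x y => by rw [hermForm_eq hσq]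
  have hbasis : ∀ i, ∃ b : Fin 3 → F, b ∈ D i ∧ B b b = 1 ∧ ∀ x ∈ D i, ∃ c : F, x = c • b := by
    intro i
    let B0 : D i →ₛₗ[σ] D i →ₗ[F] F := (B.compl₂ (D i).subtype).comp (D i).subtype
    have h0 : Herm.IsHerm B0 :=
      { toIsInvol := hσ
        symm := fun x y => hB.symm _ _
        nondeg := fun x hx => by
          by_contra hne
          obtain ⟨y, hy, hy'⟩ := (hD.nondegenerate i x x.2 (fun h => hne (Subtype.ext h))).1
          exact hy' (by rw [← hBf]; exact hx ⟨y, hy⟩) }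
    obtain ⟨b, hb⟩ := Herm.exists_orthonormal h0
    let b1 := b.reindex (finCongr (hD.decomp.finrank_eq i))
    refine ⟨(b1 0 : Fin 3 → F), (b1 0).2, ?_, fun x hx => ⟨b1.repr ⟨x, hx⟩ 0, ?_⟩⟩
    · show B0 (b1 0) (b1 0) = 1
      rw [Basis.reindex_apply]
      exact (hb _ _).trans (by simp)
    · have h1 := congrArg Subtype.val (b1.sum_repr ⟨x, hx⟩)
      rw [Fin.sum_univ_one] at h1
      exact h1.symm
  choose f hfD hf1 hfsp using hbasis
  have hf : ∀ i j, B (f i) (f j) = if i = j then 1 else 0 := fun i j => by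
    split_ifs with h
    · subst h; exact hf1 i
    · rw [hBf]; exact hD.orthogonal j i (Ne.symm h) _ (hfD j) _ (hfD i)
  have hli : LinearIndependent F f := by
    rw [Fintype.linearIndependent_iff]
    intro c hc j
    have := congrArg (B (f j)) hc
    simpa [map_sum, hf] using this
  have hspan : ⊤ ≤ Submodule.span F (Set.range f) := by
    rw [← hD.decomp.iSup_eq_top]
    refine iSup_le fun i x hx => ?_
    obtain ⟨c, rfl⟩ := hfsp i x hx
    exact Submodule.smul_mem _ _ (Submodule.subset_span ⟨i, rfl⟩)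
  let e := Basis.mk hli hspan
  have hee : ∀ p, e p = f p := fun p => Basis.mk_apply hli hspan p
  have hon : IsONB B e := fun i j => by rw [hee, hee, hf]
  have hlin : ∀ g : (Fin 3 → F) ≃ₗ[F] (Fin 3 → F), Matrix.toLin' (((glEquiv (Fin 3) F).symm g :
      Matrix.GeneralLinearGroup (Fin 3) F) : Matrix (Fin 3) (Fin 3) F) = g.toLinearMap := fun g =>
    LinearMap.ext fun x => by rw [Matrix.toLin'_apply]; exact symm_mulVec g x
  have hstab : ∀ g : (Fin 3 → F) ≃ₗ[F] (Fin 3 → F),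
      (glEquiv (Fin 3) F).symm g ∈ Cfsg.Geo.decompositionStabilizer D ↔ Mono B e g := by
    intro g
    constructor
    · rintro ⟨π, hπ⟩
      refine ⟨π, fun i j hj => ?_⟩
      have h1 : g (e i) ∈ D (π i) := by
        rw [← hπ, hlin]; exact ⟨_, hee i ▸ hfD i, rfl⟩
      obtain ⟨c, hc⟩ := hfsp _ _ h1
      rw [hc, ← hee, map_smul, hon]
      simp [show ¬ j = π i from hj]
    · rintro ⟨π, hπ⟩
      refine ⟨π, fun i => ?_⟩
      rw [hlin]
      refine Submodule.eq_of_le_of_finrank_eq ?_ (by rw [LinearEquiv.finrank_map_eq, hD.decomp.finrank_eq, hD.decomp.finrank_eq])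
      rintro _ ⟨x, hx, rfl⟩
      obtain ⟨c, rfl⟩ := hfsp i x hx
      show g (c • f i) ∈ D (π i)
      rw [map_smul, ← hee, eq_single hon (fun k hk => hπ i k hk)]
      exact Submodule.smul_mem _ _ (Submodule.smul_mem _ _ (hee (π i) ▸ hfD (π i)))
  have hr := exists_fixed hF hσq hq3
  obtain ⟨c, hc0, hc1, hc⟩ : ∃ c : F, c ≠ 0 ∧ c ≠ -1 ∧ c + σ c = 0 := by
    obtain ⟨c, hc0, hcs⟩ := Herm.exists_skew hσ
    obtain ⟨r, hrf, hr0, hr1⟩ := hr
    by_cases h : c = -1
    · refine ⟨c * r, mul_ne_zero hc0 hr0, fun hh => hr1 ?_, by rw [map_mul, hcs, hrf]; ring⟩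
      rw [h] at hh; linear_combination -hh
    · exact ⟨c, hc0, h, by rw [hcs, add_neg_cancel]⟩
  obtain ⟨β, hβ⟩ := Herm.exists_norm hσ (a := (-1 : F)) (by simp)
  have hβ0 : β ≠ 0 := by rintro rfl; simp at hβ
  set v := e 0 + β • e 1
  have hv : B v v = 0 := by
    simp [v, hon _ _]
    linear_combination hβ
  refine isMaximalIn_su3 hσ hσq hr _ ⟨v, hv, c, hc, fun hmem => ?_⟩ fun M hMle hK ⟨g, hgM, hgK⟩ => ?_
  · obtain ⟨π, hπ⟩ := (hstab _).1 hmem
    have hva : B v (e 0) = 1 := by simp [v, hon _ _]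
    have h0 : B (e 0) (Herm.tvU hv c (e 0)) = 1 + c := by simp [Herm.tvU_apply, hva, v, hon _ _]
    have h1 : B (e 1) (Herm.tvU hv c (e 0)) = c * β := by simp [Herm.tvU_apply, hva, v, hon _ _]
    have e0 : (0 : Fin 3) = π 0 := by
      by_contra h
      have := hπ 0 0 h
      rw [h0] at this
      exact hc1 (eq_neg_of_add_eq_zero_right this)
    have := hπ 0 1 (e0 ▸ by decide)
    rw [h1] at this
    exact mul_ne_zero hc0 hβ0 this
  · exact Mono.mono_centres ⟨hB, hon, by simp, fun h h1 h2 h3 => hK h h1 h2 ((hstab h).2 h3)⟩ (by simp)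
      (fun h hh => (hMle hh).1) (hq3.trans hqq.ge) (fun h => hq5 (hqq.symm.trans h)) hgM fun h => hgK ((hstab g).2 h)

end Cfsg.Agent.ClassicalMax.SU3
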