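import Cfsg.Agent.ClassicalMax.SU3.MonoTools
import Cfsg.Agent.ClassicalMax.SU4.Mono

/-!
The plane of a coordinate and a column: the pseudo-reflections there force the column to be balanced, and are
incompatible when three different determinants occur.
-/

set_option autoImplicit false

namespace Cfsg.Agent.ClassicalMax.SU3.Mono

open Cfsg.Agent.Classical Cfsg.Agent.ClassicalMax.Unitary Cfsg.Agent.UnitDec Module
open Cfsg.Agent.ClassicalMax.SU4.Mono (planeGroup plane_dec plane_ext plane_image)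

variable {F V ι : Type*} [Field F] [Fintype F] [DecidableEq F] [AddCommGroup V] [Module F V] [FiniteDimensional F V]
  {σ : F →+* F} [Fintype ι] [DecidableEq ι] {B : V →ₛₗ[σ] V →ₗ[F] F} {e : Basis ι F V} {M : Subgroup (V ≃ₗ[F] V)}

/-- the determinant one part of the plane group -/
def planeOne (B : V →ₛₗ[σ] V →ₗ[F] F) (M : Subgroup (V ≃ₗ[F] V)) (p y : V) : Subgroup (V ≃ₗ[F] V) where
  carrier := {r | r ∈ planeGroup B M p y ∧ LinearMap.det r.toLinearMap = 1}
  one_mem' := ⟨one_mem _, by simp⟩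
  mul_mem' := fun {a b} ha hb => ⟨mul_mem ha.1 hb.1, by rw [UnitDec.det_mul, ha.2, hb.2, one_mul]⟩
  inv_mem' := fun {a} ha => ⟨inv_mem ha.1, by
    have := UnitDec.det_mul a a⁻¹
    rw [mul_inv_cancel, ha.2, one_mul] at this
    rw [← this]; simp⟩

/-- minus one on the plane -/
def IsNeg (p f : V) (J : V ≃ₗ[F] V) : Prop := J p = -p ∧ J f = -f ∧ (2 : F) ≠ 0

section

variable (H : MonBase B e M) (h3 : Fintype.card ι = 3)
include H h3

/-- the pseudo-reflection of a column inside a plane group -/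
theorem exists_refl {g : V ≃ₗ[F] V} (hgM : g ∈ M) (hg : Iso B g) (j : ι) (p y v : V) (hy : g (e j) = v)
    (hmem : ∀ w, B p w = 0 → B y w = 0 → B v w = 0) {ζ : F} (hζ : ζ * σ ζ = 1) :
    ∃ r ∈ planeGroup B M p y, LinearMap.det r.toLinearMap = (ζ ^ 3)⁻¹ ∧
      ∀ w, r w = w + (((ζ ^ 3)⁻¹ - 1) * B v w) • v := by
  have hB := H.herm
  have hyy : B v v = 1 := by rw [← hy, hg, H.onb, if_pos rfl]
  obtain ⟨r, hri, hrd, hr⟩ := exists_preflection hB (a := v) (by rw [hyy]; exact one_ne_zero) (δ := (ζ ^ 3)⁻¹)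
    (nrm_inv (nrm_pow hζ 3))
  simp only [hyy, div_one] at hr
  obtain ⟨x, hxM, hxi, hx⟩ := col_conj H h3 hgM hg j hζ
  rw [hy] at hx
  exact ⟨r, ⟨hri, fun w a b => by rw [hr, hmem w a b, mul_zero, zero_smul, add_zero], x, hxM, hxi, ζ, nrm_ne_zero hζ,
    fun w => by rw [hx, hr]⟩, hrd, hr⟩

variable {l : ι} {y f : V} {m : F} (hf : f = y - B (e l) y • e l) (hm : m = B f f) (hm0 : m ≠ 0)
  (hfull : ∀ i, B (e i) y ≠ 0) (hyy : B y y = 1)
include hf hm hm0 hfull hyy

/-- an element of the plane group fixing the coordinate line fixes the orthogonal vector or negates it -/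
theorem fix_coord (NF : NoFix B e M) {r : V ≃ₗ[F] V} (hr : r ∈ planeGroup B M (e l) y) {a : F}
    (hra : r (e l) = a • e l) : r f = f ∨ (r f = -f ∧ (2 : F) ≠ 0 ∧ ∀ i k, i ≠ l → k ≠ l → i ≠ k →
      B (e i) y * σ (B (e i) y) = B (e k) y * σ (B (e k) y)) := by
  have hB := H.herm
  have hon := H.onb
  obtain ⟨-, -, hef, hfe⟩ := plane_dec H hf hm hm0 y
  obtain ⟨-, hrf⟩ := plane_image H hf hm hm0 hr
  have ha : a ≠ 0 := fun h => e.ne_zero l (r.map_eq_zero_iff.1 (by rw [hra, h, zero_smul]))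
  have hα : B (e l) (r f) = 0 := by
    have h1 := hr.1 (e l) f
    rw [hra, map_smulₛₗ, LinearMap.smul_apply, smul_eq_mul, hef] at h1
    exact (mul_eq_zero.1 h1).resolve_left ((map_ne_zero σ).2 ha)
  rw [hα, zero_smul, zero_add] at hrf
  generalize hlm : B f (r f) / m = lam at hrf
  by_cases hlam : lam = 1
  · left; rw [hrf, hlam, one_smul]
  right
  obtain ⟨hri, -, x, hxM, hxi, s, hs, hxs⟩ := id hr
  have hrk : ∀ k, k ≠ l → r (e k) = e k + ((lam - 1) * (B f (e k) / m)) • f := fun k hk => by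
    obtain ⟨h1, h2, -, -⟩ := plane_dec H hf hm hm0 (e k)
    set z := e k - B (e l) (e k) • e l - (B f (e k) / m) • f with hz
    have hz' : e k = z + (B f (e k) / m) • f := by
      rw [hz, hon, if_neg (Ne.symm hk), zero_smul, sub_zero, sub_add_cancel]
    conv_lhs => rw [hz', map_add, map_smul, hrf, hr.2.1 z h1 h2]
    conv_rhs => arg 1; rw [hz']
    module
  have hfk : ∀ k, k ≠ l → B (e k) f = B (e k) y := fun k hk => by simp [hf, hon k l, hk]
  obtain ⟨π, hπ⟩ := NF x hxM hxi l l fun i hi => by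
    rw [hxs, hra, smul_smul, co_single hon, if_neg hi]
  have hco : ∀ i k, i ≠ l → k ≠ l → B (e i) (x (e k)) =
      s * ((if i = k then 1 else 0) + (lam - 1) * (σ (B (e k) y) / m) * B (e i) y) := fun i k hi hk => by
    rw [hxs, hrk k hk, map_smul, map_add, map_smul, hon, hfk i hi, ← hB.symm (e k) f, hfk k hk, smul_eq_mul, smul_eq_mul]
  have key : ∀ i k, i ≠ l → k ≠ l → i ≠ k → 1 + (lam - 1) * ((B (e k) y * σ (B (e k) y)) / m) = 0 := by
    intro i k hi hk hik
    have hπk : i = π k := by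
      by_contra h
      have h1 := hπ k i h
      rw [hco i k hi hk, if_neg hik, zero_add] at h1
      exact mul_ne_zero hs (mul_ne_zero (mul_ne_zero (sub_ne_zero.2 hlam)
        (div_ne_zero ((map_ne_zero σ).2 (hfull k)) hm0)) (hfull i)) h1
    have h1 := hπ k k fun h => hik (hπk.trans h.symm)
    rw [hco k k hk hk, if_pos rfl] at h1
    linear_combination (mul_eq_zero.1 h1).resolve_left hs
  obtain ⟨b, hb, -⟩ := exists_third h3 l l
  obtain ⟨c, hc, hcb⟩ := exists_third h3 l b
  have hbal : ∀ i k, i ≠ l → k ≠ l → i ≠ k → B (e i) y * σ (B (e i) y) = B (e k) y * σ (B (e k) y) :=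
    fun i k hi hk hik => by
      have h1 := key i k hi hk hik
      have h2 := key k i hk hi hik.symm
      field_simp at h1 h2
      exact mul_left_cancel₀ (sub_ne_zero.2 hlam) (by linear_combination h2 - h1)
  have hk' := key c b hc hb hcb
  field_simp at hk'
  have hm' : m = 2 * (B (e b) y * σ (B (e b) y)) := by
    have hfull' : B y y = σ (B (e l) y) * B (e l) y + (σ (B (e b) y) * B (e b) y + σ (B (e c) y) * B (e c) y) := by
      rw [form hon, sum_three h3 hb.symm hc.symm hcb.symm]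
    have hm1 : m = B y y - B (e l) y * σ (B (e l) y) := by
      simp only [hm, hf, map_sub, map_smul, map_smulₛₗ, LinearMap.sub_apply, LinearMap.smul_apply, smul_eq_mul, hyy,
        hon l l, ← hB.symm (e l) y, if_true]
      ring
    linear_combination hm1 + hfull' + hbal c b hc hb hcb
  have h2 : (2 : F) ≠ 0 := fun h => hm0 (by rw [hm', h, zero_mul])
  refine ⟨?_, h2, hbal⟩
  have : (lam + 1) * (B (e b) y * σ (B (e b) y)) = 0 := by linear_combination hk' - hm'
  rw [hrf, eq_neg_of_add_eq_zero_left ((mul_eq_zero.1 this).resolve_right (mul_ne_zero (hfull b) ((map_ne_zero σ).2 (hfull b)))),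
    neg_one_smul]

/-- determinant one and fixing the coordinate line: one, or minus one on the plane -/
theorem fix_one (NF : NoFix B e M) {r : V ≃ₗ[F] V} (hr : r ∈ planeOne B M (e l) y) {a : F}
    (hra : r (e l) = a • e l) : r = 1 ∨ (IsNeg (e l) f r ∧ ∀ i k, i ≠ l → k ≠ l → i ≠ k →
      B (e i) y * σ (B (e i) y) = B (e k) y * σ (B (e k) y)) := by
  have hB := H.herm
  have hon := H.onb
  obtain ⟨-, -, hef, hfe⟩ := plane_dec H hf hm hm0 y
  have ha : a * σ a = 1 := by
    have := hr.1.1 (e l) (e l)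
    rw [hra, Herm.smul_self hB, hon, if_pos rfl, mul_one] at this
    exact this
  have hdet : ∀ lam : F, lam * σ lam = 1 → r f = lam • f → a * lam = 1 := by
    intro lam hlam hrf
    obtain ⟨p, -, hpd, hp⟩ := exists_preflection hB (a := e l) (by rw [hon, if_pos rfl]; exact one_ne_zero) ha
    obtain ⟨p', -, hpd', hp'⟩ := exists_preflection hB (a := f) (by rw [← hm]; exact hm0) hlam
    simp only [hon l l, if_true, div_one] at hp
    simp only [← hm] at hp'
    have hre : r = p * p' := LinearEquiv.ext fun w => by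
      obtain ⟨h1, h2, -, -⟩ := plane_dec H hf hm hm0 w
      set z := w - B (e l) w • e l - (B f w / m) • f
      have hw : w = z + B (e l) w • e l + (B f w / m) • f := by simp only [z]; abel
      have hz := hr.1.2.1 z h1 h2
      conv_lhs => rw [hw, map_add, map_add, map_smul, map_smul, hra, hrf, hz]
      rw [LinearEquiv.mul_apply, hp', hp, map_add, map_smul, hef]
      conv_rhs => arg 1; arg 1; rw [hw]
      match_scalars <;> field_simp <;> ring
    rw [← hr.2, hre, UnitDec.det_mul, hpd, hpd']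
  rcases fix_coord H h3 hf hm hm0 hfull hyy NF hr.1 hra with h | ⟨h, h2, hbal⟩
  · left
    have := hdet 1 (by simp) (by rw [one_smul]; exact h)
    rw [mul_one] at this
    exact plane_ext H hf hm hm0 hr.1 (one_mem _) (by rw [hra, this, one_smul]; rfl) h
  · right
    have := hdet (-1) (by simp) (by rw [neg_one_smul]; exact h)
    refine ⟨⟨?_, h, h2⟩, hbal⟩
    rw [hra, show a = -1 by linear_combination -this, neg_one_smul]

omit h3 hfull hyy in
/-- an element times the pseudo-reflection with a fixed vector in the plane -/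
theorem rel_of_conj {R : V ≃ₗ[F] V} {δ : F} (hRe : R (e l) = δ • e l) (hRf : R f = f)
    {z z0 : V ≃ₗ[F] V} (hz : z ∈ planeGroup B M (e l) y) (hz0 : z0 ∈ planeGroup B M (e l) y)
    (hzR : z * R = z0 * R * z0⁻¹) :
    (δ * B (e l) (z (e l)) - 1) * (B f (z f) / m - 1) - (B f (z (e l)) / m) * (δ * B (e l) (z f)) = 0 := by
  have hon := H.onb
  obtain ⟨-, -, hef, hfe⟩ := plane_dec H hf hm hm0 y
  set pf := z0 f
  have hfix : z (R pf) = pf := by
    rw [← LinearEquiv.mul_apply, hzR, LinearEquiv.mul_apply, LinearEquiv.mul_apply]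
    simp only [pf, inv_apply, hRf]
  obtain ⟨-, hpf⟩ := plane_image H hf hm hm0 hz0
  obtain ⟨hze, hzf⟩ := plane_image H hf hm hm0 hz
  set A := B (e l) (z (e l))
  set C := B f (z (e l)) / m
  set Bc := B (e l) (z f)
  set D := B f (z f) / m
  set X := B (e l) pf
  set Y := B f pf / m
  have hpe : pf = X • e l + Y • f := hpf
  have hee : B (e l) (e l) = 1 := by rw [hon, if_pos rfl]
  rw [hpe, map_add, map_smul, map_smul, hRe, hRf, map_add, map_smul, map_smul, map_smul, hze, hzf] at hfix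
  have q1 := congrArg (B (e l)) hfix
  simp only [map_add, map_smul, smul_eq_mul, hee, hef, mul_zero, add_zero, mul_one] at q1
  have q2 := congrArg (B f) hfix
  simp only [map_add, map_smul, smul_eq_mul, hfe, mul_zero, zero_add, ← hm] at q2
  have q2' : (X * δ * C + Y * D - Y) * m = 0 := by linear_combination q2
  have q3 := (mul_eq_zero.1 q2').resolve_right hm0
  have hXY : X ≠ 0 ∨ Y ≠ 0 := by
    by_contra! h
    have hf0 : f ≠ 0 := fun h' => hm0 (by rw [hm, h', map_zero])
    exact hf0 (z0.map_eq_zero_iff.1 (show pf = 0 by rw [hpe, h.1, h.2, zero_smul, zero_smul, add_zero]))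
  rcases hXY with h | h
  · exact (mul_eq_zero.1 (show X * ((δ * A - 1) * (D - 1) - C * (δ * Bc)) = 0 by
      linear_combination (D - 1) * q1 - Bc * q3)).resolve_left h
  · exact (mul_eq_zero.1 (show Y * ((δ * A - 1) * (D - 1) - C * (δ * Bc)) = 0 by
      linear_combination (δ * A - 1) * q3 - (δ * C) * q1)).resolve_left h

/-- in every element the pseudo-reflection gives a fixed vector, up to sign -/
theorem key (NF : NoFix B e M) {ζ : F} (hζ : ζ * σ ζ = 1) (hζ3 : ζ ^ 3 ≠ 1)
    (hneg : (∃ J ∈ planeOne B M (e l) y, IsNeg (e l) f J) → (ζ ^ 3)⁻¹ ≠ -1)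
    {z : V ≃ₗ[F] V} (hz : z ∈ planeOne B M (e l) y) :
    ((ζ ^ 3)⁻¹ * B (e l) (z (e l)) - 1) * (B f (z f) / m - 1) -
        (B f (z (e l)) / m) * ((ζ ^ 3)⁻¹ * B (e l) (z f)) = 0 ∨
      ((∃ J ∈ planeOne B M (e l) y, IsNeg (e l) f J) ∧
        ((ζ ^ 3)⁻¹ * B (e l) (z (e l)) + 1) * (B f (z f) / m + 1) -
          (B f (z (e l)) / m) * ((ζ ^ 3)⁻¹ * B (e l) (z f)) = 0) := by
  classical
  haveI : Finite V := Module.finite_of_finite F
  haveI : Finite (V ≃ₗ[F] V) := Finite.of_injective (fun g => (g : V → V)) DFunLike.coe_injective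
  letI := Fintype.ofFinite (planeOne B M (e l) y)
  have hB := H.herm
  have hon := H.onb
  obtain ⟨-, -, hef, hfe⟩ := plane_dec H hf hm hm0 y
  obtain ⟨R, hR, hRd, hRw⟩ := exists_refl H h3 (one_mem M) Iso.one l (e l) y (e l) rfl (fun _ h _ => h) hζ
  set δ := (ζ ^ 3)⁻¹
  have hδ1 : δ - 1 ≠ 0 := fun h => hζ3 (inv_eq_one.1 (sub_eq_zero.1 h))
  have hRe : R (e l) = δ • e l := by rw [hRw, hon, if_pos rfl]; module
  have hRf : R f = f := by rw [hRw, hef, mul_zero, zero_smul, add_zero]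
  have hf0 : f ≠ 0 := fun h => hm0 (by rw [hm, h, map_zero])
  let φ : planeOne B M (e l) y → planeOne B M (e l) y := fun z => ⟨(z : V ≃ₗ[F] V) * R * (z : V ≃ₗ[F] V)⁻¹ * R⁻¹,
    mul_mem (mul_mem (mul_mem z.2.1 hR) (inv_mem z.2.1)) (inv_mem hR), by
      rw [UnitDec.det_mul, UnitDec.det_conj, ← UnitDec.det_mul, mul_inv_cancel]; simp⟩
  have hfib : ∀ z z', φ z = φ z' → z = z' ∨ IsNeg (e l) f ((z' : V ≃ₗ[F] V)⁻¹ * (z : V ≃ₗ[F] V)) := fun z z' hzz => by
    have h1 : (z : V ≃ₗ[F] V) * R * (z : V ≃ₗ[F] V)⁻¹ = (z' : V ≃ₗ[F] V) * R * (z' : V ≃ₗ[F] V)⁻¹ :=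
      mul_right_cancel (congrArg Subtype.val hzz)
    set w := (z' : V ≃ₗ[F] V)⁻¹ * (z : V ≃ₗ[F] V) with hwd
    have hwR : R * w = w * R := by
      have h2 := congrArg (fun t => (z' : V ≃ₗ[F] V)⁻¹ * t * (z : V ≃ₗ[F] V)) h1
      simp only [mul_assoc, inv_mul_cancel, mul_one, inv_mul_cancel_left] at h2
      exact h2.symm
    have hw : w ∈ planeOne B M (e l) y := mul_mem (inv_mem z'.2) z.2
    obtain ⟨hwe, -⟩ := plane_image H hf hm hm0 hw.1
    have h4 : R (w (e l)) = δ • w (e l) := by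
      rw [← LinearEquiv.mul_apply, hwR, LinearEquiv.mul_apply, hRe, map_smul]
    rw [hwe, map_add, map_smul, map_smul, hRe, hRf, smul_add, smul_smul, smul_smul, mul_comm δ] at h4
    have h4' : ((δ - 1) * (B f (w (e l)) / m)) • f = 0 := by
      rw [smul_smul] at h4
      linear_combination (norm := module) -h4
    rw [smul_eq_zero, mul_eq_zero, or_iff_right hδ1, or_iff_left hf0] at h4'
    have h5 : w (e l) = B (e l) (w (e l)) • e l := by
      conv_lhs => rw [hwe, h4', zero_smul, add_zero]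
    exact (fix_one H h3 hf hm hm0 hfull hyy NF hw h5).imp (fun h => Subtype.ext (inv_mul_eq_one.1 h).symm) fun h => h.1
  have hconj : ∀ z0 : planeOne B M (e l) y, ((φ z0 : planeOne B M (e l) y) : V ≃ₗ[F] V) * R =
      (z0 : V ≃ₗ[F] V) * R * (z0 : V ≃ₗ[F] V)⁻¹ := fun z0 => by simp [φ, mul_assoc]
  by_cases hJ : ∃ J ∈ planeOne B M (e l) y, IsNeg (e l) f J
  · obtain ⟨J, hJN, hJe, hJf, h20⟩ := id hJ
    have hδn := hneg hJ
    have hJim : ∀ {r : V ≃ₗ[F] V}, r ∈ planeGroup B M (e l) y → J (r (e l)) = -r (e l) ∧ J (r f) = -r f := fun {r} hr => by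
      obtain ⟨e1, e2⟩ := plane_image H hf hm hm0 hr
      exact ⟨by rw [e1, map_add, map_smul, map_smul, hJe, hJf]; module, by rw [e2, map_add, map_smul, map_smul, hJe, hJf]; module⟩
    let jm : planeOne B M (e l) y → planeOne B M (e l) y := fun z => ⟨J, hJN⟩ * z
    set S := Finset.univ.image φ with hS
    have hcard : Fintype.card (planeOne B M (e l) y) ≤ 2 * S.card := by
      rw [← Finset.card_univ]
      refine Finset.card_le_mul_card_image _ 2 fun b hb => ?_
      obtain ⟨z', -, rfl⟩ := Finset.mem_image.1 hb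
      refine (Finset.card_le_card (t := {z', z' * ⟨J, hJN⟩}) fun z hz => ?_).trans Finset.card_le_two
      rw [Finset.mem_filter] at hz
      rw [Finset.mem_insert, Finset.mem_singleton]
      refine (hfib z z' hz.2).imp id fun h => Subtype.ext ?_
      have hw : (z' : V ≃ₗ[F] V)⁻¹ * z = J := plane_ext H hf hm hm0 (mul_mem (inv_mem z'.2.1) z.2.1) hJN.1
        (h.1.trans hJe.symm) (h.2.1.trans hJf.symm)
      show (z : V ≃ₗ[F] V) = (z' : V ≃ₗ[F] V) * J
      rw [← hw, mul_inv_cancel_left]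
    have hdisj : Disjoint S (S.image jm) := Finset.disjoint_left.2 fun w hw hw' => by
      obtain ⟨z, -, rfl⟩ := Finset.mem_image.1 hw
      obtain ⟨u, hu, he⟩ := Finset.mem_image.1 hw'
      obtain ⟨z0, -, rfl⟩ := Finset.mem_image.1 hu
      have h1 : (z : V ≃ₗ[F] V) * R * (z : V ≃ₗ[F] V)⁻¹ = J * ((z0 : V ≃ₗ[F] V) * R * (z0 : V ≃ₗ[F] V)⁻¹) := by
        rw [← hconj, ← hconj, ← mul_assoc]
        exact congrArg (· * R) (congrArg Subtype.val he).symm
      -- a conjugate of the pseudo-reflection has a fixed vector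
      set p := (z : V ≃ₗ[F] V) f
      have h2 : J ((z0 : V ≃ₗ[F] V) (R ((z0 : V ≃ₗ[F] V)⁻¹ p))) = p := by
        have := congrArg (fun t : V ≃ₗ[F] V => t p) h1
        simp only [LinearEquiv.mul_apply, p, inv_apply, hRf] at this ⊢
        exact this.symm
      obtain ⟨-, hq⟩ := plane_image H hf hm hm0 (mul_mem (inv_mem z0.2.1) z.2.1)
      rw [show ((z0 : V ≃ₗ[F] V)⁻¹ * (z : V ≃ₗ[F] V)) f = (z0 : V ≃ₗ[F] V)⁻¹ p from rfl] at hq
      generalize B (e l) ((z0 : V ≃ₗ[F] V)⁻¹ p) = X at hq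
      generalize B f ((z0 : V ≃ₗ[F] V)⁻¹ p) / m = Y at hq
      rw [hq, map_add, map_smul, map_smul, hRe, hRf] at h2
      simp only [map_add, map_smul, (hJim z0.2.1).1, (hJim z0.2.1).2] at h2
      have h5 : (X * δ + X) • e l + (Y + Y) • f = 0 := (z0 : V ≃ₗ[F] V).injective (by
        have hp : p = (z0 : V ≃ₗ[F] V) (X • e l + Y • f) := by rw [← hq, apply_inv]
        rw [hp, map_add, map_smul, map_smul] at h2
        rw [map_add, map_smul, map_smul, map_zero]
        linear_combination (norm := module) -h2)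
      have q1 := congrArg (B (e l)) h5
      have q2 := congrArg (B f) h5
      simp [hon l l, hef, hfe, ← hm, hm0] at q1 q2
      have hX : X = 0 := (mul_eq_zero.1 (show X * (δ + 1) = 0 by linear_combination q1)).resolve_right
        fun h => hδn (eq_neg_of_add_eq_zero_left h)
      have hY : Y = 0 := (mul_eq_zero.1 (show (2 : F) * Y = 0 by linear_combination q2)).resolve_left h20
      rw [hX, hY, zero_smul, zero_smul, add_zero] at hq
      exact hf0 (((z0 : V ≃ₗ[F] V)⁻¹ * (z : V ≃ₗ[F] V)).map_eq_zero_iff.1 hq)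
    have huniv : S ∪ S.image jm = Finset.univ := Finset.eq_univ_of_card _ (le_antisymm (Finset.card_le_univ _) (by
      rw [Finset.card_union_of_disjoint hdisj, Finset.card_image_of_injective _ (mul_right_injective _)]
      omega))
    have := huniv.ge (Finset.mem_univ (⟨z, hz⟩ : planeOne B M (e l) y))
    rcases Finset.mem_union.1 this with h | h
    · obtain ⟨z0, -, h⟩ := Finset.mem_image.1 h
      exact Or.inl (rel_of_conj H hf hm hm0 hRe hRf hz.1 z0.2.1 (by rw [← hconj, h]))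
    · obtain ⟨u, hu, h⟩ := Finset.mem_image.1 h
      obtain ⟨z0, -, rfl⟩ := Finset.mem_image.1 hu
      refine Or.inr ⟨hJ, ?_⟩
      have := rel_of_conj H hf hm hm0 hRe hRf (φ z0).2.1 z0.2.1 (hconj z0)
      have e' : z = J * (φ z0 : V ≃ₗ[F] V) := (congrArg Subtype.val h).symm
      generalize φ z0 = w at this e'
      rw [e', LinearEquiv.mul_apply, LinearEquiv.mul_apply, (hJim w.2.1).1, (hJim w.2.1).2]
      simp only [map_neg, neg_div]
      linear_combination this
  · have hφ : Function.Injective φ := fun z z' h => (hfib z z' h).resolve_right fun hn =>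
      hJ ⟨_, mul_mem (inv_mem z'.2) z.2, hn⟩
    obtain ⟨z0, hz0⟩ := Finite.surjective_of_injective hφ ⟨z, hz⟩
    exact Or.inl (rel_of_conj H hf hm hm0 hRe hRf hz.1 z0.2.1 (by rw [← hconj, hz0]))

omit h3 hfull hyy in
/-- two reflection relations of one sign: the element fixes the coordinate line -/
theorem line_of_two {z : V ≃ₗ[F] V} (hz : z ∈ planeGroup B M (e l) y) {δ δ' : F} (hne : δ ≠ δ') {s : F}
    (hs : s * s = 1)
    (h1 : (δ * B (e l) (z (e l)) - s) * (B f (z f) / m - s) - (B f (z (e l)) / m) * (δ * B (e l) (z f)) = 0)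
    (h2 : (δ' * B (e l) (z (e l)) - s) * (B f (z f) / m - s) - (B f (z (e l)) / m) * (δ' * B (e l) (z f)) = 0) :
    z (e l) = B (e l) (z (e l)) • e l := by
  obtain ⟨hze, hzf⟩ := plane_image H hf hm hm0 hz
  obtain ⟨-, -, hef, hfe⟩ := plane_dec H hf hm hm0 y
  set A := B (e l) (z (e l))
  set C := B f (z (e l)) / m
  set Bc := B (e l) (z f)
  set D := B f (z f) / m
  have k : A * (D - s) - C * Bc = 0 := (mul_eq_zero.1 (show (δ - δ') * (A * (D - s) - C * Bc) = 0 by
    linear_combination h1 - h2)).resolve_left (sub_ne_zero.2 hne)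
  have hD : D = s := by
    have hs0 : s ≠ 0 := fun h => by simp [h] at hs
    refine mul_left_cancel₀ hs0 ?_
    linear_combination -h1 + δ * k
  rw [hD, sub_self, mul_zero, zero_sub, neg_eq_zero, mul_eq_zero] at k
  have hC : C = 0 := by
    rcases k with h | h
    · exact h
    · have hp := hz.1 (e l) f
      rw [hze, hzf, hef, hD, h] at hp
      simp [hfe, hef, H.onb l l, ← hm, hm0, show s ≠ 0 from fun h => by simp [h] at hs] at hp
      exact hp
  conv_lhs => rw [hze, hC, zero_smul, add_zero]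

/-- the two reflections of the plane differ -/
theorem closing (NF : NoFix B e M) {g : V ≃ₗ[F] V} (hgM : g ∈ M) (hg : Iso B g) {j : ι} (hy : g (e j) = y) {ζ : F}
    (hζ : ζ * σ ζ = 1) (hζ3 : ζ ^ 3 ≠ 1)
    (hneg : (∃ J ∈ planeOne B M (e l) y, IsNeg (e l) f J) → (ζ ^ 3)⁻¹ ≠ -1)
    (hline : ∀ z ∈ planeOne B M (e l) y, ∃ a : F, z (e l) = a • e l) : False := by
  have hB := H.herm
  have hon := H.onb
  obtain ⟨-, -, hef, hfe⟩ := plane_dec H hf hm hm0 y
  obtain ⟨R, hR, hRd, hRw⟩ := exists_refl H h3 (one_mem M) Iso.one l (e l) y (e l) rfl (fun _ h _ => h) hζ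
  obtain ⟨R', hR', hR'd, hR'w⟩ := exists_refl H h3 hgM hg j (e l) y y hy (fun _ _ h => h) hζ
  have hN : R' * R⁻¹ ∈ planeOne B M (e l) y := ⟨mul_mem hR' (inv_mem hR), by
    have h1 := UnitDec.det_mul R R⁻¹
    rw [mul_inv_cancel, hRd] at h1
    rw [UnitDec.det_mul, hR'd, ← h1]; simp⟩
  obtain ⟨a, ha⟩ := hline _ hN
  have hδ1 : (ζ ^ 3)⁻¹ - 1 ≠ 0 := fun h => hζ3 (inv_eq_one.1 (sub_eq_zero.1 h))
  rcases fix_one H h3 hf hm hm0 hfull hyy NF hN ha with heq | ⟨hn, -⟩
  · rw [mul_inv_eq_one] at heq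
    obtain ⟨i, hi, -⟩ := exists_third h3 l l
    have h7 := congrArg (fun r : V ≃ₗ[F] V => B (e i) (r (e l))) heq
    simp only [hRw, hR'w, map_add, map_smul, hon i l, hi, if_false, zero_add, smul_eq_mul, mul_zero] at h7
    rw [← hB.symm (e l) y] at h7
    exact mul_ne_zero (mul_ne_zero hδ1 ((map_ne_zero σ).2 (hfull l))) (hfull i) h7
  · have hyf : B y f = m := by
      have : y = f + B (e l) y • e l := by rw [hf]; abel
      rw [this]; simp [hef, ← hm]
    set u := B y f • e l - B y (e l) • f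
    have hu : B y u = 0 := by simp [u, mul_comm]
    have h1 : R' u = u := by rw [hR'w, hu, mul_zero, zero_smul, add_zero]
    have h2 : R' u = (R' * R⁻¹) (R u) := by rw [LinearEquiv.mul_apply, inv_apply]
    have hRu : R u = (B y f * (ζ ^ 3)⁻¹) • e l - B y (e l) • f := by
      rw [hRw]
      simp [u, hef, hon l l]
      module
    rw [h1, hRu, map_sub, map_smul, map_smul, hn.1, hn.2.1] at h2
    have q := congrArg (B (e l)) h2
    simp [u, hon l l, hef, hyf] at q
    exact hneg ⟨_, hN, hn⟩ (mul_left_cancel₀ hm0 (by linear_combination q))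

end

end Cfsg.Agent.ClassicalMax.SU3.Mono
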