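import Cfsg.Agent.UnitDec.MonoCase

/-!
Monomial groups in dimension three: counting norm one elements, and non-monomial elements have no zero entry.
-/

set_option autoImplicit false

namespace Cfsg.Agent.ClassicalMax.SU3.Mono

open Cfsg.Agent.Classical Cfsg.Agent.ClassicalMax.Unitary Cfsg.Agent.UnitDec Module

variable {F V ι : Type*} [Field F] [Fintype F] [DecidableEq F] [AddCommGroup V] [Module F V] [FiniteDimensional F V]
  {σ : F →+* F} [Fintype ι] [DecidableEq ι] {B : V →ₛₗ[σ] V →ₗ[F] F} {e : Basis ι F V} {M : Subgroup (V ≃ₗ[F] V)}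

/-- non-monomial elements have no vanishing entry -/
def Full (B : V →ₛₗ[σ] V →ₗ[F] F) (e : Basis ι F V) (M : Subgroup (V ≃ₗ[F] V)) : Prop :=
  ∀ x ∈ M, Iso B x → ¬ Mono B e x → ∀ l j, B (e l) (x (e j)) ≠ 0

/-- the norm one elements have order dividing one more than the size of the fixed field -/
theorem pow_U (hσ : Herm.IsInvol σ) {x : F} (hx : x * σ x = 1) : x ^ (qq σ + 1) = 1 := by
  let G : Subgroup Fˣ := (Herm.normHom σ).ker
  have hc : Nat.card G = qq σ + 1 := Herm.card_ker_normHom hσ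
  have hxG : Units.mk0 x (nrm_ne_zero hx) ∈ G := Units.ext hx
  have := congrArg (fun u : G => ((u : Fˣ) : F)) (pow_card_eq_one' (x := (⟨_, hxG⟩ : G)))
  rw [hc] at this
  simpa using this

theorem pow_fib (hσ : Herm.IsInvol σ) {k : ℕ} (hk : 0 < k) (b : F) :
    ((U σ).filter fun x => x ^ k = b).card ≤ Nat.gcd k (qq σ + 1) := by
  rcases ((U σ).filter fun x => x ^ k = b).eq_empty_or_nonempty with h | ⟨x0, hx0⟩
  · rw [h]; simp
  simp only [Finset.mem_filter, mem_U] at hx0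
  have hx00 := nrm_ne_zero hx0.1
  refine le_trans (Finset.card_le_card_of_injOn (fun x => x / x0)
    (t := (Polynomial.nthRoots (Nat.gcd k (qq σ + 1)) (1 : F)).toFinset)
    (fun x hx => ?_) fun x _ y _ h => (div_left_inj' hx00).1 h) ((Multiset.toFinset_card_le _).trans (Polynomial.card_nthRoots _ 1))
  simp only [Finset.coe_filter, Set.mem_ofPred_eq, mem_U] at hx
  rw [Finset.mem_coe, Multiset.mem_toFinset, Polynomial.mem_nthRoots (Nat.gcd_pos_of_pos_left _ hk)]
  refine pow_gcd_eq_one.2 ⟨?_, ?_⟩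
  · rw [div_pow, hx.2, hx0.2, div_self]; rw [← hx0.2]; exact pow_ne_zero _ hx00
  · rw [div_pow, pow_U hσ hx.1, pow_U hσ hx0.1, div_one]

/-- a norm one element whose sixth power is not one -/
theorem exists_six (hσ : Herm.IsInvol σ) (hq : 3 ≤ qq σ) (hq5 : qq σ ≠ 5) : ∃ ζ : F, ζ * σ ζ = 1 ∧ ζ ^ 6 ≠ 1 := by
  have h1 : Nat.gcd 6 (qq σ + 1) ≤ 6 := Nat.gcd_le_left _ (by norm_num)
  have h2 := Nat.gcd_dvd_right 6 (qq σ + 1)
  have h3 : Nat.gcd 6 (qq σ + 1) ∣ 6 := Nat.gcd_dvd_left _ _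
  have hlt : Nat.gcd 6 (qq σ + 1) < qq σ + 1 := by
    refine lt_of_le_of_ne (Nat.le_of_dvd (by omega) h2) fun h => ?_
    rw [h] at h1 h3
    have : qq σ + 1 = 4 ∨ qq σ + 1 = 5 := by omega
    rcases this with h4 | h4 <;> rw [h4] at h3 <;> norm_num at h3
  obtain ⟨ζ, hζ, hζ'⟩ := Finset.exists_mem_notMem_of_card_lt_card (s := (U σ).filter fun x => x ^ 6 = 1) (t := U σ)
    (by rw [card_U hσ]; have := pow_fib hσ (k := 6) (by norm_num) (1 : F); omega)
  exact ⟨ζ, mem_U.1 hζ, fun h => hζ' (Finset.mem_filter.2 ⟨hζ, h⟩)⟩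

/-- the cubes of norm one elements -/
def cubes (σ : F →+* F) : Finset F := (U σ).image fun z => z ^ 3

theorem card_cubes (hσ : Herm.IsInvol σ) : qq σ + 1 ≤ Nat.gcd 3 (qq σ + 1) * (cubes σ).card := by
  have := Finset.card_le_mul_card_image (f := fun z : F => z ^ 3) (U σ) (Nat.gcd 3 (qq σ + 1))
    (fun b _ => pow_fib hσ (by norm_num) b)
  rwa [card_U hσ] at this

/-- enough cubes of norm one elements -/
theorem two_cubes (hσ : Herm.IsInvol σ) (hq : 3 ≤ qq σ) (hq5 : qq σ ≠ 5) :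
    ∃ a ∈ cubes σ, ∃ b ∈ cubes σ, a ≠ 1 ∧ b ≠ 1 ∧ a ≠ b := by
  have h := card_cubes hσ
  have h2 := Nat.gcd_dvd_right 3 (qq σ + 1)
  have hc : 3 ≤ (cubes σ).card := by
    by_contra hc
    rcases (Nat.dvd_prime (by norm_num)).1 (Nat.gcd_dvd_left 3 (qq σ + 1)) with hg | hg <;> rw [hg] at h h2
    · omega
    · have : qq σ + 1 ≤ 6 := h.trans (by omega)
      obtain ⟨k, hk⟩ := h2
      omega
  have h1 : 1 < ((cubes σ).erase 1).card := by have := Finset.pred_card_le_card_erase (s := cubes σ) (a := 1); omega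
  obtain ⟨a, ha, b, hb, hab⟩ := Finset.one_lt_card.1 h1
  exact ⟨a, (Finset.mem_erase.1 ha).2, b, (Finset.mem_erase.1 hb).2, (Finset.mem_erase.1 ha).1, (Finset.mem_erase.1 hb).1, hab⟩

/-- more cubes of norm one elements outside three exceptional fields -/
theorem three_cubes (hσ : Herm.IsInvol σ) (hq : 3 < qq σ) (hq5 : qq σ ≠ 5) (hq8 : qq σ ≠ 8) (hq11 : qq σ ≠ 11) :
    3 ≤ (((cubes σ).erase 1).erase (-1)).card := by
  have h := card_cubes hσ
  have h2 := Nat.gcd_dvd_right 3 (qq σ + 1)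
  have hc : 5 ≤ (cubes σ).card := by
    by_contra hc
    rcases (Nat.dvd_prime (by norm_num)).1 (Nat.gcd_dvd_left 3 (qq σ + 1)) with hg | hg <;> rw [hg] at h h2
    · omega
    · have : qq σ + 1 ≤ 12 := h.trans (by omega)
      obtain ⟨k, hk⟩ := h2
      omega
  have := Finset.pred_card_le_card_erase (s := cubes σ) (a := 1)
  have := Finset.pred_card_le_card_erase (s := (cubes σ).erase 1) (a := (-1 : F))
  omega

section

variable (H : MonBase B e M) (h3 : Fintype.card ι = 3)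
include H h3

omit H in
theorem exists_third (a b : ι) : ∃ c, c ≠ a ∧ c ≠ b := by
  obtain ⟨c, -, hc⟩ := Finset.exists_mem_notMem_of_card_lt_card (s := ({a, b} : Finset ι)) (t := Finset.univ)
    (lt_of_le_of_lt Finset.card_le_two (by rw [Finset.card_univ, h3]; norm_num))
  simp only [Finset.mem_insert, Finset.mem_singleton, not_or] at hc
  exact ⟨c, hc⟩

omit H in
theorem univ_three {a b c : ι} (hab : a ≠ b) (hac : a ≠ c) (hbc : b ≠ c) : ({a, b, c} : Finset ι) = Finset.univ :=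
  Finset.eq_univ_of_card _ (by
    rw [Finset.card_insert_of_notMem (by simp [hab, hac]), Finset.card_pair hbc, h3])

omit H in
theorem eq_three {a b c : ι} (hab : a ≠ b) (hac : a ≠ c) (hbc : b ≠ c) (i : ι) : i = a ∨ i = b ∨ i = c := by
  have := (univ_three h3 hab hac hbc).ge (Finset.mem_univ i)
  simpa using this

omit H in
theorem sum_three {R : Type*} [AddCommMonoid R] {a b c : ι} (hab : a ≠ b) (hac : a ≠ c) (hbc : b ≠ c) (f : ι → R) :
    ∑ i, f i = f a + (f b + f c) := by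
  rw [← univ_three h3 hab hac hbc, Finset.sum_insert (by simp [hab, hac]), Finset.sum_pair hbc]

/-- the norms in a column add up to one -/
theorem col_sum {g : V ≃ₗ[F] V} (hg : Iso B g) (j : ι) {a b c : ι} (hab : a ≠ b) (hac : a ≠ c) (hbc : b ≠ c) :
    B (e a) (g (e j)) * σ (B (e a) (g (e j))) + (B (e b) (g (e j)) * σ (B (e b) (g (e j))) +
      B (e c) (g (e j)) * σ (B (e c) (g (e j)))) = 1 := by
  have h1 : B (g (e j)) (g (e j)) = 1 := by rw [hg, H.onb, if_pos rfl]
  rw [form H.onb, sum_three h3 hab hac hbc] at h1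
  linear_combination h1

/-- no element of the group outside the monomial one maps a coordinate line to one -/
theorem noFix (hno : ∀ x ∈ M, Iso B x → ∀ a (c : F), x (e a) = c • e a → Mono B e x) :
    NoFix B e M := by
  intro x hxM hxi a d hd
  have hB := H.herm
  have hon := H.onb
  have hx : x (e a) = B (e d) (x (e a)) • e d := eq_single hon hd
  obtain ⟨l, hl, -⟩ := exists_third h3 d d
  obtain ⟨m, δ, -, hmi, hmd, hm⟩ := exists_mon hon hB (Equiv.swap d a) (fun _ => (1 : F)) (fun _ => by simp) l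
  have hmM := H.mono_mem m hmi hmd (mono_of_apply hon hm)
  have h1 : (m * x) (e a) = B (e d) (x (e a)) • e a := by
    rw [LinearEquiv.mul_apply]
    conv_lhs => rw [hx, map_smul, hm, if_neg hl.symm, Equiv.swap_apply_left, one_smul]
  have h2 := hno _ (mul_mem hmM hxM) (hmi.mul hxi) a _ h1
  have h4 := Mono.mul' hon (Mono.inv' hon (mono_of_apply hon hm)) h2
  rwa [inv_mul_cancel_left] at h4

omit [DecidableEq F] [FiniteDimensional F V] in
theorem theta_prod (j : ι) {ζ : F} (hζ : ζ ≠ 0) : ∏ i, (if i = j then (ζ ^ 2)⁻¹ else ζ) = 1 := by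
  rw [Finset.prod_eq_mul_prod_diff_singleton_of_mem (Finset.mem_univ j),
    Finset.prod_congr rfl (fun i hi => show (if i = j then (ζ ^ 2)⁻¹ else ζ) = ζ by
      simp only [Finset.mem_sdiff, Finset.mem_singleton] at hi; simp [hi.2]),
    Finset.prod_const, Finset.card_sdiff_of_subset (Finset.subset_univ _), Finset.card_univ, h3, Finset.card_singleton,
    if_pos rfl]
  exact inv_mul_cancel₀ (pow_ne_zero 2 hζ)

/-- conjugate of a diagonal element with one exceptional value: a scaled pseudo-reflection at the column -/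
theorem col_conj {g : V ≃ₗ[F] V} (hgM : g ∈ M) (hg : Iso B g) (j : ι) {ζ : F} (hζ : ζ * σ ζ = 1) :
    ∃ x ∈ M, Iso B x ∧ ∀ w, x w = ζ • (w + (((ζ ^ 3)⁻¹ - 1) * B (g (e j)) w) • g (e j)) := by
  have hon := H.onb
  have hζ0 := nrm_ne_zero hζ
  obtain ⟨t, htM, hti, ht⟩ := H.diag_mem (fun i => if i = j then (ζ ^ 2)⁻¹ else ζ) (fun i => by
    split_ifs; exacts [nrm_inv (nrm_pow hζ 2), hζ]) (theta_prod H h3 j hζ0)
  refine ⟨g * t * g⁻¹, mul_mem (mul_mem hgM htM) (inv_mem hgM), (hg.mul hti).mul hg.inv, fun w => ?_⟩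
  rw [conj_diag hon hg ht]
  have e1 : ∀ i, ((if i = j then (ζ ^ 2)⁻¹ else ζ) * B (g (e i)) w) • g (e i) = ζ • B (g (e i)) w • g (e i) +
      if i = j then (ζ * (((ζ ^ 3)⁻¹ - 1) * B (g (e j)) w)) • g (e j) else 0 := fun i => by
    by_cases hi : i = j
    · subst hi
      simp only [if_true, show (ζ ^ 2)⁻¹ = ζ * (ζ ^ 3)⁻¹ by field_simp]
      module
    · simp only [if_neg hi, add_zero]; module
  have e2 : ∑ i, B (g (e i)) w • g (e i) = w := by
    conv_rhs => rw [← apply_inv g w, ← expand hon (g⁻¹ w), map_sum]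
    exact Finset.sum_congr rfl fun i _ => by rw [map_smul, ← hg (e i) (g⁻¹ w), apply_inv]
  rw [Finset.sum_congr rfl fun i _ => e1 i, Finset.sum_add_distrib, ← Finset.smul_sum, e2, Finset.sum_ite_eq',
    if_pos (Finset.mem_univ j), smul_add, smul_smul]

/-- a non-monomial element has no zero entry -/
theorem full (hq : 3 ≤ qq σ) (hq5 : qq σ ≠ 5) (NF : NoFix B e M) : Full B e M := by
  classical
  intro g hgM hg hgm a j hz
  have hB := H.herm
  have hon := H.onb
  set y := g (e j) with hy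
  have hyn : ∀ b, b ≠ a → B (e b) y ≠ 0 := fun b hb h0 => by
    obtain ⟨d, hda, hdb⟩ := exists_third h3 a b
    refine hgm (NF g hgM hg j d fun i hi => ?_)
    rcases eq_three h3 hda hdb hb.symm i with rfl | rfl | rfl
    exacts [absurd rfl hi, hz, h0]
  obtain ⟨b, hba, -⟩ := exists_third h3 a a
  obtain ⟨c, hca, hcb⟩ := exists_third h3 a b
  obtain ⟨ζ, hζ, hζ6⟩ := exists_six hB.toIsInvol hq hq5
  obtain ⟨x, hxM, hxi, hx⟩ := col_conj H h3 hgM hg j hζ
  rw [← hy] at hx
  have hζ0 := nrm_ne_zero hζ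
  set δ := (ζ ^ 3)⁻¹ with hδ
  have hδ1 : δ ≠ 1 := fun h => hζ6 (by rw [hδ, inv_eq_one] at h; rw [show ζ ^ 6 = ζ ^ 3 * ζ ^ 3 by ring, h, one_mul])
  obtain ⟨π, hπ⟩ := NF x hxM hxi a a fun i hi => by
    rw [hx, (Herm.eq_zero_comm hB).1 hz]; simp [hon i a, hi]
  have hco : ∀ i k, B (e i) (x (e k)) = ζ * ((if i = k then 1 else 0) + (δ - 1) * σ (B (e k) y) * B (e i) y) :=
    fun i k => by simp [hx, hon i k, ← hB.symm (e k) y, mul_add]
  have key : ∀ u v, u ≠ v → B (e u) y ≠ 0 → B (e v) y ≠ 0 → 1 + (δ - 1) * (B (e u) y * σ (B (e u) y)) = 0 := by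
    intro u v huv hu hv
    have hv' : v = π u := by
      by_contra h
      have h1 := hπ u v h
      rw [hco, if_neg huv.symm, zero_add] at h1
      exact mul_ne_zero hζ0 (mul_ne_zero (mul_ne_zero (sub_ne_zero.2 hδ1) ((map_ne_zero σ).2 hu)) hv) h1
    have h1 := hπ u u (fun h => huv (h.trans hv'.symm))
    rw [hco, if_pos rfl] at h1
    linear_combination (mul_eq_zero.1 h1).resolve_left hζ0
  have k1 := key b c hcb.symm (hyn b hba) (hyn c hca)
  have k2 := key c b hcb (hyn c hca) (hyn b hba)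
  have hs := col_sum H h3 hg j hba.symm hca.symm hcb.symm
  rw [← hy, hz, zero_mul, zero_add] at hs
  have hm1 : δ = -1 := by linear_combination k1 + k2 - (δ - 1) * hs
  exact hζ6 (by
    rw [hδ, inv_eq_iff_eq_inv, inv_neg_one] at hm1
    rw [show ζ ^ 6 = ζ ^ 3 * ζ ^ 3 by ring, hm1]; ring)

end

end Cfsg.Agent.ClassicalMax.SU3.Mono
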