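import Cfsg.Agent.ClassicalMax.SU3.Base
import Cfsg.Agent.ClassicalMax.SU4.SubBase

/-!
Stabilisers of an isotropic and of a non-degenerate point in three-dimensional special unitary groups are maximal.
-/

set_option autoImplicit false

namespace Cfsg.Agent.ClassicalMax.SU3

open Cfsg.Agent.Classical Cfsg.Agent.ClassicalMax Cfsg.Agent.ClassicalMax.Unitary Module

section

variable {F V : Type*} [Field F] [AddCommGroup V] [Module F V] {σ : F →+* F} {B : V →ₛₗ[σ] V →ₗ[F] F}
  [Finite F] [FiniteDimensional F V] (hB : Herm.IsHerm B)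
include hB

/-- a hyperbolic pair in the orthogonal of an anisotropic vector -/
theorem exists_pair_perp (h3 : finrank F V = 3) {a : V} (ha : B a a ≠ 0) :
    ∃ e f : V, B e e = 0 ∧ B f f = 0 ∧ B e f = 1 ∧ B a e = 0 ∧ B a f = 0 ∧
      ∀ z, B a z = 0 → B e z = 0 → B f z = 0 → z = 0 := by
  obtain ⟨u, hu, huu⟩ := exists_value hB [a] (by simp [h3]) 1 (map_one σ)
  have hau : B a u = 0 := mem_perp.1 hu a (by simp)
  have hua : B u a = 0 := (Herm.eq_zero_comm hB).1 hau
  obtain ⟨v, hv, hv0⟩ := (perp B [a, u]).exists_mem_ne_zero_of_ne_bot fun h => by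
    have hd := finrank_perp (B := B) [a, u]
    rw [h, finrank_bot, h3] at hd
    simp at hd
  obtain ⟨v, hv, hvv⟩ : ∃ v ∈ perp B [a, u], B v v ≠ 0 := by
    refine Herm.exists_anisotropic hB _ ?_
    by_contra! hc
    refine hv0 (hB.nondeg v fun y => ?_)
    have hav : B v a = 0 := (Herm.eq_zero_comm hB).1 (mem_perp.1 hv a (by simp))
    have huv : B v u = 0 := (Herm.eq_zero_comm hB).1 (mem_perp.1 hv u (by simp))
    have := hc v hv (y - (B a y / B a a) • a - B u y • u) (mem_perp.2 fun x hx => by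
      simp only [List.mem_cons, List.not_mem_nil, or_false] at hx
      rcases hx with rfl | rfl
      · simp [hau, div_mul_cancel₀ _ ha]
      · simp [hua, huu])
    simpa [hav, huv] using this
  have hav : B a v = 0 := mem_perp.1 hv a (by simp)
  have huv : B u v = 0 := mem_perp.1 hv u (by simp)
  have hva : B v a = 0 := (Herm.eq_zero_comm hB).1 hav
  have hvu : B v u = 0 := (Herm.eq_zero_comm hB).1 huv
  obtain ⟨s, hs⟩ := Herm.exists_norm hB.toIsInvol (a := -(B v v)⁻¹) (by rw [map_neg, map_inv₀, Herm.fix_self hB])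
  obtain ⟨μ, hμ⟩ := Herm.exists_trace hB.toIsInvol (a := (-1 : F)) (by simp)
  have hs0 : s ≠ 0 := fun h => inv_ne_zero hvv (neg_eq_zero.1 (by rw [← hs, h]; simp))
  set e := u + s • v with he
  have hee : B e e = 0 := by
    simp [he, huu, huv, hvu, hs]
    have := congrArg (· * B v v) hs
    simp [hvv] at this
    linear_combination this
  have hue : B u e = 1 := by simp [he, huu, huv]
  have heu : B e u = 1 := by simp [he, huu, hvu]
  have hae : B a e = 0 := by simp [he, hau, hav]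
  refine ⟨e, u + μ • e, hee, ?_, ?_, hae, by simp [hau, hae], fun z h1 h2 h3' => ?_⟩
  · simp [huu, hue, heu, hee]
    linear_combination hμ
  · simp [heu, hee]
  · have h4 : B u z = 0 := by simpa [h2] using h3'
    have h5 : B v z = 0 := by
      rw [he] at h2; simp [h4, hs0] at h2; exact h2
    refine hB.nondeg z fun y => (Herm.eq_zero_comm hB).1 ?_
    have hli : LinearIndependent F ![a, u, v] := by
      rw [Fintype.linearIndependent_iff]
      intro c hc
      have e1 := congrArg (B a) hc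
      have e2 := congrArg (B u) hc
      have e3 := congrArg (B v) hc
      simp [Fin.sum_univ_three, hau, hav, ha] at e1
      simp [Fin.sum_univ_three, hua, huu, huv] at e2
      simp [Fin.sum_univ_three, hva, hvu, hvv] at e3
      intro i; fin_cases i <;> assumption
    have hy : y ∈ Submodule.span F (Set.range ![a, u, v]) := by
      rw [hli.span_eq_top_of_card_eq_finrank (by simp [h3])]; trivial
    obtain ⟨c, rfl⟩ := (Submodule.mem_span_range_iff_exists_fun F).1 hy
    simp [Fin.sum_univ_three, h1, h4, h5]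

variable {M : Subgroup (V ≃ₗ[F] V)}

/-- the stabiliser of an isotropic point and one more element give all centres -/
theorem centres_of_isotropic (h3 : finrank F V = 3) (hiso : ∀ g ∈ M, ∀ x y, B (g x) (g y) = B x y) {e : V}
    (he0 : e ≠ 0) (hee : B e e = 0)
    (hM : ∀ g : V ≃ₗ[F] V, (∀ x y, B (g x) (g y) = B x y) → LinearMap.det g.toLinearMap = 1 → g e = e → g ∈ M)
    {g : V ≃ₗ[F] V} (hg : g ∈ M) (hge : g e ∉ F ∙ e) : ∀ v, B v v = 0 → v ∈ centres B M := by
  have he : e ∈ centres B M := ⟨hee, fun hv c hc => by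
    have hmem := Herm.tvU_mem hB hv hc
    exact hM _ hmem.1 (by simpa [Units.ext_iff] using hmem.2) (by rw [Herm.tvU_apply, hee, mul_zero, zero_smul, add_zero])⟩
  have hf : g e ∈ centres B M := map_mem_centres hB he hg (hiso g hg)
  generalize g e = f at hf hge
  have hef : B e f ≠ 0 := fun h => hge (Submodule.mem_span_singleton.2 (orth_dep hB (by omega) he0 hee hf.1 h))
  obtain ⟨m, hm, hm0⟩ := (perp B [e, f]).exists_mem_ne_zero_of_ne_bot fun h => by
    have hd := finrank_perp (B := B) [e, f]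
    rw [h, finrank_bot, h3] at hd
    simp at hd
  have hem : B e m = 0 := mem_perp.1 hm e (by simp)
  have hfm : B f m = 0 := mem_perp.1 hm f (by simp)
  have hme : B m e = 0 := (Herm.eq_zero_comm hB).1 hem
  have hmf : B m f = 0 := (Herm.eq_zero_comm hB).1 hfm
  obtain ⟨μ, hμ⟩ := Herm.exists_trace hB.toIsInvol (a := B m m) (Herm.fix_self hB m)
  have hi := SU4.Sub.sg_iso (A := B) hB.symm hee hem hme hμ
  have hsM : SU4.Sub.sg B e m μ ∈ M := hM _ hi (SU4.Sub.sg_det e m μ)
    (by rw [SU4.Sub.sg_apply hee hem hme]; simp [hee, hme])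
  have hx := map_mem_centres hB hf hsM hi
  refine centres_of_three hB h3 hiso he hf hx he0 hge fun hspan => hm0 ?_
  rw [SU4.Sub.sg_apply hee hem hme, hmf, zero_add] at hspan
  obtain ⟨a, b, hab⟩ := Submodule.mem_span_pair.1 hspan
  have e1 := congrArg (B e) hab
  have e2 := congrArg (B f) hab
  have hfe : B f e ≠ 0 := fun h => hef ((Herm.eq_zero_comm hB).1 h)
  simp [hee, hem, hef] at e1
  simp [e1, hfm, hf.1, hfe] at e2
  have e3 : B e f • m = 0 := by
    have e4 : a = -(μ * B e f) := mul_right_cancel₀ hfe (by linear_combination e2)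
    rw [e1, e4] at hab
    linear_combination (norm := module) -hab
  exact (smul_eq_zero.1 e3).resolve_left hef

/-- the stabiliser of a non-degenerate point and one more element give all centres -/
theorem centres_of_point (h3 : finrank F V = 3) (hiso : ∀ g ∈ M, ∀ x y, B (g x) (g y) = B x y) {a : V}
    (ha : B a a ≠ 0)
    (hM : ∀ g : V ≃ₗ[F] V, (∀ x y, B (g x) (g y) = B x y) → LinearMap.det g.toLinearMap = 1 → g a = a → g ∈ M)
    {g : V ≃ₗ[F] V} (hg : g ∈ M) (hga : g a ∉ F ∙ a) : ∀ v, B v v = 0 → v ∈ centres B M := by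
  obtain ⟨e, f, hee, hff, hef, hae, haf, huniq⟩ := exists_pair_perp hB h3 ha
  have hc : ∀ v, B v v = 0 → B a v = 0 → v ∈ centres B M := fun v hvv hav => ⟨hvv, fun hv c hc => by
    have hmem := Herm.tvU_mem hB hv hc
    exact hM _ hmem.1 (by simpa [Units.ext_iff] using hmem.2)
      (by rw [Herm.tvU_apply, (Herm.eq_zero_comm hB).1 hav, mul_zero, zero_smul, add_zero])⟩
  have he := hc e hee hae
  have hf := hc f hff haf
  have he0 : e ≠ 0 := fun h => by simp [h] at hef
  obtain ⟨x, hx, hax⟩ : ∃ x ∈ centres B M, B a x ≠ 0 := by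
    by_contra! hall
    have h1 := hall _ (map_mem_centres hB he hg (hiso g hg))
    have h2 := hall _ (map_mem_centres hB hf hg (hiso g hg))
    set z := g.symm a with hz
    have hgz : g z = a := g.apply_symm_apply a
    rw [← hgz, hiso g hg] at h1 h2
    have h0 := huniq (z - (B a z / B a a) • a) (by simp [div_mul_cancel₀ _ ha])
      (by simp [(Herm.eq_zero_comm hB).1 h1, (Herm.eq_zero_comm hB).1 hae])
      (by simp [(Herm.eq_zero_comm hB).1 h2, (Herm.eq_zero_comm hB).1 haf])
    rw [sub_eq_zero] at h0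
    have h1' := congrArg g h0
    rw [hgz, map_smul] at h1'
    refine hga (Submodule.mem_span_singleton.2 ⟨(B a z / B a a)⁻¹, ?_⟩)
    by_cases hk : B a z / B a a = 0
    · rw [hk, zero_smul] at h1'; exact absurd (by rw [h1']; simp) ha
    · exact (inv_smul_eq_iff₀ hk).2 h1'
  refine centres_of_three hB h3 hiso he hf hx he0 (fun hfe => ?_) fun hspan => hax ?_
  · obtain ⟨k, hk⟩ := Submodule.mem_span_singleton.1 hfe
    simp [← hk, hee] at hef
  · obtain ⟨b, c, hbc⟩ := Submodule.mem_span_pair.1 hspan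
    simp [← hbc, hae, haf]

end

section Matrices

variable {F : Type*} [Field F] [Fintype F] {q : ℕ}

lemma mem_stab {W : Submodule F (Fin 3 → F)} (g : (Fin 3 → F) ≃ₗ[F] (Fin 3 → F)) (h : ∀ w ∈ W, g w ∈ W) :
    (glEquiv (Fin 3) F).symm g ∈ Cfsg.Geo.subspaceStabilizer W := by
  show ∀ v, v ∈ (W : Set (Fin 3 → F)) ↔
    ((glEquiv (Fin 3) F).symm g : Matrix.GeneralLinearGroup (Fin 3) F).1.mulVec v ∈ (W : Set (Fin 3 → F))
  intro v
  simp only [symm_mulVec, SetLike.mem_coe]
  refine ⟨h v, fun hv => ?_⟩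
  have hmap : W.map g.toLinearMap = W :=
    Submodule.eq_of_le_of_finrank_eq (by rintro _ ⟨w, hw, rfl⟩; exact h w hw) (LinearEquiv.finrank_map_eq _ W)
  rw [← hmap] at hv
  obtain ⟨w, hw, e⟩ := hv
  exact g.injective e ▸ hw

lemma of_mem_stab {W : Submodule F (Fin 3 → F)} {g : (Fin 3 → F) ≃ₗ[F] (Fin 3 → F)}
    (h : (glEquiv (Fin 3) F).symm g ∈ Cfsg.Geo.subspaceStabilizer W) {w : Fin 3 → F} (hw : w ∈ W) : g w ∈ W := by
  have := (h w).1 hw
  change (((glEquiv (Fin 3) F).symm g : Matrix.GeneralLinearGroup (Fin 3) F) : Matrix (Fin 3) (Fin 3) F).mulVec _ ∈ W at this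
  rwa [symm_mulVec] at this

/-- the stabiliser of an isotropic point -/
theorem isotropic_maximal (hF : Fintype.card F = q ^ 2) (hq : 3 ≤ q) (W : Submodule F (Fin 3 → F)) (hW0 : W ≠ ⊥)
    (hW : Cfsg.Geo.IsTotallySingularFor (Cfsg.hermForm 3 F q) W) :
    Cfsg.Geo.IsMaximalIn (Cfsg.GU 3 F q ⊓ Cfsg.Geo.specialLinear (Fin 3) F)
      (Cfsg.Geo.subspaceStabilizer W ⊓ (Cfsg.GU 3 F q ⊓ Cfsg.Geo.specialLinear (Fin 3) F)) := by
  classical
  obtain ⟨σ, hσq, hσ, -, -⟩ := exists_powHom hF
  set B := hermB 3 σ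
  have hB : Herm.IsHerm B := hermB_isHerm hσ 3
  have h3 : Module.finrank F (Fin 3 → F) = 3 := Module.finrank_fin_fun _
  have hts : ∀ x ∈ W, ∀ y ∈ W, B x y = 0 := fun x hx y hy => by
    rw [← hermForm_eq hσq]; exact hW y hy x hx
  obtain ⟨e, he, he0⟩ := W.exists_mem_ne_zero_of_ne_bot hW0
  have hWe : ∀ w ∈ W, w ∈ F ∙ e := fun w hw => Submodule.mem_span_singleton.2
    (orth_dep hB (by omega) he0 (hts e he e he) (hts w hw w hw) (hts e he w hw))
  refine isMaximalIn_su3 hσ hσq (exists_fixed hF hσq hq) _ ?_ fun M hMle hK ⟨g, hgM, hgK⟩ => ?_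
  · obtain ⟨f, -, hff, hef⟩ := exists_singular_pairing hB [] (by simp [h3]) (a := e) (by simpa using he0) 1
    obtain ⟨c, hc0, hc⟩ := Herm.exists_skew hσ
    refine ⟨f, hff, c, by rw [hc]; ring, fun hk => ?_⟩
    have h1 := of_mem_stab hk he
    have hne : B f e ≠ 0 := fun h => one_ne_zero (hef.symm.trans ((Herm.eq_zero_comm hB).1 h))
    rw [Herm.tvU_apply, W.add_mem_iff_right he, W.smul_mem_iff (mul_ne_zero hc0 hne)] at h1
    exact one_ne_zero (hef.symm.trans (hts _ he _ h1))
  · refine centres_of_isotropic hB h3 (fun g hg => (hMle hg).1) he0 (hts e he e he)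
      (fun h hi hd hh => hK h hi hd (mem_stab h fun w hw => ?_)) hgM fun hge => hgK (mem_stab g fun w hw => ?_)
    · obtain ⟨k, rfl⟩ := Submodule.mem_span_singleton.1 (hWe w hw)
      rw [map_smul, hh]; exact W.smul_mem _ he
    · obtain ⟨k, rfl⟩ := Submodule.mem_span_singleton.1 (hWe w hw)
      rw [map_smul]; exact W.smul_mem _ ((Submodule.span_singleton_le_iff_mem _ _).2 he hge)

/-- the stabiliser of a non-degenerate point -/
theorem nondeg_maximal (hF : Fintype.card F = q ^ 2) (hq : 3 ≤ q) (W : Submodule F (Fin 3 → F)) (hW0 : W ≠ ⊥)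
    (hW : Cfsg.Geo.IsNondegenerateOn (Cfsg.hermForm 3 F q) W) (hdim : 2 * Module.finrank F W < 3) :
    Cfsg.Geo.IsMaximalIn (Cfsg.GU 3 F q ⊓ Cfsg.Geo.specialLinear (Fin 3) F)
      (Cfsg.Geo.subspaceStabilizer W ⊓ (Cfsg.GU 3 F q ⊓ Cfsg.Geo.specialLinear (Fin 3) F)) := by
  classical
  obtain ⟨σ, hσq, hσ, -, -⟩ := exists_powHom hF
  set B := hermB 3 σ
  have hB : Herm.IsHerm B := hermB_isHerm hσ 3
  have h3 : Module.finrank F (Fin 3 → F) = 3 := Module.finrank_fin_fun _
  obtain ⟨a, ha, ha0⟩ := W.exists_mem_ne_zero_of_ne_bot hW0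
  have hWa : W = F ∙ a := by
    refine (Submodule.eq_of_le_of_finrank_le ((Submodule.span_singleton_le_iff_mem _ _).2 ha) ?_).symm
    rw [finrank_span_singleton ha0]; omega
  have haa : B a a ≠ 0 := fun h => by
    obtain ⟨z, hz, hne⟩ := (hW a ha ha0).1
    rw [hermForm_eq hσq] at hne
    rw [hWa] at hz
    obtain ⟨k, rfl⟩ := Submodule.mem_span_singleton.1 hz
    exact hne (by simp [B, h])
  subst hWa
  refine isMaximalIn_su3 hσ hσq (exists_fixed hF hσq hq) _ ?_ fun M hMle hK ⟨g, hgM, hgK⟩ => ?_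
  · obtain ⟨v, -, hvv, hav⟩ := exists_singular_pairing hB [] (by simp [h3]) (a := a) (by simpa using ha0) 1
    obtain ⟨c, hc0, hc⟩ := Herm.exists_skew hσ
    refine ⟨v, hvv, c, by rw [hc]; ring, fun hk => ?_⟩
    have h1 := of_mem_stab hk ha
    have hne : B v a ≠ 0 := fun h => one_ne_zero (hav.symm.trans ((Herm.eq_zero_comm hB).1 h))
    rw [Herm.tvU_apply, Submodule.add_mem_iff_right _ ha, Submodule.smul_mem_iff _ (mul_ne_zero hc0 hne)] at h1
    obtain ⟨k, rfl⟩ := Submodule.mem_span_singleton.1 h1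
    rcases eq_or_ne k 0 with rfl | hk0
    · simp at hav
    · simp [hk0, haa] at hvv
  · refine centres_of_point hB h3 (fun g hg => (hMle hg).1) haa
      (fun h hi hd hh => hK h hi hd (mem_stab h fun w hw => ?_)) hgM fun hga => hgK (mem_stab g fun w hw => ?_)
    · obtain ⟨k, rfl⟩ := Submodule.mem_span_singleton.1 hw
      rw [map_smul, hh]; exact Submodule.smul_mem _ _ ha
    · obtain ⟨k, rfl⟩ := Submodule.mem_span_singleton.1 hw
      rw [map_smul]; exact Submodule.smul_mem _ _ hga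

end Matrices

end Cfsg.Agent.ClassicalMax.SU3
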