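import Cfsg.Agent.ClassicalMax.SU3.Stab
import Cfsg.Agent.ClassicalMax.SU4.SubBase
import Cfsg.Agent.ClassicalMax.Sp4.SubfieldEven

/-!
Subfield groups of odd prime degree in three-dimensional special unitary groups: rational frames, rationality of
elements carrying a rational isotropic point to a rational point, and the bridge to maximality.
-/

set_option autoImplicit false
set_option linter.unusedSectionVars false
set_option linter.style.haveILetI false

namespace Cfsg.Agent.ClassicalMax.SU3.Sub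

open Module Cfsg.Agent.Classical Cfsg.Agent.ClassicalMax Cfsg.Agent.ClassicalMax.Subfield
open Cfsg.Agent.ClassicalMax.SU4.Sub (Tv sg Tv_apply Tv_eq Tv_smul Tv_add Tv_zero Tv_conj sg_apply sg_mul sg_zero sg_conj sg_smul sg_iso sg_det)

variable {F : Type*} [Field F] [Fintype F] {σ : F →+* F}

/-- the hypotheses on the group -/
structure Over (F₀ : Subfield F) (A : (Fin 3 → F) →ₛₗ[σ] (Fin 3 → F) →ₗ[F] F)
    (X : Subgroup ((Fin 3 → F) ≃ₗ[F] (Fin 3 → F))) (k : F) (r : ℕ) : Prop where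
  herm : Herm.IsHerm A
  stab : ∀ a ∈ F₀, σ a ∈ F₀
  form : ∀ u v : Fin 3 → F, RV F₀ u → RV F₀ v → A u v ∈ F₀
  half : ∀ a ∈ F₀, σ a = a → ∃ μ ∈ F₀, μ + σ μ = a
  nrm : ∀ a ∈ F₀, σ a = a → ∃ θ ∈ F₀, θ * σ θ = a
  kF : k ∈ F₀
  k0 : k ≠ 0
  ks : σ k = -k
  beta : ∃ b ∈ F₀, σ b ≠ b
  rp : r.Prime
  rodd : Odd r
  cardF : Fintype.card F = Nat.card F₀ ^ r
  cardL : Nat.card (Herm.fixField σ) = Nat.card (F₀.comap (Herm.fixField σ).subtype) ^ r
  le : X ≤ Herm.suG A
  rat : ∀ s ∈ Herm.suG A, Ratty F₀ s → s ∈ X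

/-- all transvections at rational points in the group have rational parameters -/
def Strict (F₀ : Subfield F) (A : (Fin 3 → F) →ₛₗ[σ] (Fin 3 → F) →ₗ[F] F)
    (X : Subgroup ((Fin 3 → F) ≃ₗ[F] (Fin 3 → F))) : Prop :=
  ∀ (v : Fin 3 → F) (c : F), RV F₀ v → v ≠ 0 → A v v = 0 → c + σ c = 0 → Tv A v c ∈ X → c ∈ F₀

/-- a rational hyperbolic pair and a rational vector orthogonal to it -/
structure Frame (F₀ : Subfield F) (A : (Fin 3 → F) →ₛₗ[σ] (Fin 3 → F) →ₗ[F] F) (e f m : Fin 3 → F) : Prop where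
  re : RV F₀ e
  rf : RV F₀ f
  rm : RV F₀ m
  ee : A e e = 0
  ff : A f f = 0
  ef : A e f = 1
  fe : A f e = 1
  em : A e m = 0
  me : A m e = 0
  fm : A f m = 0
  mf : A m f = 0
  mm : A m m ≠ 0

theorem Frame.ne_zero {F₀ : Subfield F} {A : (Fin 3 → F) →ₛₗ[σ] (Fin 3 → F) →ₗ[F] F} {e f m : Fin 3 → F}
    (h : Frame F₀ A e f m) : e ≠ 0 := fun h0 => zero_ne_one (α := F) (by rw [← h.ef, h0, map_zero, LinearMap.zero_apply])

namespace Over

variable {F₀ : Subfield F} {A : (Fin 3 → F) →ₛₗ[σ] (Fin 3 → F) →ₗ[F] F} {X : Subgroup ((Fin 3 → F) ≃ₗ[F] (Fin 3 → F))}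
  {k : F} {r : ℕ}
variable (hO : Over F₀ A X k r)
include hO

theorem invol (a : F) : σ (σ a) = a := hO.herm.invol a

theorem symm' (a b : Fin 3 → F) : σ (A a b) = A b a := hO.herm.symm _ _

theorem swap {a b : Fin 3 → F} (h : A a b = 0) : A b a = 0 := (Herm.eq_zero_comm hO.herm).1 h

theorem iso {x : (Fin 3 → F) ≃ₗ[F] (Fin 3 → F)} (hx : x ∈ X) (a b : Fin 3 → F) : A (x a) (x b) = A a b := (hO.le hx).1 a b

theorem ext {z : F} (hz : ∀ x ∈ F₀, x * z - σ (x * z) ∈ F₀) : z ∈ F₀ := by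
  obtain ⟨b, hb, hbσ⟩ := hO.beta
  have h1 := hz 1 F₀.one_mem
  have h2 := hz b hb
  rw [one_mul] at h1
  have h3 := F₀.div_mem (F₀.sub_mem h2 (F₀.mul_mem (hO.stab b hb) h1)) (F₀.sub_mem hb (hO.stab b hb))
  rwa [show b * z - σ (b * z) - σ b * (z - σ z) = z * (b - σ b) by rw [map_mul]; ring,
    mul_div_cancel_right₀ _ (sub_ne_zero.2 (Ne.symm hbσ))] at h3

theorem fixd {z : F} (hz : ∀ l ∈ F₀, σ l = -l → l * z ∈ F₀) : z ∈ F₀ := by
  have := F₀.div_mem (hz k hO.kF hO.ks) hO.kF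
  rwa [mul_div_cancel_left₀ _ hO.k0] at this

theorem kskew : k + σ k = 0 := by rw [hO.ks, add_neg_cancel]

theorem eq_zero_of {y : Fin 3 → F} (h : ∀ i, A (Pi.single i 1) y = 0) : y = 0 :=
  hO.herm.nondeg _ fun z => hO.swap (by
    rw [eq_sum_single z, map_sum, LinearMap.sum_apply]
    exact Finset.sum_eq_zero fun i _ => by rw [map_smulₛₗ, LinearMap.smul_apply, h, smul_zero])

theorem self_half {u : Fin 3 → F} (hu : RV F₀ u) : ∃ μ ∈ F₀, μ + σ μ = A u u :=
  hO.half _ (hO.form _ _ hu hu) (hO.symm' u u)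

theorem partner {e : Fin 3 → F} (he : RV F₀ e) (hee : A e e = 0) (he0 : e ≠ 0) :
    ∃ f, RV F₀ f ∧ A f f = 0 ∧ A e f = 1 ∧ A f e = 1 := by
  obtain ⟨i, hi⟩ : ∃ i, A e (Pi.single i 1) ≠ 0 := by
    by_contra! h
    exact he0 (hO.eq_zero_of fun i => hO.swap (h i))
  set w := (A e (Pi.single i 1))⁻¹ • Pi.single i (1 : F) with hw
  have hwR : RV F₀ w := (rv_single i).smul (F₀.inv_mem (hO.form _ _ he (rv_single i)))
  have hew : A e w = 1 := by rw [hw, map_smul, smul_eq_mul, inv_mul_cancel₀ hi]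
  have hwe : A w e = 1 := by rw [← hO.symm', hew, map_one]
  obtain ⟨μ, hμ, hμw⟩ := hO.self_half hwR
  refine ⟨w - μ • e, hwR.sub (he.smul hμ), ?_, by simp [hew, hee], by simp [hwe, hee]⟩
  simp only [map_sub, map_smulₛₗ, map_smul, LinearMap.sub_apply, LinearMap.smul_apply, smul_eq_mul, hew, hwe, hee]
  linear_combination -hμw

theorem decomp_aux {e f m : Fin 3 → F} (hF : Frame F₀ A e f m) (x : Fin 3 → F) :
    x = A f x • e + A e x • f + (A m x / A m m) • m := by
  refine sub_eq_zero.1 (hO.herm.nondeg _ fun y => hO.swap ?_)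
  have hli : LinearIndependent F ![e, f, m] := by
    rw [Fintype.linearIndependent_iff]
    intro c hc
    have e1 := congrArg (A e) hc
    have e2 := congrArg (A f) hc
    have e3 := congrArg (A m) hc
    simp [Fin.sum_univ_three, hF.ee, hF.ef, hF.em] at e1
    simp [Fin.sum_univ_three, hF.fe, hF.ff, hF.fm] at e2
    simp [Fin.sum_univ_three, hF.me, hF.mf, hF.mm] at e3
    intro i; fin_cases i <;> assumption
  have hy : y ∈ Submodule.span F (Set.range ![e, f, m]) := by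
    rw [hli.span_eq_top_of_card_eq_finrank (by simp)]; trivial
  obtain ⟨c, rfl⟩ := (Submodule.mem_span_range_iff_exists_fun F).1 hy
  simp [Fin.sum_univ_three, hF.ee, hF.ef, hF.em, hF.fe, hF.ff, hF.fm, hF.me, hF.mf, hF.mm]

theorem frame_of {e : Fin 3 → F} (he : RV F₀ e) (hee : A e e = 0) (he0 : e ≠ 0) : ∃ f m, Frame F₀ A e f m := by
  obtain ⟨f, hf, hff, hef, hfe⟩ := hO.partner he hee he0
  let p : Fin 2 → Fin 3 → F := ![e, f]
  have hp : ∀ i, RV F₀ (p i) := by intro i; fin_cases i <;> assumption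
  obtain ⟨m, hm, hmp, hm0⟩ := exists_avoid (F₀ := F₀) (fun i => A (p i)) (fun i j => hO.form _ _ (hp i) (rv_single j))
    (![] : Fin 0 → Fin 3 → F) (fun j => j.elim0) (by simp)
  have hem : A e m = 0 := hmp 0
  have hfm : A f m = 0 := hmp 1
  refine ⟨f, m, he, hf, hm, hee, hff, hef, hfe, hem, hO.swap hem, hfm, hO.swap hfm, fun hmm => hm0 ?_⟩
  have hli : LinearIndependent F ![e, f] := by
    rw [LinearIndependent.pair_iff]
    intro s t hst
    have e1 := congrArg (A e) hst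
    have e2 := congrArg (A f) hst
    simp [hee, hef] at e1
    simp [hfe, hff] at e2
    exact ⟨e2, e1⟩
  by_contra hne
  have hne' : m ≠ 0 := fun h => hne (by rw [h]; exact zero_mem _)
  have hli3 : LinearIndependent F ![e, f, m] := by
    rw [Fintype.linearIndependent_iff]
    intro c hc
    have e1 := congrArg (A e) hc
    have e2 := congrArg (A f) hc
    simp [Fin.sum_univ_three, hee, hef, hem] at e1
    simp [Fin.sum_univ_three, hfe, hff, hfm] at e2
    simp [Fin.sum_univ_three, e1, e2, hne'] at hc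
    intro i; fin_cases i <;> assumption
  refine hne' (hO.herm.nondeg _ fun y => ?_)
  have hy : y ∈ Submodule.span F (Set.range ![e, f, m]) := by
    rw [hli3.span_eq_top_of_card_eq_finrank (by simp)]; trivial
  obtain ⟨c, rfl⟩ := (Submodule.mem_span_range_iff_exists_fun F).1 hy
  simp [Fin.sum_univ_three, hmm, hO.swap hem, hO.swap hfm]

theorem exists_iso : ∃ e, RV F₀ e ∧ e ≠ 0 ∧ A e e = 0 := by
  set u : Fin 3 → F := Pi.single 0 1 with hu
  have huR : RV F₀ u := rv_single 0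
  have hu0 : u ≠ 0 := fun e => by simpa [hu] using congrFun e 0
  by_cases huu : A u u = 0
  · exact ⟨u, huR, hu0, huu⟩
  obtain ⟨w, hw, hwp, hw0⟩ := exists_avoid (F₀ := F₀) (fun _ : Fin 1 => A u)
    (fun _ j => hO.form _ _ huR (rv_single j)) (![] : Fin 0 → Fin 3 → F) (fun j => j.elim0) (by simp)
  have hw0' : w ≠ 0 := fun e => hw0 (by rw [e]; exact zero_mem _)
  have huw : A u w = 0 := hwp 0
  by_cases hww : A w w = 0
  · exact ⟨w, hw, hw0', hww⟩
  obtain ⟨θ, hθ, hθN⟩ := hO.nrm (-(A u u) / A w w) (F₀.div_mem (F₀.neg_mem (hO.form _ _ huR huR)) (hO.form _ _ hw hw))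
    (by rw [map_div₀, map_neg, hO.symm', hO.symm'])
  refine ⟨u + θ • w, huR.add (hw.smul hθ), fun e => huu ?_, ?_⟩
  · have := congrArg (A u) e
    simpa [huw] using this
  · simp [huw, hO.swap huw]
    rw [eq_div_iff hww] at hθN
    linear_combination hθN

theorem exists_frame : ∃ e f m, Frame F₀ A e f m := by
  obtain ⟨e, he, he0, hee⟩ := hO.exists_iso
  obtain ⟨f, m, hF⟩ := hO.frame_of he hee he0
  exact ⟨e, f, m, hF⟩

theorem ratty_of_rat {g : (Fin 3 → F) ≃ₗ[F] (Fin 3 → F)} (h : ∀ z, RV F₀ z → RV F₀ (g z)) : Ratty F₀ g :=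
  ⟨1, one_ne_zero, fun i => by rw [one_smul]; exact h _ (rv_single i)⟩

theorem rv_of_frame {e f m : Fin 3 → F} (hF : Frame F₀ A e f m) {L : (Fin 3 → F) →ₗ[F] (Fin 3 → F)}
    (h1 : RV F₀ (L e)) (h2 : RV F₀ (L f)) (h3 : RV F₀ (L m)) {x : Fin 3 → F} (hx : RV F₀ x) : RV F₀ (L x) := by
  rw [hO.decomp_aux hF x, map_add, map_add, map_smul, map_smul, map_smul]
  exact ((h1.smul (hO.form _ _ hF.rf hx)).add (h2.smul (hO.form _ _ hF.re hx))).add
    (h3.smul (F₀.div_mem (hO.form _ _ hF.rm hx) (hO.form _ _ hF.rm hF.rm)))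

theorem Tv_mem_suG {v : Fin 3 → F} (hvv : A v v = 0) {c : F} (hc : c + σ c = 0) : Tv A v c ∈ Herm.suG A := by
  rw [Tv_eq hvv]; exact Herm.tvU_mem hO.herm hvv hc

theorem Tv_rat {v : Fin 3 → F} (hv : RV F₀ v) (hvv : A v v = 0) {c : F} (hc : c ∈ F₀) (hc' : c + σ c = 0) :
    Tv A v c ∈ X :=
  hO.rat _ (hO.Tv_mem_suG hvv hc') (hO.ratty_of_rat fun z hz => by
    rw [Tv_apply hvv]
    exact hz.add (hv.smul (F₀.mul_mem hc (hO.form _ _ hv hz))))

theorem sg_rat {e w : Fin 3 → F} (he : RV F₀ e) (hw : RV F₀ w) (hee : A e e = 0) (hew : A e w = 0) {μ : F}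
    (hμF : μ ∈ F₀) (hμ : μ + σ μ = A w w) : sg A e w μ ∈ X :=
  hO.rat _ (Unitary.mem_suG hO.herm (sg_iso hO.symm' hee hew (hO.swap hew) hμ) (sg_det e w μ))
    (hO.ratty_of_rat fun z hz => by
      rw [sg_apply hee hew (hO.swap hew)]
      exact (hz.add (hw.smul (hO.form _ _ he hz))).sub
        (he.smul (F₀.add_mem (hO.form _ _ hw hz) (F₀.mul_mem hμF (hO.form _ _ he hz)))))

theorem conj_Tv_mem {g : (Fin 3 → F) ≃ₗ[F] (Fin 3 → F)} (hg : g ∈ X) {v : Fin 3 → F} (hvv : A v v = 0) {c : F}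
    (h : Tv A v c ∈ X) : Tv A (g v) c ∈ X := by
  rw [← Tv_conj (hO.iso hg) hvv]
  exact mul_mem (mul_mem hg h) (inv_mem hg)

/-- the norm of the scalar of a rational point carried to a rational point is rational -/
theorem norm_mem (hS : Strict F₀ A X) {h : (Fin 3 → F) ≃ₗ[F] (Fin 3 → F)} (hh : h ∈ X) {v e : Fin 3 → F}
    (hv : RV F₀ v) (hv0 : v ≠ 0) (hvv : A v v = 0) (he : RV F₀ e) {a : F} (hhv : h v = a • e) :
    A e e = 0 ∧ e ≠ 0 ∧ a ≠ 0 ∧ a * σ a ∈ F₀ := by
  have hhv0 : h v ≠ 0 := fun h0 => hv0 (h.map_eq_zero_iff.1 h0)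
  rw [hhv] at hhv0
  obtain ⟨ha, he0⟩ := smul_ne_zero_iff.1 hhv0
  have hee : A e e = 0 := by
    have h1 := hO.iso hh v v
    rw [hvv, hhv, Herm.smul_self hO.herm] at h1
    exact (mul_eq_zero.1 h1).resolve_left (mul_ne_zero ha ((map_ne_zero σ).2 ha))
  refine ⟨hee, he0, ha, hO.fixd fun l hl hl' => ?_⟩
  have hls : l + σ l = 0 := by rw [hl', add_neg_cancel]
  have h1 := hO.conj_Tv_mem hh hvv (hO.Tv_rat hv hvv hl hls)
  rw [hhv, Tv_smul hee] at h1
  exact hS e _ he he0 hee (by rw [map_mul σ l, map_mul σ a, hO.invol, mul_comm (σ a) a, ← add_mul, hls, zero_mul]) h1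

/-- an element carrying a rational isotropic point to a rational point is rational up to a scalar -/
theorem ratty_of_point (hS : Strict F₀ A X) {h : (Fin 3 → F) ≃ₗ[F] (Fin 3 → F)} (hh : h ∈ X) {v e : Fin 3 → F}
    (hv : RV F₀ v) (hv0 : v ≠ 0) (hvv : A v v = 0) (he : RV F₀ e) (hhv : h v ∈ F ∙ e) : Ratty F₀ h := by
  obtain ⟨a, hhv⟩ := Submodule.mem_span_singleton.1 hhv
  replace hhv := hhv.symm
  obtain ⟨hee, he0, ha, hN⟩ := hO.norm_mem hS hh hv hv0 hvv he hhv
  have hσa : σ a ≠ 0 := (map_ne_zero σ).2 ha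
  obtain ⟨f, m, hF⟩ := hO.frame_of hv hvv hv0
  obtain ⟨f', m', hG⟩ := hO.frame_of he hee he0
  set N := a * σ a with hNd
  have hN0 : N ≠ 0 := mul_ne_zero ha hσa
  have hNs : σ N = N := by rw [hNd, map_mul, hO.invol, mul_comm]
  -- the image of the anisotropic vector
  set u := σ a • h m with hu
  have heu : A e u = 0 := by
    have h1 := hO.iso hh v m
    rw [hF.em, hhv, map_smulₛₗ, LinearMap.smul_apply, smul_eq_mul] at h1
    rw [hu, map_smul, smul_eq_mul, h1]
  have hue := hO.swap heu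
  set ν := A m' u / A m' m' with hν
  set β := A f' u with hβ
  have hud : u = β • e + ν • m' := by
    have := hO.decomp_aux hG u
    rwa [heu, zero_smul, add_zero] at this
  have huu : A u u = N * A m m := by
    rw [hu, Herm.smul_self hO.herm, hO.iso hh, hO.invol]; ring
  have hν0 : ν ≠ 0 := fun h0 => mul_ne_zero hN0 hF.mm (by rw [← huu, hud, h0, zero_smul, add_zero]; simp [hG.ee])
  have hmem : ∀ l ∈ F₀, ∃ μ ∈ F₀, μ + σ μ = A (l • u) (l • u) ∧ sg A e (l • u) μ ∈ X := fun l hl => by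
    obtain ⟨μ, hμF, hμ⟩ := hO.self_half (hF.rm.smul hl)
    have hvl : A v (l • m) = 0 := by rw [map_smul, hF.em, smul_zero]
    have h1 := mul_mem (mul_mem hh (hO.sg_rat hv (hF.rm.smul hl) hvv hvl hμF hμ)) (inv_mem hh)
    have hvh : A (h v) (h (l • m)) = 0 := by rw [hO.iso hh, hvl]
    rw [sg_conj (hO.iso hh) hvv hvl (hO.swap hvl), hhv] at h1
    rw [hhv, map_smulₛₗ, LinearMap.smul_apply, smul_eq_mul] at hvh
    have hehl : A e (h (l • m)) = 0 := (mul_eq_zero.1 hvh).resolve_left hσa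
    rw [sg_smul hO.invol hee hehl (hO.swap hehl)] at h1
    have e1 : σ a • h (l • m) = l • u := by rw [hu, map_smul, smul_comm]
    rw [e1] at h1
    refine ⟨_, F₀.mul_mem hμF hN, ?_, h1⟩
    rw [← e1, Herm.smul_self hO.herm, hO.iso hh, ← hμ, hO.invol, map_mul, hNs, hNd]
    ring
  have hνF : ν ∈ F₀ := by
    have h0 : A m' u ∈ F₀ := hO.ext fun l hl => by
      obtain ⟨μ, hμF, hμ, hm⟩ := hmem l hl
      obtain ⟨ρ, hρF, hρ⟩ := hO.self_half hG.rm
      have hX := hO.sg_rat he hG.rm hee hG.em hρF hρ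
      have hel : A e (l • u) = 0 := by rw [map_smul, heu, smul_zero]
      have h1 := mul_mem (mul_mem (mul_mem hX hm) (inv_mem hX)) (inv_mem hm)
      set d := A m' (l • u) - A (l • u) m' with hd
      have e2 : sg A e m' ρ * sg A e (l • u) μ = sg A e 0 d * (sg A e (l • u) μ * sg A e m' ρ) := by
        rw [sg_mul hee hG.em hG.me hel (hO.swap hel), sg_mul hee hel (hO.swap hel) hG.em hG.me,
          sg_mul hee (by simp) (by simp) (by simp [hG.em, heu]) (by simp [hG.me, hue]), zero_add, add_comm m']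
        congr 1
        simp [hd]
        ring
      have e3 : sg A e m' ρ * sg A e (l • u) μ * (sg A e m' ρ)⁻¹ * (sg A e (l • u) μ)⁻¹ = sg A e 0 d := by
        rw [e2]; group
      rw [e3, sg_zero hee] at h1
      have hdσ : -d + σ (-d) = 0 := by rw [map_neg, hd, map_sub, hO.symm', hO.symm']; ring
      have h2 := F₀.neg_mem (hS e _ he he0 hee hdσ h1)
      rw [neg_neg, hd, ← hO.symm' m' (l • u), map_smul, smul_eq_mul] at h2
      exact h2
    exact F₀.div_mem h0 (hO.form _ _ hG.rm hG.rm)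
  have hβF : β ∈ F₀ := hO.ext fun l hl => by
    obtain ⟨μ, hμF, hμ, hm⟩ := hmem l hl
    set z := (l * ν) • m' with hz
    have hzR : RV F₀ z := hG.rm.smul (F₀.mul_mem hl hνF)
    have hez : A e z = 0 := by simp [hz, hG.em]
    have hze := hO.swap hez
    obtain ⟨ρ, hρF, hρ⟩ := hO.self_half hzR
    have hX := hO.sg_rat he hzR.neg hee (by simp [hez]) (hO.stab _ hρF)
      (show σ ρ + σ (σ ρ) = A (-z) (-z) by rw [hO.invol, add_comm, hρ]; simp; try ring)
    have e1 : sg A e (l • u) μ = sg A e z (μ + σ (l * β) - l * β) := LinearEquiv.ext fun x => by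
      rw [sg_apply hee (by simp [heu]) (by simp [hue]), sg_apply hee hez hze, hud, hz]
      simp only [smul_add, smul_smul, map_add, map_smulₛₗ, LinearMap.add_apply, LinearMap.smul_apply, smul_eq_mul, map_mul]
      module
    rw [e1] at hm
    have h2 := mul_mem hm hX
    rw [sg_mul hee hez hze (by simp [hez]) (by simp [hze]), add_neg_cancel, map_neg, ← hρ, sg_zero hee] at h2
    set d := μ + σ (l * β) - l * β - ρ with hd
    rw [show μ + σ (l * β) - l * β + σ ρ + -(ρ + σ ρ) = d by rw [hd]; ring] at h2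
    have hds : -d + σ (-d) = 0 := by
      have e2 : A (l • u) (l • u) = A z z := by
        rw [hud, hz, smul_add, smul_smul, smul_smul]
        simp [hee, hG.em, hG.me]
        try ring
      rw [map_neg, hd, map_sub, map_sub, map_add, hO.invol]
      linear_combination -e2 - hμ + hρ
    have h3 := hS e _ he he0 hee hds h2
    have h4 := F₀.add_mem (F₀.sub_mem h3 hρF) hμF
    rwa [show -d - ρ + μ = l * β - σ (l * β) by rw [hd]; ring] at h4
  have huR : RV F₀ u := by rw [hud]; exact (he.smul hβF).add (hG.rm.smul hνF)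
  -- the image of the partner
  set w := σ a • h f with hw
  have hew : A e w = 1 := by
    have h1 := hO.iso hh v f
    rw [hF.ef, hhv, map_smulₛₗ, LinearMap.smul_apply, smul_eq_mul] at h1
    rw [hw, map_smul, smul_eq_mul, h1]
  set ω := A m' w / A m' m' with hω
  have hwd : w = A f' w • e + f' + ω • m' := by
    have := hO.decomp_aux hG w
    rwa [hew, one_smul] at this
  have huw : A u w = 0 := by
    simp [hu, hw, hO.iso hh, hF.mf]
  have hωF : ω ∈ F₀ := by
    have h1 := huw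
    rw [hud, hwd] at h1
    simp [hG.ee, hG.ef, hG.em, hG.me, hG.mf] at h1
    have : ω = -(σ β) / (σ ν * A m' m') := by
      rw [eq_div_iff (mul_ne_zero ((map_ne_zero σ).2 hν0) hG.mm)]; linear_combination h1
    rw [this]
    exact F₀.div_mem (F₀.neg_mem (hO.stab _ hβF)) (F₀.mul_mem (hO.stab _ hνF) (hO.form _ _ hG.rm hG.rm))
  set γ := A f' w with hγ
  have hωm : σ (ω * σ ω * A m' m') = ω * σ ω * A m' m' := by
    rw [map_mul, map_mul, hO.invol, hO.symm']; ring
  obtain ⟨μ, hμF, hμ⟩ := hO.half _ (F₀.mul_mem (F₀.mul_mem hωF (hO.stab _ hωF)) (hO.form _ _ hG.rm hG.rm)) hωm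
  set κ := γ + μ with hκ
  have hκs : κ + σ κ = 0 := by
    have h1 : A w w = 0 := by rw [hw, Herm.smul_self hO.herm, hO.iso hh, hF.ff, mul_zero]
    rw [hwd] at h1
    simp [hG.ee, hG.ef, hG.em, hG.me, hG.mf, hG.ff, hG.fe, hG.fm] at h1
    rw [hκ, map_add]
    linear_combination h1 + hμ
  set g := f' + ω • m' - μ • e with hg
  have hgR : RV F₀ g := (hG.rf.add (hG.rm.smul hωF)).sub (he.smul hμF)
  have hwg : w = g + κ • e := by rw [hg, hκ]; conv_lhs => rw [hwd]
                                 module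
  set c := -κ / N with hc
  have hcs : c + σ c = 0 := by
    rw [hc, map_div₀, map_neg, hNs, ← add_div, ← neg_add, hκs, neg_zero, zero_div]
  set h₀ := h * Tv A v c with hh0
  have hf0 : σ a • h₀ f = g := by
    rw [hh0, LinearEquiv.mul_apply, Tv_apply hvv, hF.ef, mul_one, map_add, map_smul, hhv, smul_add, ← hw, hwg, smul_smul,
      smul_smul, show σ a * c * a = c * N by rw [hNd]; ring, hc, div_mul_cancel₀ _ hN0]
    module
  have hv' : σ a • h v = N • e := by rw [hhv, smul_smul, hNd, mul_comm]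
  have hsplit : ∀ x, RV F₀ x → RV F₀ ((σ a • h₀.toLinearMap) x) := fun x hx => by
    refine hO.rv_of_frame hF ?_ ?_ ?_ hx
    · show RV F₀ (σ a • h₀ v)
      rw [hh0, LinearEquiv.mul_apply, Tv_apply hvv, hvv, mul_zero, zero_smul, add_zero, hv']
      exact he.smul hN
    · show RV F₀ (σ a • h₀ f)
      rw [hf0]; exact hgR
    · show RV F₀ (σ a • h₀ m)
      rw [hh0, LinearEquiv.mul_apply, Tv_apply hvv, hF.em, mul_zero, zero_smul, add_zero]
      exact huR
  have h0X : h₀ ∈ X := hO.rat _ (mul_mem (hO.le hh) (hO.Tv_mem_suG hvv hcs)) ⟨σ a, hσa, fun i => hsplit _ (rv_single i)⟩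
  have hTX : Tv A v c ∈ X := by
    have h2 := mul_mem (inv_mem hh) h0X
    rwa [hh0, inv_mul_cancel_left] at h2
  have hcF := hS v c hv hv0 hvv hcs hTX
  refine ⟨σ a, hσa, fun i => ?_⟩
  set x : Fin 3 → F := Pi.single i 1
  have h2 : RV F₀ (σ a • h₀ (x - (c * A v x) • v)) :=
    hsplit _ ((rv_single i).sub (hv.smul (F₀.mul_mem hcF (hO.form _ _ hv (rv_single i)))))
  rw [hh0, LinearEquiv.mul_apply, Tv_apply hvv, map_sub, map_smul, hvv, smul_zero, sub_zero, sub_add_cancel] at h2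
  exact h2

/-- an element outside moves every rational isotropic point to an irrational one -/
theorem irrational (hS : Strict F₀ A X) {g : (Fin 3 → F) ≃ₗ[F] (Fin 3 → F)} (hg : g ∈ X) (hgr : ¬ Ratty F₀ g)
    {v : Fin 3 → F} (hv : RV F₀ v) (hv0 : v ≠ 0) (hvv : A v v = 0) (w : Fin 3 → F) (hw : RV F₀ w) : g v ∉ F ∙ w :=
  fun h => hgr (hO.ratty_of_point hS hg hv hv0 hvv hw h)

/-- one centre at a rational point gives all -/
theorem all_of_centre {v : Fin 3 → F} (hv : RV F₀ v) (hv0 : v ≠ 0) (hc : v ∈ Unitary.centres A X) :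
    ∀ w, A w w = 0 → w ∈ Unitary.centres A X := by
  have hvv := hc.1
  obtain ⟨f, m, hF⟩ := hO.frame_of hv hvv hv0
  set c := -k⁻¹ with hcd
  have hcs : c + σ c = 0 := by rw [hcd, map_neg, map_inv₀, hO.ks, inv_neg, neg_neg, neg_add_cancel]
  have hs := mul_mem (hO.Tv_rat hv hvv (F₀.neg_mem (F₀.inv_mem hO.kF)) hcs) (hO.Tv_rat hF.rf hF.ff hO.kF hO.kskew)
  have hsv : (Tv A v c * Tv A f k) v = k • f := by
    rw [LinearEquiv.mul_apply, Tv_apply hF.ff, hF.fe, mul_one, map_add, map_smul, Tv_apply hvv, Tv_apply hvv, hvv,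
      hF.ef, mul_zero, zero_smul, add_zero, mul_one, smul_add, smul_smul, hcd, mul_neg, mul_inv_cancel₀ hO.k0]
    module
  have hf : f ∈ Unitary.centres A X := by
    have h1 := Unitary.smul_mem_centres hO.herm (Unitary.map_mem_centres hO.herm hc hs (hO.iso hs)) k⁻¹
    rwa [hsv, smul_smul, inv_mul_cancel₀ hO.k0, one_smul] at h1
  obtain ⟨μ, hμF, hμ⟩ := hO.self_half hF.rm
  have hg := hO.sg_rat hv hF.rm hvv hF.em hμF hμ
  have hx := Unitary.map_mem_centres hO.herm hf hg (hO.iso hg)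
  rw [sg_apply hvv hF.em hF.me, hF.ef, hF.mf, one_smul, zero_add, mul_one] at hx
  refine centres_of_three hO.herm (Module.finrank_fin_fun _) (fun x hx => hO.iso hx) hc hf hx hv0 (fun h => ?_)
    fun h => hF.mm ?_
  · obtain ⟨t, ht⟩ := Submodule.mem_span_singleton.1 h
    exact one_ne_zero (α := F) (by rw [← hF.ef, ← ht, map_smul, hvv, smul_zero])
  · obtain ⟨s, t, hst⟩ := Submodule.mem_span_pair.1 h
    simpa [hF.me, hF.mf] using (congrArg (A m) hst).symm

end Over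

/-- maximality of a subfield group from the overgroup statement -/
theorem isMaximalIn_sub {q : ℕ} (hσ : Herm.IsInvol σ) (hσq : ∀ x, σ x = x ^ q)
    (hr : ∃ r : F, σ r = r ∧ r ≠ 0 ∧ r ≠ 1) (F₀ : Subfield F) (P : Matrix.GeneralLinearGroup (Fin 3) F)
    (hproper : ∃ (v : Fin 3 → F) (c : F), Subfield.Unit.formP σ 1 P v v = 0 ∧ c + σ c = 0 ∧
      ¬ Ratty F₀ (Tv (Subfield.Unit.formP σ 1 P) v c))
    (h : Herm.IsHerm (Subfield.Unit.formP σ 1 P) → ∀ X : Subgroup ((Fin 3 → F) ≃ₗ[F] (Fin 3 → F)),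
      X ≤ Herm.suG (Subfield.Unit.formP σ 1 P) →
      (∀ s ∈ Herm.suG (Subfield.Unit.formP σ 1 P), Ratty F₀ s → s ∈ X) → (∃ g ∈ X, ¬ Ratty F₀ g) →
      ∀ v, Subfield.Unit.formP σ 1 P v v = 0 → v ∈ Unitary.centres (Subfield.Unit.formP σ 1 P) X) :
    Cfsg.Geo.IsMaximalIn (Cfsg.GU 3 F q ⊓ Cfsg.Geo.specialLinear (Fin 3) F)
      (Cfsg.Geo.subfieldSubgroup F₀ P ⊓ (Cfsg.GU 3 F q ⊓ Cfsg.Geo.specialLinear (Fin 3) F)) := by
  classical
  set A := Subfield.Unit.formP (n := 3) σ 1 P with hAd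
  set e : (Fin 3 → F) ≃ₗ[F] (Fin 3 → F) := glEquiv (Fin 3) F P with he
  have hB := hermB_isHerm (n := 3) hσ
  have hA : ∀ x y, A x y = hermB 3 σ (e x) (e y) := fun x y => one_mul _
  have hAH : Herm.IsHerm A :=
    { toIsInvol := hσ
      symm := fun a b => by rw [hA, hA]; exact hB.symm _ _
      nondeg := Subfield.Unit.formP_nd hσ one_ne_zero P }
  have hK : ∀ g, g ∈ Cfsg.Geo.subfieldSubgroup F₀ P ↔ Ratty F₀ (e⁻¹ * glEquiv (Fin 3) F g * e) := fun g => by
    rw [he, ← map_inv, ← map_mul, ← map_mul, ← mem_ratScalar_iff, Cfsg.Geo.subfieldSubgroup, Subgroup.mem_map]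
    constructor
    · rintro ⟨y, hy, rfl⟩
      simpa [MulAut.conj_apply, mul_assoc] using hy
    · intro h
      exact ⟨_, h, by simp [MulAut.conj_apply, mul_assoc]⟩
  have hsu : ∀ s, s ∈ Herm.suG A ↔ e * s * e⁻¹ ∈ Herm.suG (hermB 3 σ) := fun s => by
    have hd : LinearEquiv.det (e * s * e⁻¹) = LinearEquiv.det s := by
      rw [map_mul, map_mul, map_inv, mul_comm (LinearEquiv.det e), mul_inv_cancel_right]
    constructor
    · rintro ⟨h1, h2⟩
      refine ⟨fun a b => ?_, by rw [hd]; exact h2⟩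
      have h3 := h1 (e⁻¹ a) (e⁻¹ b)
      rw [hA, hA, apply_inv, apply_inv] at h3
      exact h3
    · rintro ⟨h1, h2⟩
      refine ⟨fun a b => ?_, by rw [← hd]; exact h2⟩
      have h3 := h1 (e a) (e b)
      simp only [LinearEquiv.mul_apply, inv_apply] at h3
      rw [hA, hA, h3]
  have hiso0 : ∀ {v}, A v v = 0 → hermB 3 σ (e v) (e v) = 0 := fun {v} hv => by rwa [hA] at hv
  have htv : ∀ (v) (hv : A v v = 0) (c : F), e * Tv A v c * e⁻¹ = Herm.tvU (hiso0 hv) c := fun v hv c =>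
    LinearEquiv.ext fun x => by
      rw [LinearEquiv.mul_apply, LinearEquiv.mul_apply, Tv_apply hv, Herm.tvU_apply, map_add, map_smul, apply_inv, hA,
        apply_inv]
  constructor
  · refine lt_of_le_of_ne inf_le_right fun heq => ?_
    obtain ⟨v, c, hv, hc, hvc⟩ := hproper
    refine hvc ?_
    have hmem : (glEquiv (Fin 3) F).symm (Herm.tvU (hiso0 hv) c) ∈ Cfsg.Geo.subfieldSubgroup F₀ P :=
      (heq.ge ((Unitary.glEquiv_mem_iff hσq _).2 (by
        rw [MulEquiv.apply_symm_apply]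
        have := Herm.tvU_mem hB (hiso0 hv) hc
        exact ⟨this.1, by simpa [Units.ext_iff] using this.2⟩))).1
    rw [hK, MulEquiv.apply_symm_apply, ← htv v hv c,
      show e⁻¹ * (e * Tv A v c * e⁻¹) * e = Tv A v c by group] at hmem
    exact hmem
  · intro M hM1 hM2
    by_cases hle : M ≤ Cfsg.Geo.subfieldSubgroup F₀ P
    · exact Or.inl (le_antisymm (le_inf hle hM2) hM1)
    refine Or.inr (le_antisymm hM2 fun k hk => ?_)
    obtain ⟨g, hg, hgK⟩ := SetLike.not_le_iff_exists.1 hle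
    set M' := M.map (glEquiv (Fin 3) F).toMonoidHom with hM'
    let X : Subgroup ((Fin 3 → F) ≃ₗ[F] (Fin 3 → F)) := M'.comap (MulAut.conj e).toMonoidHom ⊓ Herm.suG A
    have hrat : ∀ s ∈ Herm.suG A, Ratty F₀ s → s ∈ X := fun s hs hr => by
      refine ⟨⟨(glEquiv (Fin 3) F).symm (e * s * e⁻¹), hM1 ⟨?_, ?_⟩, MulEquiv.apply_symm_apply _ _⟩, hs⟩
      · show (glEquiv (Fin 3) F).symm (e * s * e⁻¹) ∈ Cfsg.Geo.subfieldSubgroup F₀ P
        rw [hK, MulEquiv.apply_symm_apply, show e⁻¹ * (e * s * e⁻¹) * e = s by group]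
        exact hr
      · refine (Unitary.glEquiv_mem_iff hσq _).2 ?_
        rw [MulEquiv.apply_symm_apply]
        have := (hsu s).1 hs
        exact ⟨this.1, by rw [← LinearEquiv.coe_det, this.2]; rfl⟩
    have hg' : e⁻¹ * glEquiv (Fin 3) F g * e ∈ X := by
      have h2 := (Unitary.glEquiv_mem_iff hσq g).1 (hM2 hg)
      refine ⟨?_, (hsu _).2 ?_⟩
      · show e * (e⁻¹ * glEquiv (Fin 3) F g * e) * e⁻¹ ∈ M'
        rw [show e * (e⁻¹ * glEquiv (Fin 3) F g * e) * e⁻¹ = glEquiv (Fin 3) F g by group]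
        exact Subgroup.mem_map_of_mem _ hg
      · rw [show e * (e⁻¹ * glEquiv (Fin 3) F g * e) * e⁻¹ = glEquiv (Fin 3) F g by group]
        exact Unitary.mem_suG hB h2.1 h2.2
    have hall := h hAH X inf_le_right hrat ⟨_, hg', fun h => hgK ((hK g).2 h)⟩
    have hcen : ∀ w, hermB 3 σ w w = 0 → w ∈ Unitary.centres (hermB 3 σ) M' := fun w hw => by
      refine ⟨hw, fun hw' c hc => ?_⟩
      have hv : A (e⁻¹ w) (e⁻¹ w) = 0 := by rw [hA, apply_inv, hw]
      have h1 : e * Herm.tvU hv c * e⁻¹ ∈ M' := ((hall _ hv).2 hv c hc).1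
      rw [← Tv_eq hv, htv _ hv] at h1
      have h2 : Herm.tvU (hiso0 hv) c = Herm.tvU hw' c :=
        LinearEquiv.ext fun x => by rw [Herm.tvU_apply, Herm.tvU_apply, apply_inv]
      rwa [h2] at h1
    obtain ⟨k', hk', e'⟩ := suG_le hB (by rw [Module.finrank_fin_fun]; norm_num) hr hcen
      (Unitary.mem_suG hB ((Unitary.glEquiv_mem_iff hσq k).1 hk).1 ((Unitary.glEquiv_mem_iff hσq k).1 hk).2)
    exact (glEquiv (Fin 3) F).injective e' ▸ hk'

end Cfsg.Agent.ClassicalMax.SU3.Sub
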