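import Cfsg.Agent.ClassicalMax.SU3.SubTools

/-!
Characteristic two: with more than two rational fixed scalars, strictness forces rationality.
-/

set_option autoImplicit false
set_option linter.unusedSectionVars false
set_option linter.style.haveILetI false

namespace Cfsg.Agent.ClassicalMax.SU3.Sub

open Module Cfsg.Agent.Classical Cfsg.Agent.ClassicalMax Cfsg.Agent.ClassicalMax.Subfield
open Cfsg.Agent.ClassicalMax.SU4.Sub (Tv sg Tv_apply Tv_eq Tv_smul Tv_add Tv_zero Tv_conj sg_apply sg_mul sg_zero sg_conj sg_smul sg_iso sg_det)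

variable {F : Type*} [Field F] [Fintype F] {σ : F →+* F} {A : (Fin 3 → F) →ₛₗ[σ] (Fin 3 → F) →ₗ[F] F}
  {F₀ : Subfield F} {X : Subgroup ((Fin 3 → F) ≃ₗ[F] (Fin 3 → F))} {k : F} {r : ℕ}

/-- equal transvections have proportional centres -/
theorem centre_of_eq (hA : Herm.IsHerm A) {x v : Fin 3 → F} (hxx : A x x = 0) (hvv : A v v = 0) (hv0 : v ≠ 0) {a b : F}
    (hb : b ≠ 0) (h : Tv A x a = Tv A v b) : ∃ γ : F, x = γ • v ∧ a * (γ * σ γ) = b := by
  obtain ⟨y, hy⟩ : ∃ y, A v y ≠ 0 := by by_contra! hh; exact hv0 (hA.nondeg _ hh)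
  have h1 := LinearEquiv.congr_fun h y
  rw [Tv_apply hxx, Tv_apply hvv, add_right_inj] at h1
  have hne : a * A x y ≠ 0 := fun h0 => by
    rw [h0, zero_smul, eq_comm, smul_eq_zero] at h1
    exact h1.elim (mul_ne_zero hb hy) hv0
  set γ := (a * A x y)⁻¹ * (b * A v y) with hγ
  have hx : x = γ • v := by rw [hγ, mul_smul, ← h1, inv_smul_smul₀ hne]
  refine ⟨γ, hx, ?_⟩
  have h2 := congrArg (fun s => s) h1
  rw [hx] at h2
  simp only [map_smulₛₗ, LinearMap.smul_apply, smul_eq_mul, smul_smul] at h2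
  have h3 : (a * (σ γ * A v y) * γ - b * A v y) • v = 0 := by rw [sub_smul, h2, sub_self]
  have h4 := (smul_eq_zero.1 h3).resolve_right hv0
  exact mul_right_cancel₀ hy (by linear_combination h4)

namespace Over

variable (hO : Over F₀ A X k r)
include hO

theorem strict_even_big (h2 : (2 : F) = 0) (hS : Strict F₀ A X) {g : (Fin 3 → F) ≃ₗ[F] (Fin 3 → F)} (hg : g ∈ X)
    (hgr : ¬ Ratty F₀ g) {a' : F} (ha'F : a' ∈ F₀) (ha's : σ a' = a') (ha'0 : a' ≠ 0) (ha'1 : a' ≠ 1) : False := by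
  classical
  haveI : CharP F 2 := CharTwo.of_one_ne_zero_of_two_eq_zero one_ne_zero h2
  obtain ⟨e, f, m, hF⟩ := hO.exists_frame
  set p := g e with hp
  have hpp : A p p = 0 := by rw [hp, hO.iso hg, hF.ee]
  have hp0 : p ≠ 0 := fun h => hF.ne_zero (g.map_eq_zero_iff.1 h)
  have hirr := hO.irrational hS hg hgr hF.re hF.ne_zero hF.ee
  rw [← hp] at hirr
  have hep : A e p ≠ 0 := fun h => hirr e hF.re (Submodule.mem_span_singleton.2
    (orth_dep hO.herm (by simp) hF.ne_zero hF.ee hpp h))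
  have hpe : A p e ≠ 0 := fun h => hep (hO.swap h)
  have hz : Tv A p 1 ∈ X := hO.conj_Tv_mem hg hF.ee (hO.Tv_rat hF.re hF.ee F₀.one_mem (one_skew h2))
  have hskew : ∀ a, σ a = a → a + σ a = 0 := fun a ha => by rw [ha]; exact add_self h2 a
  have hswap : ∀ a ∈ F₀, σ a = a → a ≠ 0 → ∃ c ∈ X, ∃ γ : F, c e = γ • p ∧ c p = γ⁻¹ • e ∧ a * (γ * σ γ) = 1 ∧
      ∀ x, A e x = 0 → A p x = 0 → c x = x := fun a ha has ha0 => by
    obtain ⟨c, hc, hcc, hct, hfix⟩ := hO.exists_swap_mem h2 hF.ne_zero hp0 hF.ee hpp hep ha0 one_ne_zero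
      (hO.Tv_rat hF.re hF.ee ha (hskew a has)) hz
    rw [Tv_conj (hO.iso hc) hF.ee] at hct
    obtain ⟨γ, hγ, hγN⟩ := centre_of_eq hO.herm (by rw [hO.iso hc, hF.ee]) hpp hp0 one_ne_zero hct
    have hγ0 : γ ≠ 0 := fun h => by rw [h, zero_mul, mul_zero] at hγN; exact zero_ne_one hγN
    refine ⟨c, hc, γ, hγ, ?_, hγN, hfix⟩
    have h3 := LinearEquiv.congr_fun hcc e
    rw [LinearEquiv.mul_apply, hγ, map_smul] at h3
    calc c p = γ⁻¹ • γ • c p := by rw [inv_smul_smul₀ hγ0]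
      _ = γ⁻¹ • e := congrArg _ h3
  obtain ⟨c₁, hc₁, γ₁, h1e, h1p, hN1, hfix1⟩ := hswap 1 F₀.one_mem (map_one σ) one_ne_zero
  obtain ⟨c₂, hc₂, γ₂, h2e, h2p, hN2, hfix2⟩ := hswap a' ha'F ha's ha'0
  have hγ1 : γ₁ ≠ 0 := fun h => by rw [h, zero_mul, mul_zero] at hN1; exact zero_ne_one hN1
  have hγ2 : γ₂ ≠ 0 := fun h => by rw [h, zero_mul, mul_zero] at hN2; exact zero_ne_one hN2
  set β := γ₁ * γ₂⁻¹ with hβ
  have hβ0 : β ≠ 0 := mul_ne_zero hγ1 (inv_ne_zero hγ2)
  have hde : (c₂ * c₁) e = β • e := by rw [LinearEquiv.mul_apply, h1e, map_smul, h2p, smul_smul]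
  have hdp : (c₂ * c₁) p = β⁻¹ • p := by
    rw [LinearEquiv.mul_apply, h1p, map_smul, h2e, smul_smul, hβ, mul_inv_rev, inv_inv, mul_comm]
  set d := c₂ * c₁ with hd
  have hdX : d ∈ X := mul_mem hc₂ hc₁
  have hβs : σ β = β := by
    have h := hO.iso hdX e p
    rw [hde, hdp] at h
    simp only [map_smulₛₗ, LinearMap.smul_apply, smul_eq_mul, RingHom.id_apply] at h
    have h4 : (σ β * β⁻¹ - 1) * A e p = 0 := by linear_combination h
    have h5 := sub_eq_zero.1 ((mul_eq_zero.1 h4).resolve_right hep)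
    calc σ β = σ β * β⁻¹ * β := by rw [inv_mul_cancel_right₀ hβ0]
      _ = β := by rw [h5, one_mul]
  have hβ2 : β * β = a' := by
    have h4 : β * σ β = a' := by
      rw [one_mul] at hN1
      have h5 : (γ₂ * σ γ₂)⁻¹ = a' := inv_eq_of_mul_eq_one_left hN2
      rw [hβ, map_mul, map_inv₀, ← h5, mul_mul_mul_comm, hN1, one_mul, mul_inv]
    rwa [hβs] at h4
  haveI : Fintype F₀ := Fintype.ofFinite F₀
  obtain ⟨⟨b, hb⟩, hbb⟩ := FiniteField.isSquare_of_char_two (F := F₀) (ringChar.eq_iff.2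
    (CharTwo.of_one_ne_zero_of_two_eq_zero one_ne_zero (Subtype.ext h2))) ⟨a', ha'F⟩
  have hβF : β ∈ F₀ := by
    have e1 : β * β = b * b := hβ2.trans (congrArg Subtype.val hbb)
    rcases mul_self_eq_mul_self_iff.1 e1 with e2 | e2
    · rwa [e2]
    · rw [e2, CharTwo.neg_eq]; exact hb
  -- the element is rational
  obtain ⟨κ, hκ, hκi⟩ := hO.ratty_of_point hS hdX hF.re hF.ne_zero hF.ee hF.re
    (Submodule.mem_span_singleton.2 ⟨β, hde.symm⟩)
  have hκe : RV F₀ ((κ * β) • e) := by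
    have h := RV.map (L := κ • d.toLinearMap) (fun i => hκi i) hF.re
    have h' : RV F₀ (κ • d e) := h
    rwa [hde, smul_smul] at h'
  have hκF : κ ∈ F₀ := by
    have h := F₀.div_mem (rv_scalar hF.re hκe hF.ne_zero rfl) hβF
    rwa [mul_div_assoc, div_self hβ0, mul_one] at h
  have hdR : ∀ x, RV F₀ x → RV F₀ (d x) := fun x hx => by
    have h : RV F₀ (κ • d x) := RV.map (L := κ • d.toLinearMap) (fun i => hκi i) hx
    have h' := h.smul (F₀.inv_mem hκF)
    rwa [inv_smul_smul₀ hκ] at h'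
  -- the second fixed point is rational
  obtain ⟨n, hn, hn0⟩ := (Unitary.perp A [e, p]).exists_mem_ne_zero_of_ne_bot fun h => by
    have hd := Unitary.finrank_perp (B := A) [e, p]
    rw [h, finrank_bot] at hd
    simp at hd
  have hen : A e n = 0 := Unitary.mem_perp.1 hn e (by simp)
  have hpn : A p n = 0 := Unitary.mem_perp.1 hn p (by simp)
  have hdn : d n = n := by rw [hd, LinearEquiv.mul_apply, hfix1 n hen hpn, hfix2 n hen hpn]
  have hli : LinearIndependent F ![e, p, n] := by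
    rw [Fintype.linearIndependent_iff]
    intro l hl
    have e1 := congrArg (A e) hl
    have e2 := congrArg (A p) hl
    simp [Fin.sum_univ_three, hF.ee, hep, hen] at e1
    simp [Fin.sum_univ_three, hpe, hpp, hpn] at e2
    simp [Fin.sum_univ_three, e1, e2, hn0] at hl
    intro i; fin_cases i <;> assumption
  obtain ⟨l, hl⟩ := (Submodule.mem_span_range_iff_exists_fun F).1
    (show f ∈ Submodule.span F (Set.range ![e, p, n]) by
      rw [hli.span_eq_top_of_card_eq_finrank (by simp)]; trivial)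
  simp [Fin.sum_univ_three] at hl
  have hl1 : l 1 ≠ 0 := fun h => by
    have e1 := congrArg (A e) hl
    simp [hF.ee, hen, h, hF.ef] at e1
  set h := d f - f with hh
  have hhR : RV F₀ h := (hdR f hF.rf).sub hF.rf
  have hhd : h = (l 0 * (β - 1)) • e + (l 1 * (β⁻¹ - 1)) • p := by
    rw [hh, ← hl, map_add, map_add, map_smul, map_smul, map_smul, hde, hdp, hdn]
    module
  set t := l 1 * (β⁻¹ - 1) * (β⁻¹ - β) with ht
  have htp : RV F₀ (t • p) := by
    have h3 := (hdR h hhR).sub (hhR.smul hβF)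
    have e3 : d h - β • h = t • p := by
      rw [hhd, map_add, map_smul, map_smul, hde, hdp, ht]
      module
    rwa [e3] at h3
  have hββ : β * β ≠ 1 := by rw [hβ2]; exact ha'1
  have hn1 : β⁻¹ - 1 ≠ 0 := fun h => hββ (by
    have : β = 1 := inv_eq_one.1 (sub_eq_zero.1 h)
    rw [this, one_mul])
  have hn2 : β⁻¹ - β ≠ 0 := fun h => hββ (by
    conv_lhs => arg 1; rw [← sub_eq_zero.1 h]
    exact inv_mul_cancel₀ hβ0)
  have ht0 : t ≠ 0 := mul_ne_zero (mul_ne_zero hl1 hn1) hn2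
  exact hirr _ htp (Submodule.mem_span_singleton.2 ⟨t⁻¹, inv_smul_smul₀ ht0 p⟩)

end Over

end Cfsg.Agent.ClassicalMax.SU3.Sub
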