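import Cfsg.Agent.ClassicalMax.SU3.SubEvenBig
import Cfsg.Agent.Invol.ZStar

/-!
Characteristic two with two rational fixed scalars: a rational transvection is isolated, so by Glauberman's theorem
products of transvections lie in the odd core, and strictness again forces rationality.
-/

set_option autoImplicit false
set_option linter.unusedSectionVars false
set_option linter.style.haveILetI false

namespace Cfsg.Agent.ClassicalMax.SU3.Sub

open Module Cfsg.Agent.Classical Cfsg.Agent.ClassicalMax Cfsg.Agent.ClassicalMax.Subfield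
open Cfsg.Agent.ClassicalMax.SU4.Sub (Tv sg Tv_apply Tv_eq Tv_smul Tv_add Tv_zero Tv_conj sg_apply sg_mul sg_zero sg_conj sg_smul sg_iso sg_det)

section Abstract

variable {G : Type*} [Group G] [Finite G]

/-- an element of odd order with trivial fourth power is trivial -/
theorem eq_one_of_four {x : G} (ho : Odd (orderOf x)) (h : x ^ 4 = 1) : x = 1 := by
  have hd : orderOf x ∣ 2 ^ 2 := orderOf_dvd_of_pow_eq_one h
  obtain ⟨i, -, hi⟩ := (Nat.dvd_prime_pow Nat.prime_two).1 hd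
  rcases i with _ | i
  · exact orderOf_eq_one_iff.1 (by rw [hi, pow_zero])
  · rw [hi] at ho
    exact absurd ho (Nat.not_odd_iff_even.2 (by rw [pow_succ]; exact even_two.mul_left _))

/-- an involution whose centraliser in an odd normal subgroup lies in a central subgroup inverts modulo it -/
theorem inverted {t : G} (ht : t * t = 1) {O : Subgroup G} [O.Normal] (hodd : ∀ y ∈ O, Odd (orderOf y))
    {Z : Subgroup G} (hZ : ∀ c ∈ Z, ∀ g, Commute c g) (hC : ∀ y ∈ O, Commute y t → y ∈ Z) {x : G} (hx : x ∈ O) :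
    t * x * t⁻¹ * x ∈ Z := by
  have hti : t⁻¹ = t := inv_eq_of_mul_eq_one_right ht
  set y := x⁻¹ * (t * x * t⁻¹) with hy
  have hyO : y ∈ O := mul_mem (inv_mem hx) (Subgroup.Normal.conj_mem inferInstance x hx t)
  have hyt : t * y * t⁻¹ = y⁻¹ := by
    rw [hy]
    calc t * (x⁻¹ * (t * x * t⁻¹)) * t⁻¹ = (t * x⁻¹ * t⁻¹) * ((t * t) * x * (t * t)⁻¹) := by group
      _ = (t * x⁻¹ * t⁻¹) * x := by rw [ht]; group
      _ = (x⁻¹ * (t * x * t⁻¹))⁻¹ := by group
  obtain ⟨j, hj⟩ := hodd y hyO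
  have hy1 : y ^ (2 * j + 1) = 1 := by rw [← hj, pow_orderOf_eq_one]
  set c := x * y ^ (j + 1) with hc
  have hct : t * c * t⁻¹ = c := by
    calc t * c * t⁻¹ = (t * x * t⁻¹) * (t * y ^ (j + 1) * t⁻¹) := by rw [hc]; group
      _ = (x * y) * (y ^ (j + 1))⁻¹ := by rw [← conj_pow, hyt, inv_pow, hy]; group
      _ = x * (y * (y ^ (j + 1))⁻¹ * y ^ (2 * j + 1)) := by rw [hy1, mul_one, mul_assoc]
      _ = x * y ^ (j + 1) := by group
  have hcZ : c ∈ Z := hC c (mul_mem hx (pow_mem hyO _)) (Commute.symm (mul_inv_eq_iff_eq_mul.1 hct))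
  have hxc : t * x * t⁻¹ * x = c * c := by
    calc t * x * t⁻¹ * x = t * (c * (y ^ (j + 1))⁻¹) * t⁻¹ * x := by rw [hc]; group
      _ = (t * c * t⁻¹) * ((t * y * t⁻¹) ^ (j + 1))⁻¹ * x := by rw [conj_pow]; group
      _ = c * y ^ (j + 1) * x := by rw [hct, hyt, inv_pow, inv_inv]
      _ = y ^ (j + 1) * (c * x) := by rw [(hZ c hcZ _).eq, mul_assoc]
      _ = y ^ (j + 1) * (x * c) := by rw [(hZ c hcZ x).eq]
      _ = y ^ (j + 1) * (c * (y ^ (j + 1))⁻¹ * c) := by rw [hc]; group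
      _ = (y ^ (j + 1) * c) * ((y ^ (j + 1))⁻¹ * c) := by group
      _ = (c * y ^ (j + 1)) * ((y ^ (j + 1))⁻¹ * c) := by rw [(hZ c hcZ _).eq]
      _ = c * c := by group
  rw [hxc]
  exact mul_mem hcZ hcZ

/-- an inverting automorphism modulo a central subgroup forces commutators into it -/
theorem comm_mem {t : G} {O : Subgroup G} {Z : Subgroup G} (hZ : ∀ c ∈ Z, ∀ g, Commute c g)
    (hinv : ∀ x ∈ O, t * x * t⁻¹ * x ∈ Z) {x y : G} (hx : x ∈ O) (hy : y ∈ O) : x * y * x⁻¹ * y⁻¹ ∈ Z := by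
  obtain ⟨a, ha, hax⟩ : ∃ a ∈ Z, t * x * t⁻¹ = a * x⁻¹ := ⟨_, hinv x hx, by group⟩
  obtain ⟨b, hb, hby⟩ : ∃ b ∈ Z, t * y * t⁻¹ = b * y⁻¹ := ⟨_, hinv y hy, by group⟩
  have h3 : a * b * (x⁻¹ * y⁻¹ * (x * y)) ∈ Z := by
    have h := hinv _ (mul_mem hx hy)
    have e : t * (x * y) * t⁻¹ * (x * y) = a * b * (x⁻¹ * y⁻¹ * (x * y)) := by
      calc t * (x * y) * t⁻¹ * (x * y) = (t * x * t⁻¹) * (t * y * t⁻¹) * (x * y) := by group
        _ = a * (x⁻¹ * b) * y⁻¹ * (x * y) := by rw [hax, hby]; group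
        _ = a * (b * x⁻¹) * y⁻¹ * (x * y) := by rw [(hZ b hb x⁻¹).eq]
        _ = _ := by group
    rwa [e] at h
  have h4 : x⁻¹ * y⁻¹ * (x * y) ∈ Z := (Subgroup.mul_mem_cancel_left _ (mul_mem ha hb)).1 h3
  set w := x⁻¹ * y⁻¹ * (x * y) with hw
  have e5 : x * y * x⁻¹ * y⁻¹ = (y * x) * w * (y * x)⁻¹ := by rw [hw]; group
  rw [e5, ← (hZ w h4 _).eq, mul_inv_cancel_right]
  exact h4

end Abstract

variable {F : Type*} [Field F] [Fintype F] {σ : F →+* F} {A : (Fin 3 → F) →ₛₗ[σ] (Fin 3 → F) →ₗ[F] F}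
  {F₀ : Subfield F} {X : Subgroup ((Fin 3 → F) ≃ₗ[F] (Fin 3 → F))} {k : F} {r : ℕ}

/-- the scalars in a group of linear maps -/
def scal (X : Subgroup ((Fin 3 → F) ≃ₗ[F] (Fin 3 → F))) : Subgroup X where
  carrier := {g | ∃ c : F, ∀ x : Fin 3 → F, g.1 x = c • x}
  one_mem' := ⟨1, fun x => (one_smul F x).symm⟩
  mul_mem' := by
    rintro g h ⟨a, ha⟩ ⟨b, hb⟩
    exact ⟨a * b, fun x => by
      show g.1 (h.1 x) = _
      rw [hb, ha, mul_smul]⟩
  inv_mem' := by
    rintro g ⟨a, ha⟩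
    refine ⟨a⁻¹, fun x => ?_⟩
    show g.1⁻¹ x = a⁻¹ • x
    apply g.1.injective
    rw [apply_inv, map_smul, ha, smul_smul]
    rcases eq_or_ne a 0 with rfl | ha0
    · have := g.1.map_eq_zero_iff.1 (show g.1 x = 0 by rw [ha, zero_smul])
      simp [this]
    · rw [inv_mul_cancel₀ ha0, one_smul]

theorem scal_comm {c : X} (hc : c ∈ scal X) (g : X) : Commute c g := by
  obtain ⟨a, ha⟩ := hc
  exact Subtype.ext (LinearEquiv.ext fun x => by
    show c.1 (g.1 x) = g.1 (c.1 x)
    rw [ha, ha, map_smul])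

namespace Over

variable (hO : Over F₀ A X k r)
include hO

/-- with two fixed rational scalars, the centraliser of a rational transvection in the odd core is scalar -/
theorem odd_centraliser (h2 : (2 : F) = 0) (hS : Strict F₀ A X) (hΦ : ∀ a ∈ F₀, σ a = a → a = 0 ∨ a = 1)
    {e f m : Fin 3 → F} (hF : Frame F₀ A e f m) {O : Subgroup X} [O.Normal] (hodd : ∀ y ∈ O, Odd (orderOf y))
    {t : X} (ht : t.1 = Tv A e 1) {y : X} (hy : y ∈ O) (hyt : Commute y t) : y ∈ scal X := by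
  classical
  haveI := finite_gl (F := F)
  have hmm : A m m = 1 := (hΦ _ (hO.form _ _ hF.rm hF.rm) (hO.symm' m m)).resolve_left hF.mm
  obtain ⟨β, hβ, hβσ⟩ := hO.beta
  have hee := hF.ee
  have he0 := hF.ne_zero
  have hyi := hO.iso y.2
  obtain ⟨v, hv⟩ : ∃ v, A (y.1 e) v ≠ 0 := by
    by_contra! hh; exact he0 (y.1.map_eq_zero_iff.1 (hO.herm.nondeg _ hh))
  have hyt' : Commute y.1 (Tv A e 1) := ht ▸ congrArg Subtype.val hyt.eq
  obtain ⟨l, hl⟩ := Submodule.mem_span_singleton.1 (eigen_of_commute hyi hee one_ne_zero hv hyt')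
  obtain ⟨-, -, hl0, hlN⟩ := hO.norm_mem hS y.2 hF.re he0 hee hF.re hl.symm
  have hlN1 : l * σ l = 1 := (hΦ _ hlN (by rw [map_mul, hO.invol, mul_comm])).resolve_left
    (mul_ne_zero hl0 ((map_ne_zero σ).2 hl0))
  have hcomm : ∀ b ∈ F₀, ∀ z : Fin 3 → F, z = σ l • y.1 (b • m) → A m z = A m (b • m) ∧
      A f z - A z f = 0 := by
    intro b hb z hz
    obtain ⟨μ, hμF, hμ⟩ := hO.self_half (hF.rm.smul hb)
    have hew : A e (b • m) = 0 := by simp [hF.em]
    set u : X := ⟨sg A e (b • m) μ, hO.sg_rat hF.re (hF.rm.smul hb) hee hew hμF hμ⟩ with hu'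
    have hye : A e (y.1 (b • m)) = 0 := by
      have h1 := hyi e (b • m)
      rw [← hl, hew, map_smulₛₗ, LinearMap.smul_apply, smul_eq_mul] at h1
      exact (mul_eq_zero.1 h1).resolve_left ((map_ne_zero σ).2 hl0)
    have hez : A e z = 0 := by rw [hz, map_smul, hye, smul_zero]
    have hyu : (y * u * y⁻¹ : X).1 = sg A e z μ := by
      show y.1 * sg A e (b • m) μ * y.1⁻¹ = _
      rw [sg_conj hyi hee hew (hO.swap hew), ← hl, sg_smul hO.invol hee hye (hO.swap hye), hlN1, mul_one, ← hz]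
    have hneg : sg A e (b • m) μ * sg A e (-(b • m)) (σ μ) = 1 := by
      rw [sg_mul hee hew (hO.swap hew) (by rw [map_neg, hew, neg_zero])
        (by rw [map_neg, LinearMap.neg_apply, hO.swap hew, neg_zero]), add_neg_cancel, sg_zero hee, map_neg, hμ,
        add_neg_cancel, neg_zero, Tv_zero hee]
    have hui : (u⁻¹ : X).1 = sg A e (-(b • m)) (σ μ) := inv_eq_of_mul_eq_one_right hneg
    have hcO : y * u * y⁻¹ * u⁻¹ ∈ O := by
      have h1 : u * y⁻¹ * u⁻¹ ∈ O := Subgroup.Normal.conj_mem inferInstance _ (inv_mem hy) u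
      have h3 := mul_mem hy h1
      rwa [← mul_assoc, ← mul_assoc] at h3
    have h4 : (y * u * y⁻¹ * u⁻¹) ^ 4 = 1 := by
      apply Subtype.ext
      show ((y * u * y⁻¹ : X).1 * (u⁻¹ : X).1) ^ 4 = 1
      have hd : A e (z + -(b • m)) = 0 := by rw [map_add, map_neg, hez, hew]; simp
      have hdd : (z + -(b • m)) + (z + -(b • m)) = 0 := funext fun i => add_self h2 _
      rw [hyu, hui, sg_mul hee hez (hO.swap hez) (by rw [map_neg, hew, neg_zero])
        (by rw [map_neg, LinearMap.neg_apply, hO.swap hew, neg_zero]), show (4 : ℕ) = 2 * 2 from rfl, pow_mul, pow_two,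
        pow_two, sg_mul hee hd (hO.swap hd) hd (hO.swap hd), hdd, sg_zero hee, ← Tv_add hee, add_self h2,
        Tv_zero hee]
    have h5 := eq_one_of_four (hodd _ hcO) h4
    rw [mul_inv_eq_one] at h5
    have h6 := LinearEquiv.congr_fun (congrArg Subtype.val h5) f
    rw [hyu] at h6
    change sg A e z μ f = sg A e (b • m) μ f at h6
    rw [sg_apply hee hez (hO.swap hez), sg_apply hee hew (hO.swap hew), hF.ef] at h6
    have e1 := congrArg (A m) h6
    have e2 := congrArg (A f) h6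
    simp [hF.me, hF.mf] at e1
    simp [hF.ff, hF.fe, hF.fm, hF.mf] at e2
    exact ⟨by simp [e1], by linear_combination e2⟩
  set z₀ := σ l • y.1 m with hz₀
  set δ := A f z₀ with hδ
  have h1 := hcomm 1 F₀.one_mem z₀ (by rw [one_smul])
  have h3 := hcomm β hβ (β • z₀) (by rw [hz₀, map_smul, smul_comm])
  rw [one_smul] at h1
  have hδ1 : δ = σ δ := by rw [hδ, hO.symm']; exact sub_eq_zero.1 h1.2
  have hδ0 : δ = 0 := by
    have h4 := h3.2
    simp only [map_smulₛₗ, map_smul, LinearMap.smul_apply, smul_eq_mul, RingHom.id_apply] at h4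
    rw [← hδ, ← hO.symm' f z₀, ← hδ, ← hδ1] at h4
    have h5 : (β - σ β) * δ = 0 := by linear_combination h4
    exact (mul_eq_zero.1 h5).resolve_left (sub_ne_zero.2 (Ne.symm hβσ))
  have hez₀ : A e z₀ = 0 := by
    have h4 := hyi e m
    rw [← hl, hF.em] at h4
    simp only [map_smulₛₗ, LinearMap.smul_apply, smul_eq_mul] at h4
    rw [hz₀, map_smul, (mul_eq_zero.1 h4).resolve_left ((map_ne_zero σ).2 hl0), smul_zero]
  have hz0m : z₀ = m := by
    rw [hO.decomp_aux hF z₀, hez₀, ← hδ, hδ0, h1.1, hmm]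
    simp
  have hym : y.1 m = l • m := by
    have h4 := congrArg (l • ·) hz0m
    change l • z₀ = l • m at h4
    rwa [hz₀, smul_smul, hlN1, one_smul] at h4
  have hef' : A e (y.1 f) = l := by
    have h4 := hyi e f
    rw [← hl, hF.ef] at h4
    simp only [map_smulₛₗ, LinearMap.smul_apply, smul_eq_mul] at h4
    calc A e (y.1 f) = l * (σ l * A e (y.1 f)) := by rw [← mul_assoc, hlN1, one_mul]
      _ = l := by rw [h4, mul_one]
  have hmf' : A m (y.1 f) = 0 := by
    have h4 := hyi m f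
    rw [hym, hF.mf] at h4
    simp only [map_smulₛₗ, LinearMap.smul_apply, smul_eq_mul] at h4
    exact (mul_eq_zero.1 h4).resolve_left ((map_ne_zero σ).2 hl0)
  set α := A f (y.1 f) with hα
  have hyf : y.1 f = α • e + l • f := by
    conv_lhs => rw [hO.decomp_aux hF (y.1 f)]
    rw [hef', hmf']; simp [← hα]
  have hsq : y ^ 2 ∈ scal X := ⟨l * l, fun x => by
    rw [pow_two]
    show y.1 (y.1 x) = _
    rw [hO.decomp_aux hF x]
    simp only [map_add, map_smul, hym, ← hl, hyf, smul_add, smul_smul]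
    match_scalars
    · linear_combination (A e x * l * α) * h2
    · ring
    · ring⟩
  obtain ⟨j, hj⟩ := hodd y hy
  have e6 : y = (y ^ 2) ^ (j + 1) := by
    rw [← pow_mul, show 2 * (j + 1) = (2 * j + 1) + 1 by ring, pow_succ, ← hj, pow_orderOf_eq_one, one_mul]
  rw [e6]
  exact pow_mem hsq _

/-- with two fixed rational scalars, the product with a moved rational point has norm one -/
theorem norm_eq_one (h2 : (2 : F) = 0) (hS : Strict F₀ A X) (hΦ : ∀ a ∈ F₀, σ a = a → a = 0 ∨ a = 1)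
    {e : Fin 3 → F} (he : RV F₀ e) (he0 : e ≠ 0) (hee : A e e = 0) {g' : (Fin 3 → F) ≃ₗ[F] (Fin 3 → F)}
    (hg' : g' ∈ X) (hgr' : ¬ Ratty F₀ g') : A e (g' e) * σ (A e (g' e)) = 1 := by
  classical
  haveI : CharP F 2 := CharTwo.of_one_ne_zero_of_two_eq_zero one_ne_zero h2
  haveI := finite_gl (F := F)
  haveI : Fact (Nat.Prime 2) := ⟨Nat.prime_two⟩
  obtain ⟨f, m, hF⟩ := hO.frame_of he hee he0
  have hmm : A m m = 1 := (hΦ _ (hO.form _ _ hF.rm hF.rm) (hO.symm' m m)).resolve_left hF.mm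
  obtain ⟨β, hβ, hβσ⟩ := hO.beta
  set t : X := ⟨Tv A e 1, hO.Tv_rat he hee F₀.one_mem (one_skew h2)⟩ with ht
  have ht2 : t * t = 1 := Subtype.ext (Tv_sq h2 hee 1)
  have ht1 : t ≠ 1 := fun h => by
    have h1 := LinearEquiv.congr_fun (congrArg Subtype.val h) f
    change Tv A e 1 f = f at h1
    rw [Tv_apply hee, hF.ef, one_mul, one_smul, add_eq_left] at h1
    exact he0 h1
  -- the transvection is isolated
  have hiso : Cfsg.IsIsolatedInvolution t := by
    refine ⟨orderOf_eq_prime (by rw [pow_two]; exact ht2) ht1, fun x hx => ?_⟩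
    have hxe : A (x.1 e) (x.1 e) = 0 := by rw [hO.iso x.2, hee]
    have he' : (x * t * x⁻¹ : X).1 = Tv A (x.1 e) 1 := Tv_conj (hO.iso x.2) hee 1
    have h1 : Commute (Tv A e 1) (Tv A (x.1 e) 1) := by
      rw [← he']; exact congrArg Subtype.val hx.eq
    have h3 : A e (x.1 e) = 0 := by
      by_contra hne
      have hne0 : x.1 e ≠ 0 := fun h => he0 (x.1.map_eq_zero_iff.1 h)
      have h4 := no_common hO.herm h2 he0 hne0 hee hxe hne one_ne_zero one_ne_zero
        (hO.iso (hO.Tv_rat he hee F₀.one_mem (one_skew h2))) (Tv_sq h2 hee 1) (Commute.refl _) h1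
      exact ht1 (Subtype.ext h4)
    obtain ⟨a, ha⟩ := orth_dep hO.herm (by simp) he0 hee hxe h3
    obtain ⟨-, -, ha0, hN⟩ := hO.norm_mem hS x.2 he he0 hee he ha.symm
    have hN1 : a * σ a = 1 := (hΦ _ hN (by rw [map_mul, hO.invol, mul_comm])).resolve_left
      (mul_ne_zero ha0 ((map_ne_zero σ).2 ha0))
    apply Subtype.ext
    rw [he', ← ha, Tv_smul hee, one_mul, hN1]
  set O := Cfsg.oddCore X with hOdef
  haveI : O.Normal := by rw [hOdef]; exact Core.pPrimeCore_normal
  have hodd : ∀ y ∈ O, Odd (orderOf y) := fun y hy =>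
    Nat.not_even_iff_odd.1 fun hev => Core.not_dvd_card_pPrimeCore (p := 2) (G := X)
      ((even_iff_two_dvd.1 hev).trans ((Subgroup.orderOf_mk y hy).symm ▸ orderOf_dvd_natCard _))
  have hC : ∀ y ∈ O, Commute y t → y ∈ scal X := fun y hy h => hO.odd_centraliser h2 hS hΦ hF hodd rfl hy h
  have hZ : ∀ c ∈ scal X, ∀ x, Commute c x := fun c hc x => scal_comm hc x
  have hcomm : ∀ {x y : X}, x ∈ O → y ∈ O → x * y * x⁻¹ * y⁻¹ ∈ scal X := fun hx hy =>
    comm_mem hZ (fun x hx => inverted ht2 hodd hZ hC hx) hx hy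
  have hti : t⁻¹ = t := inv_eq_of_mul_eq_one_right ht2
  have hmemO : ∀ c : X, t * (c * t * c⁻¹) ∈ O := fun c => by
    have h1 := Cfsg.Agent.Invol.zstar hiso c
    rwa [hti, show t * c * t * c⁻¹ = t * (c * t * c⁻¹) by group] at h1
  -- the moved transvection
  set p := g' e with hp
  have hpp : A p p = 0 := by rw [hp, hO.iso hg', hee]
  have hirr := hO.irrational hS hg' hgr' he he0 hee
  rw [← hp] at hirr
  have hep : A e p ≠ 0 := fun h => hirr e he (Submodule.mem_span_singleton.2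
    (orth_dep hO.herm (by simp) he0 hee hpp h))
  set z : X := (⟨g', hg'⟩ : X) * t * (⟨g', hg'⟩ : X)⁻¹ with hz
  have hzv : z.1 = Tv A p 1 := Tv_conj (hO.iso hg') hee 1
  set w := t * z with hw
  have hwO : w ∈ O := hmemO _
  set Q := w * w * w with hQ
  have hQ' : ∀ b ∈ F₀, ∃ ν : F, Q.1 (m - σ b • e) = ν • (m - σ b • e) := by
    intro b hb
    obtain ⟨μ, hμF, hμ⟩ := hO.self_half (hF.rm.smul hb)
    set u := f + b • m + μ • e with hu
    have huR : RV F₀ u := (hF.rf.add (hF.rm.smul hb)).add (he.smul hμF)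
    have huu : A u u = 0 := by
      simp at hμ
      simp [hu, hee, hF.ff, hF.ef, hF.fe, hF.em, hF.me, hF.fm, hF.mf, hmm] at hμ ⊢
      linear_combination hμ + (b * σ b) * h2
    have heu : A e u = 1 := by simp [hu, hee, hF.ef, hF.em]
    have hue : A u e = 1 := by rw [← hO.symm', heu, map_one]
    have hu0 : u ≠ 0 := fun h => zero_ne_one (α := F) (by rw [← hue, h, map_zero, LinearMap.zero_apply])
    have hun : A u (m - σ b • e) = 0 := by simp [hu, hee, hF.fe, hF.em, hF.me, hF.fm, hmm]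
    have hfu : ∀ x, A u x = A f x + σ b * A m x + σ μ * A e x := fun x => by simp [hu]
    clear_value u
    obtain ⟨c, hc, -, hct, -⟩ := hO.exists_swap_mem h2 he0 hu0 hee huu (by rw [heu]; exact one_ne_zero)
      one_ne_zero one_ne_zero (hO.Tv_rat he hee F₀.one_mem (one_skew h2)) (hO.Tv_rat huR huu F₀.one_mem (one_skew h2))
    set a := t * ((⟨c, hc⟩ : X) * t * (⟨c, hc⟩ : X)⁻¹) with ha
    have haO : a ∈ O := hmemO _
    have hav : ∀ x, a.1 x = x + A u x • u + (A e x + A u x) • e := fun x => by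
      show Tv A e 1 ((c * Tv A e 1 * c⁻¹) x) = _
      rw [hct, Tv_apply hee, Tv_apply huu, map_add, map_smul, heu, one_mul, one_mul, smul_eq_mul, mul_one]
    obtain ⟨ζ, hζ⟩ := hcomm hwO haO
    have hwa : ∀ x, w.1 (a.1 x) = ζ • a.1 (w.1 x) := fun x => by
      have e1 : w * a = (w * a * w⁻¹ * a⁻¹) * (a * w) := by group
      have e2 := LinearEquiv.congr_fun (congrArg Subtype.val e1) x
      exact e2.trans (hζ _)
    have hζ3 : ζ ^ 3 = 1 := by
      have e1 : (w * a * w⁻¹ * a⁻¹ : X).1.toLinearMap = ζ • LinearMap.id := LinearMap.ext fun x => hζ x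
      have e2 := congrArg Units.val (hO.le (w * a * w⁻¹ * a⁻¹ : X).2).2
      rw [LinearEquiv.coe_det, e1, LinearMap.det_smul, LinearMap.det_id, mul_one, Module.finrank_fin_fun,
        Units.val_one] at e2
      exact e2
    set n := m - σ b • e with hn
    have hen : A e n = 0 := by simp [hn, hee, hF.em]
    have han : a.1 n = n := by rw [hav, hun, hen]; simp
    have hfix : a.1 (Q.1 n) = Q.1 n := by
      have e1 : Q.1 (a.1 n) = ζ ^ 3 • a.1 (Q.1 n) := by
        show w.1 (w.1 (w.1 (a.1 n))) = _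
        rw [hwa, map_smul, map_smul, hwa, map_smul, hwa, smul_smul, smul_smul]
        show _ = ζ ^ 3 • a.1 (w.1 (w.1 (w.1 n)))
        congr 1
        ring
      rw [han, hζ3, one_smul] at e1
      exact e1.symm
    set x := Q.1 n
    rw [hav, add_assoc, add_eq_left] at hfix
    have hux : A u x = 0 := by
      have e1 := congrArg (A e) hfix
      simpa [heu, hee] using e1
    have hex : A e x = 0 := by
      have e1 := congrArg (A u) hfix
      simpa [hux, hue] using e1
    have hfx : A f x = -(σ b * A m x) := by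
      rw [hfu, hex] at hux
      linear_combination hux
    refine ⟨A m x, ?_⟩
    conv_lhs => rw [hO.decomp_aux hF x]
    rw [hex, hfx, hmm, hn, div_one]
    module
  have hQe : ∃ ν : F, Q.1 e = ν • e := by
    obtain ⟨ν₀, h0⟩ := hQ' 0 F₀.zero_mem
    obtain ⟨ν₁, h1⟩ := hQ' 1 F₀.one_mem
    obtain ⟨ν₂, h3⟩ := hQ' β hβ
    simp at h0 h1
    have hQe : Q.1 e = ν₀ • m - ν₁ • (m - e) := by rw [← h1, h0]; abel
    rw [map_sub, map_smul, h0, hQe] at h3
    have e1 := congrArg (A f) h3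
    have e2 := congrArg (A m) h3
    simp [hF.fm, hF.fe, hF.me, hmm] at e1 e2
    have hσβ0 : σ β ≠ 0 := fun h => hβσ (by rw [h]; exact ((map_eq_zero σ).1 h).symm)
    have h12 : ν₁ = ν₂ := mul_left_cancel₀ hσβ0 (by linear_combination e1)
    have h01 : (ν₀ - ν₁) * (1 - σ β) = 0 := by rw [← h12] at e2; linear_combination e2
    have hne : (1 : F) - σ β ≠ 0 := fun h => hβσ (by
      have e3 : σ β = 1 := (sub_eq_zero.1 h).symm
      have e4 : β = 1 := by rw [← hO.invol β, e3, map_one]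
      rw [e3, e4])
    refine ⟨ν₁, ?_⟩
    rw [hQe, sub_eq_zero.1 ((mul_eq_zero.1 h01).resolve_right hne)]
    module
  have hQ1 : Q = 1 := by
    obtain ⟨ν, hν⟩ := hQe
    obtain ⟨-, -, hν0, hνN⟩ := hO.norm_mem hS Q.2 he he0 hee he hν
    have hνN1 : ν * σ ν = 1 := (hΦ _ hνN (by rw [map_mul, hO.invol, mul_comm])).resolve_left
      (mul_ne_zero hν0 ((map_ne_zero σ).2 hν0))
    have hQt : Commute Q t := by
      have e1 : (Q * t * Q⁻¹ : X).1 = t.1 := by
        show Q.1 * Tv A e 1 * Q.1⁻¹ = Tv A e 1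
        rw [Tv_conj (hO.iso Q.2) hee, hν, Tv_smul hee, one_mul, hνN1]
      exact mul_inv_eq_iff_eq_mul.1 (Subtype.ext e1)
    obtain ⟨c, hc⟩ := hC Q (mul_mem (mul_mem hwO hwO) hwO) hQt
    obtain ⟨n, hn, hn0⟩ := (Unitary.perp A [e, p]).exists_mem_ne_zero_of_ne_bot fun h => by
      have hd := Unitary.finrank_perp (B := A) [e, p]
      rw [h, finrank_bot] at hd
      simp at hd
    have hen : A e n = 0 := Unitary.mem_perp.1 hn e (by simp)
    have hpn : A p n = 0 := Unitary.mem_perp.1 hn p (by simp)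
    have hwn : w.1 n = n := by
      show Tv A e 1 (z.1 n) = n
      rw [hzv, Tv_apply hpp, hpn, mul_zero, zero_smul, add_zero, Tv_apply hee, hen, mul_zero, zero_smul, add_zero]
    have e1 : Q.1 n = n := by
      show w.1 (w.1 (w.1 n)) = n
      rw [hwn, hwn, hwn]
    rw [hc] at e1
    have hc1 : c = 1 := by
      by_contra hne
      exact hn0 ((smul_eq_zero.1 (show (c - 1) • n = 0 by rw [sub_smul, one_smul, e1, sub_self])).resolve_left
        (sub_ne_zero.2 hne))
    apply Subtype.ext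
    refine LinearEquiv.ext fun x => ?_
    rw [hc, hc1, one_smul]; rfl
  -- compute the cube
  set a := A e p with ha
  have hsa : A p e = σ a := (hO.symm' e p).symm
  have hstep : ∀ X' Y : F, w.1 (X' • e + Y • p) =
      (X' * (1 + a * σ a) + Y * a) • e + (X' * σ a + Y) • p := fun X' Y => by
    show Tv A e 1 (z.1 (X' • e + Y • p)) = _
    rw [hzv, Tv_apply hpp, Tv_apply hee]
    simp only [map_add, map_smul, hpp, hsa, hee, ← ha, smul_eq_mul, mul_zero, add_zero, zero_add, one_mul]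
    module
  have h8 : w.1 (w.1 (w.1 e)) = e := LinearEquiv.congr_fun (congrArg Subtype.val hQ1) e
  have he1 : e = (1 : F) • e + (0 : F) • p := by simp
  conv_lhs at h8 => rw [he1, hstep, hstep, hstep]
  have h9 := congrArg (A e) h8
  simp only [map_add, map_smul, hee, ← ha, smul_eq_mul, mul_zero, zero_add] at h9
  have h10 : a * σ a * ((a * σ a - 1) * (a * σ a - 1)) = 0 := by
    linear_combination h9 - (a * σ a) * (3 * (a * σ a) + 1) * h2
  have h11 := (mul_eq_zero.1 h10).resolve_left (mul_ne_zero hep ((map_ne_zero σ).2 hep))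
  exact sub_eq_zero.1 (mul_self_eq_zero.1 h11)

theorem strict_even_two (h2 : (2 : F) = 0) (hS : Strict F₀ A X) {g : (Fin 3 → F) ≃ₗ[F] (Fin 3 → F)} (hg : g ∈ X)
    (hgr : ¬ Ratty F₀ g) (hΦ : ∀ a ∈ F₀, σ a = a → a = 0 ∨ a = 1) : False := by
  classical
  haveI : CharP F 2 := CharTwo.of_one_ne_zero_of_two_eq_zero one_ne_zero h2
  have hnorm : ∀ a ∈ F₀, a ≠ 0 → a * σ a = 1 := fun a ha ha0 =>
    (hΦ _ (F₀.mul_mem ha (hO.stab a ha)) (by rw [map_mul, hO.invol, mul_comm])).resolve_left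
      (mul_ne_zero ha0 ((map_ne_zero σ).2 ha0))
  obtain ⟨e, f, m, hF⟩ := hO.exists_frame
  have hmm : A m m = 1 := (hΦ _ (hO.form _ _ hF.rm hF.rm) (hO.symm' m m)).resolve_left hF.mm
  set p := g e with hp
  have hN : ∀ u, RV F₀ u → u ≠ 0 → A u u = 0 → A u p * σ (A u p) = 1 := by
    intro u hu hu0 huu
    by_cases hue : A u e = 0
    · obtain ⟨a, ha⟩ := orth_dep hO.herm (by simp) hF.ne_zero hF.ee huu (hO.swap hue)
      rw [← ha] at hu hu0
      have haF : a ∈ F₀ := rv_scalar hF.re hu hF.ne_zero rfl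
      have ha1 := hnorm a haF (fun h => hu0 (by rw [h, zero_smul]))
      have h1 := hO.norm_eq_one h2 hS hΦ hF.re hF.ne_zero hF.ee hg hgr
      rw [← hp] at h1
      rw [← ha]
      simp only [map_smulₛₗ, LinearMap.smul_apply, smul_eq_mul, map_mul, hO.invol]
      linear_combination (a * σ a) * h1 + ha1
    · obtain ⟨c, hc, -, hct, -⟩ := hO.exists_swap_mem h2 hu0 hF.ne_zero huu hF.ee hue one_ne_zero one_ne_zero
        (hO.Tv_rat hu huu F₀.one_mem (one_skew h2)) (hO.Tv_rat hF.re hF.ee F₀.one_mem (one_skew h2))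
      rw [Tv_conj (hO.iso hc) huu] at hct
      obtain ⟨γ, hγ, hγN⟩ := centre_of_eq hO.herm (by rw [hO.iso hc, huu]) hF.ee hF.ne_zero one_ne_zero hct
      rw [one_mul] at hγN
      have hγ0 : γ ≠ 0 := fun h => by rw [h, zero_mul] at hγN; exact zero_ne_one hγN
      have hgc : (g * c) u = γ • p := by rw [LinearEquiv.mul_apply, hγ, map_smul]
      have hnr : ¬ Ratty F₀ (g * c) := by
        rintro ⟨κ, hκ, hκi⟩
        have h3 : RV F₀ (κ • (g * c) u) := RV.map (L := κ • (g * c).toLinearMap) (fun i => hκi i) hu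
        rw [hgc, smul_smul] at h3
        exact hO.irrational hS hg hgr hF.re hF.ne_zero hF.ee _ h3
          (Submodule.mem_span_singleton.2 ⟨(κ * γ)⁻¹, inv_smul_smul₀ (mul_ne_zero hκ hγ0) p⟩)
      have h1 := hO.norm_eq_one h2 hS hΦ hu hu0 huu (mul_mem hg hc) hnr
      rw [hgc, map_smul, smul_eq_mul, map_mul] at h1
      linear_combination h1 - (A u p * σ (A u p)) * hγN
  have hpp : A p p = 0 := by rw [hp, hO.iso hg, hF.ee]
  set x := A e p with hx
  set y := A f p with hy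
  set n := A m p with hn
  have hf0 : f ≠ 0 := fun h => zero_ne_one (α := F) (by rw [← hF.fe, h, map_zero, LinearMap.zero_apply])
  have hxN : x * σ x = 1 := hN e hF.re hF.ne_zero hF.ee
  have hyN : y * σ y = 1 := hN f hF.rf hf0 hF.ff
  have hxy : σ y * x + σ x * y + σ n * n = 0 := by
    have h1 := hpp
    conv_lhs at h1 => arg 2; rw [hO.decomp_aux hF p]
    simp [← hx, ← hy, ← hn, hmm] at h1
    rw [← hO.symm' e p, ← hO.symm' f p, ← hO.symm' m p, ← hx, ← hy, ← hn] at h1
    linear_combination h1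
  have hnN : n * σ n = 1 := by
    have h1 := hN (f + e) (hF.rf.add hF.re) (fun h => one_ne_zero (α := F) (by
      have := congrArg (A e) h; simpa [hF.ee, hF.ef] using this))
      (by simp [hF.ee, hF.ff, hF.ef, hF.fe, add_self h2 (1 : F)])
    simp [← hx, ← hy] at h1
    linear_combination h1 + hxy - hxN - hyN - (x * σ y + σ x * y) * h2 - h2
  have hU : ∀ μ ∈ F₀, μ + σ μ = 1 → y + σ μ * x = 0 := by
    intro μ hμF hμ
    obtain ⟨β, hβ, hβσ⟩ := hO.beta
    have hb : ∀ b ∈ F₀, b ≠ 0 → (y + σ μ * x + σ b * n) * σ (y + σ μ * x + σ b * n) = 1 := fun b hb hb0 => by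
      have h1 := hN (f + b • m + μ • e) ((hF.rf.add (hF.rm.smul hb)).add (hF.re.smul hμF))
        (fun h => one_ne_zero (α := F) (by
          have := congrArg (A e) h; simpa [hF.ee, hF.ef, hF.em] using this))
        (by
          simp [hF.ee, hF.ff, hF.ef, hF.fe, hF.em, hF.me, hF.fm, hF.mf, hmm]
          linear_combination hμ + hnorm b hb hb0 + h2)
      simp [← hx, ← hy, ← hn, hO.invol] at h1 ⊢
      linear_combination h1
    have hβ0 : β ≠ 0 := fun h => hβσ (by rw [h, map_zero])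
    have hβ1 : (1 : F) + β ≠ 0 := fun h => hβσ (by
      have : β = 1 := by linear_combination h - h2
      rw [this, map_one])
    have e1 := hb 1 F₀.one_mem one_ne_zero
    have e2 := hb β hβ hβ0
    have e3 := hb (1 + β) (F₀.add_mem F₀.one_mem hβ) hβ1
    have eβ := hnorm β hβ hβ0
    have eβ1 := hnorm (1 + β) (F₀.add_mem F₀.one_mem hβ) hβ1
    simp only [map_add, map_mul, map_one, hO.invol] at e1 e2 e3 eβ1
    have eU : (y + σ μ * x) * σ (y + σ μ * x) = 0 := by
      simp only [map_add, map_mul, hO.invol]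
      linear_combination e1 + e2 + e3 - (n * σ n) * (eβ + eβ1) - 3 * hnN
        - ((y + σ μ * x) * (σ y + μ * σ x) + (y + σ μ * x) * σ n * (1 + β) + n * (σ y + μ * σ x) * (1 + σ β)) * h2
    exact (mul_eq_zero.1 eU).elim id (map_eq_zero σ).1
  obtain ⟨μ, hμF, hμ⟩ := hO.half 1 F₀.one_mem (map_one σ)
  have u1 := hU μ hμF hμ
  have u2 := hU (μ + 1) (F₀.add_mem hμF F₀.one_mem) (by rw [map_add, map_one]; linear_combination hμ + h2)
  have hx0 : x = 0 := by rw [map_add, map_one] at u2; linear_combination u2 - u1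
  rw [hx0, zero_mul] at hxN
  exact zero_ne_one hxN

end Over

end Cfsg.Agent.ClassicalMax.SU3.Sub
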