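import Cfsg.Agent.ClassicalMax.Sp4.SubfieldOdd
import Cfsg.Agent.Classical.Dickson2.Maximal
import Cfsg.Agent.Classical.DicksonSL

/-!
Overgroups of the special linear group in dimension two over a subfield of odd prime degree, and roots of rational
quadratics in an extension of odd degree.
-/

set_option autoImplicit false
set_option linter.unusedSectionVars false
set_option linter.style.haveILetI false

namespace Cfsg.Agent.ClassicalMax.SU3.Plane

open Cfsg.Agent.RootSub.Dickson Cfsg.Agent.Classical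
open scoped MatrixGroups

variable {L : Type*} [Field L]

/-- upper and lower transvections generate -/
theorem mem_of_gen (H : Subgroup SL(2, L)) (hu : ∀ a, upR a ∈ H) (hl : ∀ a, lowR a ∈ H) (g : SL(2, L)) : g ∈ H := by
  have key : ∀ g : SL(2, L), g.1 1 0 ≠ 0 → g ∈ H := fun g hc => by
    have hd := g.2
    rw [Matrix.det_fin_two] at hd
    have e : g = upR ((g.1 0 0 - 1) / g.1 1 0) * lowR (g.1 1 0) * upR ((g.1 1 1 - 1) / g.1 1 0) := by
      apply Subtype.ext
      ext i j
      fin_cases i <;> fin_cases j <;>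
        simp [coe_upR, coe_lowR, Matrix.SpecialLinearGroup.coe_mul, Matrix.mul_apply, Fin.sum_univ_two] <;>
        field_simp <;> first | linear_combination hd | linear_combination -hd | ring
    rw [e]; exact mul_mem (mul_mem (hu _) (hl _)) (hu _)
  by_cases hc : g.1 1 0 = 0
  · have h1 : (lowR 1 * g).1 1 0 ≠ 0 := by
      have hd := g.2
      rw [Matrix.det_fin_two, hc, mul_zero, sub_zero] at hd
      simp [coe_lowR, Matrix.SpecialLinearGroup.coe_mul, Matrix.mul_apply, Fin.sum_univ_two, hc]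
      exact fun h => zero_ne_one (α := L) (by rw [← hd, h, zero_mul])
    have := mul_mem (inv_mem (hl 1)) (key _ h1)
    rwa [inv_mul_cancel_left] at this
  · exact key g hc

variable [Fintype L] {Φ : Subfield L} {r : ℕ} (hr : r.Prime) (hodd : Odd r)
  (hcard : Fintype.card L = Nat.card Φ ^ r)
include hr hodd hcard

theorem no_root_neg_one (h2 : (2 : L) ≠ 0) (h3 : Nat.card Φ = 3) (μ : L) : μ ^ 2 ≠ -1 := by
  intro hm
  have h4 : μ ^ 4 = 1 := by rw [show 4 = 2 * 2 from rfl, pow_mul, hm]; ring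
  obtain ⟨j, hj⟩ := hodd
  have hmod : 3 ^ r % 4 = 3 := by rw [hj, pow_succ, pow_mul, Nat.mul_mod, Nat.pow_mod]; simp
  have h5 := FiniteField.pow_card μ
  rw [hcard, h3, ← Nat.div_add_mod (3 ^ r) 4, hmod, pow_add, pow_mul, h4, one_pow, one_mul, pow_succ, hm] at h5
  have h6 : (2 : L) * μ = 0 := by linear_combination -h5
  rw [(mul_eq_zero.1 h6).resolve_left h2] at hm
  norm_num at hm

/-- subgroups properly above the rational special linear group -/
theorem sl2_top (H : Subgroup SL(2, L)) (hup : ∀ a ∈ Φ, upR a ∈ H) (hlow : ∀ a ∈ Φ, lowR a ∈ H) {μ : L}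
    (hμ : μ ∉ Φ) (hμH : upR μ ∈ H) : H = ⊤ := by
  classical
  by_cases h2 : (2 : L) = 0
  swap
  · have hw : ∀ c, upR c ∈ H → lowR (-c) ∈ H := fun c hc => by
      have h1 : TwoTrans.wSL L ∈ H := by
        have e : TwoTrans.wSL L = upR (1 : L) * lowR (-1) * upR 1 := by
          apply Subtype.ext
          ext i j
          fin_cases i <;> fin_cases j <;>
            simp [TwoTrans.coe_wSL, coe_upR, coe_lowR, Matrix.SpecialLinearGroup.coe_mul, Matrix.mul_apply,
              Fin.sum_univ_two]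
        rw [e]
        exact mul_mem (mul_mem (hup 1 Φ.one_mem) (hlow _ (Φ.neg_mem Φ.one_mem))) (hup 1 Φ.one_mem)
      have h3 := mul_mem (mul_mem h1 hc) (inv_mem h1)
      rwa [TwoTrans.wSL_upR, mul_inv_cancel_right] at h3
    have hsq : ∀ t ∈ Φ, upR (t * t * μ) ∈ H := fun t ht => by
      rcases eq_or_ne t 0 with rfl | ht0
      · simpa using hup 0 Φ.zero_mem
      set d : SL(2, L) := upR t * lowR (-t⁻¹) * upR t * (upR 1 * lowR (-1) * upR 1)⁻¹ with hd
      have hdH : d ∈ H := mul_mem (mul_mem (mul_mem (hup t ht) (hlow _ (Φ.neg_mem (Φ.inv_mem ht)))) (hup t ht))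
        (inv_mem (mul_mem (mul_mem (hup 1 Φ.one_mem) (hlow _ (Φ.neg_mem Φ.one_mem))) (hup 1 Φ.one_mem)))
      have e : d * upR μ = upR (t * t * μ) * d := by
        apply Subtype.ext
        ext i j
        fin_cases i <;> fin_cases j <;>
          simp [hd, coe_upR, coe_lowR, Matrix.SpecialLinearGroup.coe_mul, Matrix.SpecialLinearGroup.coe_inv,
            Matrix.adjugate_fin_two, Matrix.mul_apply, Fin.sum_univ_two, ht0] <;>
          field_simp <;> ring
      have h3 := mul_mem (mul_mem hdH hμH) (inv_mem hdH)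
      rwa [e, mul_inv_cancel_right] at h3
    refine Sp4.dickson_top h2 hr hcard H hμ (fun h => no_root_neg_one hr hodd hcard h2 h.1 μ h.2) hup fun a ha => ?_
    have h2Φ : (2 : L) ∈ Φ := by rw [← one_add_one_eq_two]; exact Φ.add_mem Φ.one_mem Φ.one_mem
    have e1 := hw _ (hsq ((a - 1) / 2) (Φ.div_mem (Φ.sub_mem ha Φ.one_mem) h2Φ))
    have e2 := inv_mem (hw _ (hsq ((a + 1) / 2) (Φ.div_mem (Φ.add_mem ha Φ.one_mem) h2Φ)))
    rw [lowR_inv] at e2
    have e3 := mul_mem e1 e2
    rw [← lowR_add] at e3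
    convert e3 using 2
    field_simp
    ring
  -- characteristic two
  haveI : CharP L 2 := CharTwo.of_one_ne_zero_of_two_eq_zero one_ne_zero h2
  haveI : Fact (Nat.Prime 2) := ⟨Nat.prime_two⟩
  haveI : CharP Φ 2 := CharTwo.of_one_ne_zero_of_two_eq_zero one_ne_zero (Subtype.ext h2)
  by_contra hne
  haveI : Fintype Φ := Fintype.ofFinite Φ
  obtain ⟨e, he, hs⟩ := FiniteField.card Φ 2
  replace hs : Nat.card Φ = 2 ^ (e : ℕ) := by rw [Nat.card_eq_fintype_card, hs]
  have hq : Fintype.card L = 2 ^ ((e : ℕ) * r) := by rw [hcard, hs, ← pow_mul]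
  have he0 : 0 < (e : ℕ) := e.2
  have heven : Even (Fintype.card L) := by rw [hq]; exact Nat.even_pow.2 ⟨even_two, mul_ne_zero he0.ne' hr.ne_zero⟩
  have h4 : 4 ≤ Fintype.card L := by
    rw [hq, show (4 : ℕ) = 2 ^ 2 from rfl]
    exact Nat.pow_le_pow_right two_pos (le_trans hr.two_le (Nat.le_mul_of_pos_left _ he0))
  have hinj : Function.Injective (SL2Class.proj (F := L)) := fun g h hgh => by
    rcases SL2Class.proj_eq_iff.1 hgh with e | e
    · exact e.symm
    · rw [e]; apply Subtype.ext; ext i j; simp [CharTwo.neg_eq]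
  have hbot : H.map SL2Class.proj ≠ ⊤ := fun h => hne (by
    rw [← Subgroup.comap_map_eq_self_of_injective hinj H, h, Subgroup.comap_top])
  obtain ⟨M, hM, hle⟩ := (eq_top_or_exists_le_coatom (H.map SL2Class.proj)).resolve_left hbot
  -- orders
  have hdvd : ∀ {G : Type _} [Group G] (φ : G →* SL(2, L)), Function.Injective φ → (∀ g, φ g ∈ H) →
      Nat.card G ∣ Nat.card M := fun {G} _ φ hφ hmem => by
    refine Subgroup.card_dvd_of_injective
      (((SL2Class.proj (F := L)).comp φ).codRestrict M fun g => hle (Subgroup.mem_map_of_mem _ (hmem g))) ?_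
    exact fun a b h => hφ (hinj (congrArg Subtype.val h))
  let ι : SL(2, Φ) →* SL(2, L) := Matrix.SpecialLinearGroup.map Φ.subtype
  have hι : ∀ g, ι g ∈ H := fun g => mem_of_gen (H.comap ι) (fun a => by
    show ι (upR a) ∈ H
    rw [map_upR]; exact hup _ a.2) (fun a => by
    show ι (lowR a) ∈ H
    rw [map_lowR]; exact hlow _ a.2) g
  have hιinj : Function.Injective ι := fun g h hgh => by
    apply Subtype.ext
    ext i j
    have := congrArg (fun x : SL(2, L) => x.1 i j) hgh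
    simpa [ι, Matrix.SpecialLinearGroup.map_apply_coe, RingHom.mapMatrix_apply] using this
  have h1 := hdvd ι hιinj hι
  rw [Classical.card_sl2, ← Nat.card_eq_fintype_card, hs] at h1
  let R : Subgroup (Multiplicative L) := H.comap (rootHomSL (F := L))
  have hR : Nat.card R ∣ Nat.card M := hdvd ((rootHomSL (F := L)).comp R.subtype)
    (rootHomSL_injective.comp R.subtype_injective) fun g => g.2
  have hμR : Multiplicative.ofAdd μ ∈ R := by
    show rootHomSL (Multiplicative.ofAdd μ) ∈ H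
    rw [← DicksonSL.upR_eq_root]; exact hμH
  obtain ⟨i, hiR, hi⟩ : ∃ i, Nat.card R = 2 ^ i ∧ (e : ℕ) < i := by
    have hlag : Nat.card R ∣ 2 ^ ((e : ℕ) * r) := by
      rw [← hq, ← Nat.card_eq_fintype_card, ← Nat.card_congr (Multiplicative.toAdd (α := L))]
      exact Subgroup.card_subgroup_dvd_card R
    obtain ⟨i, -, hi⟩ := (Nat.dvd_prime_pow Nat.prime_two).1 hlag
    refine ⟨i, hi, (Nat.pow_lt_pow_iff_right (by norm_num : 1 < 2)).1 ?_⟩
    rw [← hs, ← hi]
    have hS : (fun a : Φ => Multiplicative.ofAdd (a : L)) '' Set.univ ⊂ (R : Set (Multiplicative L)) := by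
      refine Set.ssubset_iff_of_subset ?_ |>.2 ⟨_, hμR, ?_⟩
      · rintro _ ⟨a, -, rfl⟩
        show rootHomSL (Multiplicative.ofAdd (a : L)) ∈ H
        rw [← DicksonSL.upR_eq_root]; exact hup _ a.2
      · rintro ⟨a, -, ha⟩
        exact hμ ((Multiplicative.ofAdd.injective ha) ▸ a.2)
    have := Set.ncard_lt_ncard hS (Set.toFinite _)
    rwa [Set.ncard_image_of_injective (f := fun a : Φ => Multiplicative.ofAdd (a : L)) _
      (fun a b h => Subtype.ext (Multiplicative.ofAdd.injective h)), Set.ncard_univ,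
      ← Nat.card_coe_set_eq] at this
  rw [hiR] at hR
  set q := 2 ^ ((e : ℕ) * r) with hqd
  have hs2 : 2 ≤ 2 ^ (e : ℕ) := Nat.le_self_pow he0.ne' 2
  have hq2 : 2 ∣ q := dvd_pow_self 2 (mul_ne_zero he0.ne' hr.ne_zero)
  rcases Dickson2.maximal_even heven h4 M hM with hc | ⟨⟨d⟩⟩ | ⟨⟨d⟩⟩ | ⟨K, iK, iF, r', hr', -, hKF, ⟨d⟩⟩
  · -- the stabiliser of a point
    rw [hq] at hc
    rw [hc] at h1
    have h3 : 2 ^ (e : ℕ) + 1 ∣ q * (q - 1) := by
      refine Dvd.dvd.trans (Dvd.intro_left (2 ^ (e : ℕ) * (2 ^ (e : ℕ) - 1)) ?_) h1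
      rw [mul_assoc, mul_comm (2 ^ (e : ℕ) - 1), ← Nat.sq_sub_sq, one_pow]
    have h5 : 2 ^ (e : ℕ) + 1 ∣ q + 1 := by
      rw [hqd, pow_mul]
      have := Odd.nat_add_dvd_pow_add_pow (2 ^ (e : ℕ)) 1 hodd
      rwa [one_pow] at this
    obtain ⟨a, ha⟩ := h5
    obtain ⟨b, hb⟩ := h3
    have h6 : ((2 ^ (e : ℕ) + 1 : ℕ) : ℤ) ∣ 2 := by
      refine ⟨(b : ℤ) - (a : ℤ) * ((q : ℤ) - 2), ?_⟩
      have hbz : ((q : ℤ)) * ((q : ℤ) - 1) = ((2 ^ (e : ℕ) + 1 : ℕ) : ℤ) * b := by
        rw [← Nat.cast_mul, ← hb, Nat.cast_mul, Nat.cast_sub (show 1 ≤ q from Nat.one_le_two_pow), Nat.cast_one]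
      have haz : ((q : ℤ)) + 1 = ((2 ^ (e : ℕ) + 1 : ℕ) : ℤ) * a := by exact_mod_cast ha
      linear_combination hbz - ((q : ℤ) - 2) * haz
    have := Nat.le_of_dvd two_pos (Int.natCast_dvd_natCast.1 h6)
    omega
  · rw [Nat.card_congr d.toEquiv, DihedralGroup.nat_card, hq] at hR
    have h3 : 2 ^ 2 ∣ 2 * (q - 1) := (pow_dvd_pow 2 (by omega)).trans hR
    omega
  · rw [Nat.card_congr d.toEquiv, DihedralGroup.nat_card, hq] at hR
    have h3 : 2 ^ 2 ∣ 2 * (q + 1) := (pow_dvd_pow 2 (by omega)).trans hR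
    omega
  · have hK2 : ∃ j, Fintype.card K = 2 ^ j ∧ (e : ℕ) * r = j * r' := by
      have h3 : Fintype.card K ∣ q := by rw [← hq, hKF]; exact dvd_pow_self _ hr'.ne_zero
      obtain ⟨j, -, hj⟩ := (Nat.dvd_prime_pow Nat.prime_two).1 h3
      refine ⟨j, hj, ?_⟩
      rw [hq, hj, ← pow_mul] at hKF
      exact Nat.pow_right_injective le_rfl hKF
    obtain ⟨j, hj, hjr⟩ := hK2
    have hj0 : 0 < j := Nat.pos_of_ne_zero fun h => by
      rw [h, zero_mul] at hjr; exact mul_ne_zero he0.ne' hr.ne_zero hjr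
    have hM2 : Nat.card M = 2 ^ j * ((2 ^ j) ^ 2 - 1) := by
      have h3 := Dickson2.card_pg (F := K)
      rw [hj, show Nat.gcd 2 (2 ^ j - 1) = 1 from Nat.prime_two.coprime_iff_not_dvd.2 (by
        have := dvd_pow_self 2 hj0.ne'
        have := Nat.one_le_two_pow (n := j)
        omega), one_mul] at h3
      exact (Nat.card_congr d.toEquiv).trans h3
    rw [hM2] at h1 hR
    have hcop : ∀ a, Nat.Coprime (2 ^ a) ((2 ^ j) ^ 2 - 1) := fun a => Nat.Coprime.pow_left _
      (Nat.prime_two.coprime_iff_not_dvd.2 (by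
        have : 2 ∣ (2 ^ j) ^ 2 := dvd_pow (dvd_pow_self 2 hj0.ne') two_ne_zero
        have : 1 ≤ (2 ^ j) ^ 2 := Nat.one_le_pow _ _ (by positivity)
        omega))
    have hij : i ≤ j := (Nat.pow_dvd_pow_iff_le_right (by norm_num : 1 < 2)).1 ((hcop i).dvd_of_dvd_mul_right hR)
    have hej : (e : ℕ) ∣ j := by
      have h3 : (2 ^ (e : ℕ)) ^ 2 - 1 ∣ (2 ^ j) ^ 2 - 1 := by
        refine Nat.Coprime.dvd_of_dvd_mul_left ?_ ((Dvd.intro_left _ rfl).trans h1)
        exact Nat.Coprime.pow_right _ (Nat.coprime_comm.1 (Nat.prime_two.coprime_iff_not_dvd.2 (by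
          have : 2 ∣ (2 ^ (e : ℕ)) ^ 2 := dvd_pow (dvd_pow_self 2 he0.ne') two_ne_zero
          have : 1 ≤ (2 ^ (e : ℕ)) ^ 2 := Nat.one_le_pow _ _ (by positivity)
          omega)))
      rw [← pow_mul, ← pow_mul] at h3
      have h5 := Nat.gcd_eq_left h3
      rw [Nat.pow_sub_one_gcd_pow_sub_one] at h5
      have h6 : 2 ^ Nat.gcd ((e : ℕ) * 2) (j * 2) = 2 ^ ((e : ℕ) * 2) := by
        have := Nat.one_le_two_pow (n := Nat.gcd ((e : ℕ) * 2) (j * 2))
        have := Nat.one_le_two_pow (n := (e : ℕ) * 2)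
        omega
      exact Nat.dvd_of_mul_dvd_mul_right two_pos (Nat.gcd_eq_left_iff_dvd.1 (Nat.pow_right_injective le_rfl h6))
    obtain ⟨m, rfl⟩ := hej
    have hmr : r = m * r' := Nat.eq_of_mul_eq_mul_left he0 (by rw [hjr]; ring)
    rcases (Nat.dvd_prime hr).1 (Dvd.intro _ hmr.symm) with rfl | rfl
    · rw [mul_one] at hij; omega
    · have := hr'.two_le
      have : m * 2 ≤ m * r' := Nat.mul_le_mul_left _ this
      have := hr.pos
      omega

/-- a root of a rational quadratic in an extension of odd prime degree is rational -/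
theorem quad_mem {x a b : L} (ha : a ∈ Φ) (hb : b ∈ Φ) (hx : x * x = a * x + b) : x ∈ Φ := by
  classical
  by_contra hxn
  letI : Algebra Φ L := Φ.toAlgebra
  haveI : FiniteDimensional Φ L := Module.Finite.of_finite
  have hrk : Module.finrank Φ L = r := by
    have h := Module.natCard_eq_pow_finrank (K := Φ) (V := L)
    rw [Nat.card_eq_fintype_card, hcard] at h
    exact (Nat.pow_right_injective (Finite.one_lt_card (α := Φ)) h).symm
  have hint : IsIntegral Φ x := Algebra.IsIntegral.isIntegral x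
  have h1 : (minpoly Φ x).natDegree ∣ r := hrk ▸ minpoly.degree_dvd hint
  let P : Polynomial Φ := Polynomial.X ^ 2 - (Polynomial.C (⟨a, ha⟩ : Φ) * Polynomial.X + Polynomial.C ⟨b, hb⟩)
  have hP : P.Monic := by
    refine Polynomial.monic_X_pow_sub (lt_of_le_of_lt Polynomial.degree_linear_le ?_)
    norm_num
  have h2 : Polynomial.aeval x P = 0 := by
    simp [P, pow_two]
    show x * x - (a * x + b) = 0
    rw [hx, sub_self]
  have h3 : (minpoly Φ x).natDegree ≤ 2 := by
    refine (Polynomial.natDegree_le_natDegree (minpoly.min Φ x hP h2)).trans ?_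
    simp only [P]
    compute_degree
  have h4 := minpoly.natDegree_pos hint
  rcases (Nat.dvd_prime hr).1 h1 with h5 | h5
  · obtain ⟨y, hy⟩ := minpoly.natDegree_eq_one_iff.1 h5
    exact hxn (hy ▸ y.2)
  · obtain ⟨j, hj⟩ := hodd
    have := hr.two_le
    omega

end Cfsg.Agent.ClassicalMax.SU3.Plane
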