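import Cfsg.Agent.ClassicalMax.SU3.SubEvenTwo
import Cfsg.Agent.ClassicalMax.SU3.SubPlane
import Cfsg.Agent.ClassicalMax.SU4.SubOdd

/-!
Subfield groups of odd prime degree are maximal in three-dimensional special unitary groups.
-/

set_option autoImplicit false
set_option linter.unusedSectionVars false
set_option linter.style.haveILetI false

namespace Cfsg.Agent.ClassicalMax.SU3.Sub

open Module Cfsg.Agent.Classical Cfsg.Agent.ClassicalMax Cfsg.Agent.ClassicalMax.Subfield Cfsg.Agent.RootSub.Dickson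
open Cfsg.Agent.ClassicalMax.SU4.Sub (Tv sg Tv_apply Tv_eq Tv_smul Tv_add Tv_zero Tv_conj sg_apply sg_mul sg_zero sg_conj sg_smul sg_iso sg_det)
open Cfsg.Agent.ClassicalMax.SU4.Sub.Odd (planeHom planeHom_upR planeHom_lowR)
open scoped MatrixGroups

variable {F : Type*} [Field F] [Fintype F] {σ : F →+* F} {A : (Fin 3 → F) →ₛₗ[σ] (Fin 3 → F) →ₗ[F] F}
  {F₀ : Subfield F} {X : Subgroup ((Fin 3 → F) ≃ₗ[F] (Fin 3 → F))} {k : F} {r : ℕ}

namespace Over

variable (hO : Over F₀ A X k r)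
include hO

theorem skew_mul {a : F} (ha : σ a = a) : k * a + σ (k * a) = 0 := by
  rw [map_mul, ha, ← add_mul, hO.kskew, zero_mul]

theorem quad_mem {x a b : F} (ha : a ∈ F₀) (hb : b ∈ F₀) (hx : x * x = a * x + b) : x ∈ F₀ :=
  Plane.quad_mem hO.rp hO.rodd hO.cardF ha hb hx

/-- one irrational parameter at a rational point gives all isotropic centres -/
theorem full_of_extra {v : Fin 3 → F} {c : F} (hv : RV F₀ v) (hv0 : v ≠ 0) (hvv : A v v = 0) (hc : c + σ c = 0)
    (hcX : Tv A v c ∈ X) (hcF : c ∉ F₀) : ∀ w, A w w = 0 → w ∈ Unitary.centres A X := by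
  classical
  obtain ⟨f, m, hF⟩ := hO.frame_of hv hvv hv0
  set L := Herm.fixField σ with hL
  haveI : Fintype L := Fintype.ofFinite L
  set Φ := F₀.comap L.subtype with hΦ
  have hcard : Fintype.card L = Nat.card Φ ^ r := by rw [← Nat.card_eq_fintype_card]; exact hO.cardL
  let φ := planeHom L (A := A) hO.k0 hvv hF.ff hF.ef hF.fe
  have hup : ∀ a ∈ Φ, upR a ∈ X.comap φ := fun a ha => by
    show φ (upR a) ∈ X
    rw [planeHom_upR]
    exact hO.Tv_rat hv hvv (F₀.mul_mem hO.kF ha) (hO.skew_mul a.2)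
  have hlow : ∀ a ∈ Φ, lowR a ∈ X.comap φ := fun a ha => by
    show φ (lowR a) ∈ X
    rw [planeHom_lowR]
    exact hO.Tv_rat hF.rf hF.ff (F₀.div_mem ha hO.kF) (by
      rw [map_div₀, show σ (a : F) = a from a.2, hO.ks, div_neg, add_neg_cancel])
  have hz : ∀ {d : F}, d + σ d = 0 → σ (d / k) = d / k := fun {d} hd => by
    rw [map_div₀, hO.ks, eq_neg_of_add_eq_zero_right hd, neg_div_neg_eq]
  have htop := Plane.sl2_top hO.rp hO.rodd hcard (X.comap φ) hup hlow (μ := ⟨c / k, hz hc⟩)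
    (fun h => hcF (by
      have h1 : c / k ∈ F₀ := h
      have := F₀.mul_mem h1 hO.kF
      rwa [div_mul_cancel₀ _ hO.k0] at this))
    (by
      show φ (upR _) ∈ X
      rw [planeHom_upR, show k * ((⟨c / k, hz hc⟩ : L) : F) = c from mul_div_cancel₀ _ hO.k0]
      exact hcX)
  refine hO.all_of_centre hv hv0 ⟨hvv, fun hv' d hd => ?_⟩
  have h1 : φ (upR (⟨d / k, hz hd⟩ : L)) ∈ X := (htop.ge (Subgroup.mem_top _) : upR _ ∈ X.comap φ)
  rw [planeHom_upR, show k * ((⟨d / k, hz hd⟩ : L) : F) = d from mul_div_cancel₀ _ hO.k0] at h1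
  rwa [← Tv_eq hv']

/-- a norm of a product of a rational point with an irrational one is irrational -/
theorem exists_norm_irr {p : Fin 3 → F} (hpp : A p p = 0) (hp : ∀ w, RV F₀ w → p ∉ F ∙ w) :
    ∃ u, RV F₀ u ∧ A u u = 0 ∧ A u p * σ (A u p) ∉ F₀ := by
  by_contra! hc
  obtain ⟨e, f, m, hF⟩ := hO.exists_frame
  have hx0 : A e p ≠ 0 := fun h => hp e hF.re (Submodule.mem_span_singleton.2
    (orth_dep hO.herm (by simp) hF.ne_zero hF.ee hpp h))
  set q := (A e p)⁻¹ • p with hq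
  have heq : A e q = 1 := by rw [hq, map_smul, smul_eq_mul, inv_mul_cancel₀ hx0]
  have hqN : ∀ u, RV F₀ u → A u u = 0 → A u q * σ (A u q) ∈ F₀ := fun u hu huu => by
    have h1 := F₀.div_mem (hc u hu huu) (hc e hF.re hF.ee)
    rw [hq, map_smul, smul_eq_mul, map_mul, map_inv₀]
    convert h1 using 1
    ring
  -- the values at the rational points of the chart are rational
  have hval : ∀ y ∈ F₀, ∀ μ ∈ F₀, μ + σ μ = y * σ y * A m m → A f q + σ y * A m q - σ μ ∈ F₀ := by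
    intro y hy μ hμF hμ
    set z := A f q + σ y * A m q - σ μ with hz
    have hval : ∀ t ∈ F₀, t + σ t = 0 → (z + σ t) * σ (z + σ t) ∈ F₀ := fun t ht hts => by
      have hu : RV F₀ (f + y • m + (t - μ) • e) :=
        (hF.rf.add (hF.rm.smul hy)).add (hF.re.smul (F₀.sub_mem ht hμF))
      have huu : A (f + y • m + (t - μ) • e) (f + y • m + (t - μ) • e) = 0 := by
        simp [hF.ee, hF.ff, hF.ef, hF.fe, hF.em, hF.me, hF.fm, hF.mf]
        linear_combination hts - hμ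
      have h1 := hqN _ hu huu
      rwa [show A (f + y • m + (t - μ) • e) q = z + σ t by simp [hz, heq]; ring] at h1
    have h0 := hval 0 F₀.zero_mem (by simp)
    simp only [map_zero, add_zero] at h0
    have h1 := hval k hO.kF hO.kskew
    rw [hO.ks, ← sub_eq_add_neg, map_sub, hO.ks] at h1
    have h2 : z - σ z ∈ F₀ := by
      have := F₀.div_mem (F₀.add_mem (F₀.sub_mem h1 h0) (F₀.mul_mem hO.kF hO.kF)) hO.kF
      convert this using 1
      field_simp [hO.k0]
      ring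
    exact hO.quad_mem h2 h0 (by ring)
  have hxF : A f q ∈ F₀ := by simpa using hval 0 F₀.zero_mem 0 F₀.zero_mem (by simp)
  obtain ⟨μ, hμF, hμ⟩ := hO.self_half hF.rm
  have hnF : A m q ∈ F₀ := by
    have h1 := hval 1 F₀.one_mem μ hμF (by rw [hμ, map_one]; ring)
    have h2 := F₀.sub_mem (F₀.add_mem h1 (hO.stab _ hμF)) hxF
    convert h2 using 1
    rw [map_one]; ring
  refine hp q ?_ (Submodule.mem_span_singleton.2 ⟨A e p, by rw [hq, smul_inv_smul₀ hx0]⟩)
  rw [hO.decomp_aux hF q, heq, one_smul]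
  exact ((hF.re.smul hxF).add hF.rf).add (hF.rm.smul (F₀.div_mem hnF (hO.form _ _ hF.rm hF.rm)))

/-- in odd characteristic strictness forces rationality -/
theorem strict_odd (h2 : (2 : F) ≠ 0) (hS : Strict F₀ A X) {g : (Fin 3 → F) ≃ₗ[F] (Fin 3 → F)} (hg : g ∈ X)
    (hgr : ¬ Ratty F₀ g) : False := by
  classical
  obtain ⟨e, f, m, hF⟩ := hO.exists_frame
  set p := g e with hp
  have hpp : A p p = 0 := by rw [hp, hO.iso hg, hF.ee]
  obtain ⟨u, hu, huu, hN⟩ := hO.exists_norm_irr hpp fun w hw => hO.irrational hS hg hgr hF.re hF.ne_zero hF.ee w hw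
  set h := A u p with hh
  have hh0 : h ≠ 0 := fun e => hN (by rw [e, zero_mul]; exact F₀.zero_mem)
  have hu0 : u ≠ 0 := fun e => hh0 (by rw [hh, e, map_zero, LinearMap.zero_apply])
  set q := h⁻¹ • p with hq
  have huq : A u q = 1 := by rw [hq, map_smul, smul_eq_mul, ← hh, inv_mul_cancel₀ hh0]
  have hqu : A q u = 1 := by rw [← hO.symm', huq, map_one]
  have hqq : A q q = 0 := by simp [hq, hpp]
  have hpq : p = h • q := by rw [hq, smul_inv_smul₀ hh0]
  set L := Herm.fixField σ with hL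
  haveI : Fintype L := Fintype.ofFinite L
  set Φ := F₀.comap L.subtype with hΦ
  have hμs : σ (k * k * (h * σ h)) = k * k * (h * σ h) := by
    rw [map_mul, map_mul, map_mul, hO.ks, hO.invol]; ring
  set μ : L := ⟨k * k * (h * σ h), hμs⟩ with hμ
  have hμn : μ ∉ Φ := fun hm => hN (by
    have h1 : k * k * (h * σ h) ∈ F₀ := hm
    have := F₀.div_mem h1 (F₀.mul_mem hO.kF hO.kF)
    rwa [mul_div_cancel_left₀ _ (mul_ne_zero hO.k0 hO.k0)] at this)
  have hcard : Fintype.card L = Nat.card Φ ^ r := by rw [← Nat.card_eq_fintype_card]; exact hO.cardL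
  have h2L : (2 : L) ≠ 0 := fun e => h2 ((map_ofNat L.subtype 2).symm.trans ((congrArg L.subtype e).trans (map_zero _)))
  let φ := planeHom L (A := A) hO.k0 huu hqq huq hqu
  have hup : ∀ a ∈ Φ, upR a ∈ X.comap φ := fun a ha => by
    show φ (upR a) ∈ X
    rw [planeHom_upR]
    exact hO.Tv_rat hu huu (F₀.mul_mem hO.kF ha) (hO.skew_mul a.2)
  have hlow : ∀ a ∈ Φ, lowR (a * μ) ∈ X.comap φ := fun a ha => by
    show φ (lowR (a * μ)) ∈ X
    rw [planeHom_lowR]
    have h1 := hO.conj_Tv_mem hg hF.ee (hO.Tv_rat hF.re hF.ee (c := k * (a : F)) (F₀.mul_mem hO.kF ha) (hO.skew_mul a.2))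
    rw [← hp, hpq, Tv_smul hqq] at h1
    convert h1 using 2
    simp only [hμ, Subfield.coe_mul]
    field_simp [hO.k0]
  have htop := Sp4.dickson_top h2L hO.rp hcard _ hμn
    (fun e => Plane.no_root_neg_one hO.rp hO.rodd hcard h2L e.1 μ e.2) hup hlow
  have h1 : φ (upR μ) ∈ X := (htop.ge (Subgroup.mem_top _) : upR μ ∈ X.comap φ)
  rw [planeHom_upR] at h1
  refine hμn (show (μ : F) ∈ F₀ from ?_)
  have h3 := F₀.div_mem (hS u _ hu hu0 huu (hO.skew_mul μ.2) h1) hO.kF
  rwa [mul_div_cancel_left₀ _ hO.k0] at h3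

/-- an element outside gives all centres -/
theorem all_centres (hout : ∃ g ∈ X, ¬ Ratty F₀ g) {w : Fin 3 → F} (hw : A w w = 0) : w ∈ Unitary.centres A X := by
  classical
  obtain ⟨g, hg, hgr⟩ := hout
  by_cases hS : Strict F₀ A X
  · by_cases h2 : (2 : F) = 0
    · by_cases hΦ : ∀ a ∈ F₀, σ a = a → a = 0 ∨ a = 1
      · exact (hO.strict_even_two h2 hS hg hgr hΦ).elim
      · push Not at hΦ
        obtain ⟨a, ha, has, ha0, ha1⟩ := hΦ
        exact (hO.strict_even_big h2 hS hg hgr ha has ha0 ha1).elim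
    · exact (hO.strict_odd h2 hS hg hgr).elim
  · simp only [Strict, not_forall] at hS
    obtain ⟨v, c, hv, hv0, hvv, hc, hcX, hcF⟩ := hS
    exact hO.full_of_extra hv hv0 hvv hc hcX hcF w hw

end Over

/-- subfield groups of odd prime degree -/
theorem maximal {F : Type*} [Field F] [Fintype F] (q : ℕ) (hF : Fintype.card F = q ^ 2) (hq3 : 3 ≤ q) (F₀ : Subfield F) (r : ℕ)
    (P : Matrix.GeneralLinearGroup (Fin 3) F) (hr : r.Prime) (hro : Odd r) (hcard : Fintype.card F = Nat.card F₀ ^ r)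
    (hP : Cfsg.Geo.IsFormRationalStructure (Cfsg.hermForm 3 F q) F₀ 1 P) :
    Cfsg.Geo.IsMaximalIn (Cfsg.GU 3 F q ⊓ Cfsg.Geo.specialLinear (Fin 3) F)
      (Cfsg.Geo.subfieldSubgroup F₀ P ⊓ (Cfsg.GU 3 F q ⊓ Cfsg.Geo.specialLinear (Fin 3) F)) := by
  classical
  haveI : Fintype F₀ := Fintype.ofFinite F₀
  obtain ⟨σ, hσq, hσ, hfix, hq⟩ := exists_powHom hF
  set L := Herm.fixField σ with hL
  set Φ := F₀.comap L.subtype with hΦ
  have hstab : ∀ a ∈ F₀, σ a ∈ F₀ := fun a ha => by rw [hσq]; exact F₀.pow_mem ha q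
  set A := Subfield.Unit.formP (n := 3) σ 1 P with hAd
  have hAeq : ∀ x y, A x y = hermB 3 σ (glEquiv (Fin 3) F P x) (glEquiv (Fin 3) F P y) := fun x y => one_mul _
  have hform : ∀ u v, RV F₀ u → RV F₀ v → A u v ∈ F₀ := fun u v hu hv => by
    have := hP v u hv hu
    rw [one_mul, hermForm_eq hσq] at this
    rw [hAeq]; exact this
  -- the involution is not trivial on the subfield
  have h0 : 1 < Nat.card F₀ := Finite.one_lt_card
  obtain ⟨b, hb, hbσ⟩ : ∃ b ∈ F₀, σ b ≠ b := by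
    by_contra! hc
    have hle : F₀ ≤ L := fun a ha => hc a ha
    letI : Algebra F₀ L := (Subfield.inclusion hle).toAlgebra
    have h1 := Module.natCard_eq_pow_finrank (K := F₀) (V := L)
    rw [hfix] at h1
    have h2 : Nat.card F₀ ^ r = Nat.card F₀ ^ (finrank F₀ L * 2) := by rw [pow_mul, ← h1, ← hcard, hF]
    have h3 := Nat.pow_right_injective h0 h2
    exact absurd hro (Nat.not_odd_iff_even.2 ⟨finrank F₀ L, by omega⟩)
  set k := b - σ b with hkd
  have hkF : k ∈ F₀ := F₀.sub_mem hb (hstab b hb)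
  have hk0 : k ≠ 0 := sub_ne_zero.2 (Ne.symm hbσ)
  have hk : σ k = -k := by rw [hkd, map_sub, hσ.invol, neg_sub]
  let σ₀ : F₀ →+* F₀ := (σ.comp F₀.subtype).codRestrict F₀ fun a => hstab a a.2
  have hσ₀ : Herm.IsInvol σ₀ :=
    ⟨fun h => hbσ (congrArg Subtype.val (RingHom.congr_fun h ⟨b, hb⟩)), fun a => Subtype.ext (hσ.invol a)⟩
  have hhalf : ∀ a ∈ F₀, σ a = a → ∃ μ ∈ F₀, μ + σ μ = a := fun a ha has => by
    obtain ⟨μ, hμ⟩ := Herm.exists_trace hσ₀ (a := ⟨a, ha⟩) (Subtype.ext has)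
    exact ⟨μ, μ.2, congrArg Subtype.val hμ⟩
  have hnrm : ∀ a ∈ F₀, σ a = a → ∃ θ ∈ F₀, θ * σ θ = a := fun a ha has => by
    obtain ⟨μ, hμ⟩ := Herm.exists_norm hσ₀ (a := ⟨a, ha⟩) (Subtype.ext has)
    exact ⟨μ, μ.2, congrArg Subtype.val hμ⟩
  have hcardL : Nat.card L = Nat.card Φ ^ r := by
    have hΦc : Nat.card Φ = Nat.card (Herm.fixField σ₀) := Nat.card_congr
      { toFun := fun x => ⟨⟨((x : L) : F), x.2⟩, Subtype.ext (x : L).2⟩
        invFun := fun y => ⟨⟨((y : F₀) : F), congrArg Subtype.val y.2⟩, (y : F₀).2⟩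
        left_inv := fun x => rfl
        right_inv := fun y => rfl }
    have h1 := Herm.card_eq_fix_sq hσ₀
    rw [← hΦc] at h1
    have h2 := Herm.card_eq_fix_sq hσ
    rw [Nat.card_eq_fintype_card (α := F), hcard, h1, ← pow_mul, mul_comm 2 r, pow_mul] at h2
    exact (Nat.pow_left_injective (by norm_num) h2).symm
  have hset : Herm.IsHerm A → ∀ X, X ≤ Herm.suG A → (∀ s ∈ Herm.suG A, Ratty F₀ s → s ∈ X) → Over F₀ A X k r :=
    fun hA X hle hrat =>
      ⟨hA, hstab, hform, hhalf, hnrm, hkF, hk0, hk, ⟨b, hb, hbσ⟩, hr, hro, hcard, hcardL, hle, hrat⟩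
  refine isMaximalIn_sub hσ hσq (exists_fixed hF hσq hq3) F₀ P ?_
    fun hA X hle hrat hout v hv => (hset hA X hle hrat).all_centres hout hv
  have hA : Herm.IsHerm A :=
    { toIsInvol := hσ
      symm := fun a b => by rw [hAeq, hAeq]; exact (hermB_isHerm hσ 3).symm _ _
      nondeg := Subfield.Unit.formP_nd hσ one_ne_zero P }
  have hO := hset hA (Herm.suG A) le_rfl fun s hs _ => hs
  obtain ⟨e, f, m, hG⟩ := hO.exists_frame
  obtain ⟨z, hzs, hzF⟩ : ∃ z : F, σ z = z ∧ z ∉ F₀ := by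
    by_contra! hc
    have h2 : Nat.card Φ = Nat.card L := Nat.card_congr (Equiv.subtypeUnivEquiv fun x : L => hc x x.2)
    rw [h2] at hcardL
    have h1 : 1 < Nat.card L := Finite.one_lt_card
    exact hr.ne_one (Nat.pow_right_injective h1 ((pow_one _).trans hcardL)).symm
  refine ⟨e, k * z, hG.ee, by rw [map_mul, hk, hzs]; ring, fun h => hzF ?_⟩
  have h1 := (rational_of_image h (P := F ∙ e) (fun z => by
    rw [Tv_apply hG.ee, add_sub_cancel_left]; exact Submodule.smul_mem _ _ (Submodule.mem_span_singleton_self _))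
    (by rw [finrank_span_singleton hG.ne_zero]; simp) hG.rf).sub hG.rf
  rw [Tv_apply hG.ee, add_sub_cancel_left, hG.ef, mul_one] at h1
  have h3 := F₀.div_mem (rv_scalar hG.re h1 hG.ne_zero rfl) hkF
  rwa [mul_div_cancel_left₀ _ hk0] at h3

end Cfsg.Agent.ClassicalMax.SU3.Sub
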