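import Cfsg.Agent.ClassicalMax.SU3.SubBase

/-!
Involutions and unipotent elements at rational points in three-dimensional unitary groups in characteristic two.
-/

set_option autoImplicit false
set_option linter.unusedSectionVars false
set_option linter.style.haveILetI false

namespace Cfsg.Agent.ClassicalMax.SU3.Sub

open Module Cfsg.Agent.Classical Cfsg.Agent.ClassicalMax Cfsg.Agent.ClassicalMax.Subfield
open Cfsg.Agent.ClassicalMax.SU4.Sub (Tv sg Tv_apply Tv_eq Tv_smul Tv_add Tv_zero Tv_conj sg_apply sg_mul sg_zero sg_conj sg_smul sg_iso sg_det)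

/-- two involutions with no common centralising involution are swapped by an involution -/
theorem exists_swap {G : Type*} [Group G] [Finite G] {t z : G} (ht : t * t = 1) (hz : z * z = 1)
    (hnc : ∀ c, c ∈ Subgroup.closure ({t, z} : Set G) → c * c = 1 → Commute c t → Commute c z → c = 1) :
    ∃ c ∈ Subgroup.closure ({t, z} : Set G), c * c = 1 ∧ c * t * c⁻¹ = z := by
  set H := Subgroup.closure ({t, z} : Set G) with hH
  have htH : t ∈ H := Subgroup.subset_closure (Or.inl rfl)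
  have hzH : z ∈ H := Subgroup.subset_closure (Or.inr rfl)
  have hti : t⁻¹ = t := inv_eq_of_mul_eq_one_right ht
  have hzi : z⁻¹ = z := inv_eq_of_mul_eq_one_right hz
  set w := t * z with hw
  have hwH : w ∈ H := mul_mem htH hzH
  have hwt : t * w * t⁻¹ = w⁻¹ := by rw [hw, mul_inv_rev, hzi, hti, ← mul_assoc, ht, one_mul]
  have hwz : z * w * z⁻¹ = w⁻¹ := by rw [hw, mul_inv_rev, hzi, hti, mul_assoc, mul_assoc, hz, mul_one]
  rcases Nat.even_or_odd (orderOf w) with ⟨j, hj⟩ | ⟨j, hj⟩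
  · have hu : w ^ j * w ^ j = 1 := by rw [← pow_add, ← hj, pow_orderOf_eq_one]
    have hui : (w ^ j)⁻¹ = w ^ j := inv_eq_of_mul_eq_one_right hu
    have h1 := hnc (w ^ j) (pow_mem hwH j) hu
      (Commute.symm (mul_inv_eq_iff_eq_mul.1 (by rw [← conj_pow, hwt, inv_pow, hui])))
      (Commute.symm (mul_inv_eq_iff_eq_mul.1 (by rw [← conj_pow, hwz, inv_pow, hui])))
    have := Nat.le_of_dvd (by have := orderOf_pos w; omega) (orderOf_dvd_of_pow_eq_one h1)
    have := orderOf_pos w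
    omega
  · refine ⟨w ^ j * t, mul_mem (pow_mem hwH j) htH, ?_, ?_⟩
    · have : t * w ^ j * t⁻¹ = (w ^ j)⁻¹ := by rw [← conj_pow, hwt, inv_pow]
      rw [hti] at this
      calc w ^ j * t * (w ^ j * t) = w ^ j * (t * w ^ j * t) := by group
        _ = 1 := by rw [this, mul_inv_cancel]
    · have h2 : t * w ^ j = (w ^ j)⁻¹ * t := by
        rw [← mul_inv_eq_iff_eq_mul, ← conj_pow, hwt, inv_pow]
      have h3 : w ^ j * w ^ j = w⁻¹ := eq_inv_of_mul_eq_one_left (by rw [← pow_add, ← pow_succ, ← two_mul, ← hj, pow_orderOf_eq_one])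
      calc w ^ j * t * t * (w ^ j * t)⁻¹ = w ^ j * (t * t) * t⁻¹ * (w ^ j)⁻¹ := by group
        _ = w ^ j * (t * (w ^ j)⁻¹) := by rw [ht, hti, mul_one, mul_assoc]
        _ = w ^ j * (w ^ j * t) := by
          congr 1
          calc t * (w ^ j)⁻¹ = (w ^ j) * ((w ^ j)⁻¹ * t) * (w ^ j)⁻¹ := by group
            _ = w ^ j * (t * w ^ j) * (w ^ j)⁻¹ := by rw [h2]
            _ = w ^ j * t := by group
        _ = w⁻¹ * t := by rw [← mul_assoc, h3]
        _ = z := by rw [hw, mul_inv_rev, hzi, mul_assoc, inv_mul_cancel, mul_one]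

variable {F : Type*} [Field F] [Fintype F] {σ : F →+* F} {A : (Fin 3 → F) →ₛₗ[σ] (Fin 3 → F) →ₗ[F] F}

theorem add_self (h2 : (2 : F) = 0) (x : F) : x + x = 0 := by rw [← two_mul, h2, zero_mul]

theorem one_skew (h2 : (2 : F) = 0) : (1 : F) + σ 1 = 0 := by rw [map_one]; exact add_self h2 1

theorem Tv_sq (h2 : (2 : F) = 0) {v : Fin 3 → F} (hv : A v v = 0) (c : F) : Tv A v c * Tv A v c = 1 := by
  rw [← Tv_add hv, add_self h2, Tv_zero hv]

theorem finite_gl : Finite ((Fin 3 → F) ≃ₗ[F] (Fin 3 → F)) :=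
  Finite.of_injective (fun g => (g : (Fin 3 → F) → (Fin 3 → F))) DFunLike.coe_injective

/-- an element commuting with a transvection scales its centre -/
theorem eigen_of_commute {c : (Fin 3 → F) ≃ₗ[F] (Fin 3 → F)} (hci : ∀ a b, A (c a) (c b) = A a b) {u : Fin 3 → F}
    (huu : A u u = 0) {a : F} (ha : a ≠ 0) {y : Fin 3 → F} (hy : A (c u) y ≠ 0)
    (h : Commute c (Tv A u a)) : c u ∈ F ∙ u := by
  have h1 := LinearEquiv.congr_fun (mul_inv_eq_iff_eq_mul.2 h.eq) y
  rw [Tv_conj hci huu, Tv_apply (by rw [hci, huu]), Tv_apply huu, add_right_inj] at h1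
  exact Submodule.mem_span_singleton.2 ⟨(a * A (c u) y)⁻¹ * (a * A u y), by
    rw [mul_smul, ← h1, inv_smul_smul₀ (mul_ne_zero ha hy)]⟩

/-- no involution commutes with transvections at two centres -/
theorem no_common (hA : Herm.IsHerm A) (h2 : (2 : F) = 0) {u v : Fin 3 → F} (hu0 : u ≠ 0) (hv0 : v ≠ 0)
    (huu : A u u = 0) (hvv : A v v = 0) (huv : A u v ≠ 0) {a b : F} (ha : a ≠ 0) (hb : b ≠ 0)
    {c : (Fin 3 → F) ≃ₗ[F] (Fin 3 → F)} (hci : ∀ x y, A (c x) (c y) = A x y) (hc : c * c = 1)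
    (h1 : Commute c (Tv A u a)) (h3 : Commute c (Tv A v b)) : c = 1 := by
  have hone : ∀ {w : Fin 3 → F} (t : F), c w = t • w → w ≠ 0 → c w = w := fun {w} t hw hw0 => by
    have h4 := LinearEquiv.congr_fun hc w
    rw [LinearEquiv.mul_apply, hw, map_smul, hw, smul_smul] at h4
    have h5 : (t * t - 1) • w = 0 := by rw [sub_smul, one_smul, h4]; exact sub_self _
    have h6 := (smul_eq_zero.1 h5).resolve_right hw0
    have : (t - 1) * (t - 1) = 0 := by linear_combination h6 - (t - 1) * h2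
    rw [hw, show t = 1 from sub_eq_zero.1 (mul_self_eq_zero.1 this), one_smul]
  have hne : ∀ {w : Fin 3 → F}, w ≠ 0 → ∃ y, A (c w) y ≠ 0 := fun {w} hw0 => by
    by_contra! hh
    exact hw0 (c.map_eq_zero_iff.1 (hA.nondeg _ hh))
  obtain ⟨y, hy⟩ := hne hu0
  obtain ⟨y', hy'⟩ := hne hv0
  obtain ⟨s, hs⟩ := Submodule.mem_span_singleton.1 (eigen_of_commute hci huu ha hy h1)
  obtain ⟨s', hs'⟩ := Submodule.mem_span_singleton.1 (eigen_of_commute hci hvv hb hy' h3)
  have hu := hone s hs.symm hu0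
  have hv := hone s' hs'.symm hv0
  obtain ⟨m, hm, hm0⟩ := (Unitary.perp A [u, v]).exists_mem_ne_zero_of_ne_bot fun h => by
    have hd := Unitary.finrank_perp (B := A) [u, v]
    rw [h, finrank_bot] at hd
    simp at hd
  have hum : A u m = 0 := Unitary.mem_perp.1 hm u (by simp)
  have hvm : A v m = 0 := Unitary.mem_perp.1 hm v (by simp)
  have hvu : A v u ≠ 0 := fun h => huv ((Herm.eq_zero_comm hA).1 h)
  have hli : LinearIndependent F ![u, v, m] := by
    rw [Fintype.linearIndependent_iff]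
    intro l hl
    have e1 := congrArg (A u) hl
    have e2 := congrArg (A v) hl
    simp [Fin.sum_univ_three, huu, huv, hum] at e1
    simp [Fin.sum_univ_three, hvu, hvv, hvm] at e2
    simp [Fin.sum_univ_three, e1, e2, hm0] at hl
    intro i; fin_cases i <;> assumption
  have hspan : ∀ y : Fin 3 → F, ∃ l : Fin 3 → F, l 0 • u + l 1 • v + l 2 • m = y := fun y => by
    have hy : y ∈ Submodule.span F (Set.range ![u, v, m]) := by
      rw [hli.span_eq_top_of_card_eq_finrank (by simp)]; trivial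
    obtain ⟨l, hl⟩ := (Submodule.mem_span_range_iff_exists_fun F).1 hy
    exact ⟨l, by simpa [Fin.sum_univ_three] using hl⟩
  obtain ⟨l, hl⟩ := hspan (c m)
  have h5 : A u (c m) = 0 := by rw [← hum, ← hci u m, hu]
  have h6 : A v (c m) = 0 := by rw [← hvm, ← hci v m, hv]
  rw [← hl] at h5 h6
  simp [huu, huv, hum] at h5
  simp [hvu, hvv, hvm] at h6
  have hm' : c m = m := hone (l 2) (by rw [← hl, h5, h6]; simp) hm0
  refine LinearEquiv.ext fun y => ?_
  obtain ⟨l, rfl⟩ := hspan y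
  rw [map_add, map_add, map_smul, map_smul, map_smul, hu, hv, hm']
  rfl

variable {F₀ : Subfield F} {X : Subgroup ((Fin 3 → F) ≃ₗ[F] (Fin 3 → F))} {k : F} {r : ℕ}

namespace Over

variable (hO : Over F₀ A X k r)
include hO

/-- transvections at independent isotropic points are swapped by an involution in the group -/
theorem exists_swap_mem (h2 : (2 : F) = 0) {u v : Fin 3 → F} (hu0 : u ≠ 0) (hv0 : v ≠ 0) (huu : A u u = 0) (hvv : A v v = 0)
    (huv : A u v ≠ 0) {a b : F} (ha : a ≠ 0) (hb : b ≠ 0) (hua : Tv A u a ∈ X) (hvb : Tv A v b ∈ X) :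
    ∃ c ∈ X, c * c = 1 ∧ c * Tv A u a * c⁻¹ = Tv A v b ∧ ∀ m, A u m = 0 → A v m = 0 → c m = m := by
  haveI := finite_gl (F := F)
  have hle : Subgroup.closure ({Tv A u a, Tv A v b} : Set ((Fin 3 → F) ≃ₗ[F] (Fin 3 → F))) ≤ X :=
    (Subgroup.closure_le _).2 (by rintro x (rfl | rfl) <;> assumption)
  obtain ⟨c, hc, hcc, hct⟩ := exists_swap (t := Tv A u a) (z := Tv A v b) (Tv_sq h2 huu a) (Tv_sq h2 hvv b)
    fun c hc hcc h1 h3 => no_common hO.herm h2 hu0 hv0 huu hvv huv ha hb (hO.iso (hle hc)) hcc h1 h3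
  refine ⟨c, hle hc, hcc, hct, fun m hum hvm => ?_⟩
  let S : Subgroup ((Fin 3 → F) ≃ₗ[F] (Fin 3 → F)) :=
    { carrier := {g | g m = m}
      mul_mem' := fun {g h} hg hh => by show g (h m) = m; rw [show h m = m from hh]; exact hg
      one_mem' := rfl
      inv_mem' := fun {g} hg => g.injective (by rw [apply_inv]; exact (show g m = m from hg).symm) }
  have hS : Subgroup.closure ({Tv A u a, Tv A v b} : Set ((Fin 3 → F) ≃ₗ[F] (Fin 3 → F))) ≤ S := by
    rw [Subgroup.closure_le]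
    rintro x (rfl | rfl)
    · show Tv A u a m = m
      rw [Tv_apply huu, hum]; simp
    · show Tv A v b m = m
      rw [Tv_apply hvv, hvm]; simp
  exact hS hc

end Over

end Cfsg.Agent.ClassicalMax.SU3.Sub
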